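import Groth.Agent.H9Quad.PolyHens

/-!
The henselization at the origin of a hypersurface in affine space over a henselian local ring.
-/

universe u

open IsLocalRing MvPolynomial

namespace Groth.Agent.H9Quad

theorem model_equiv {A : Type u} [CommRing A] [HenselianLocalRing A] {N : ℕ} (p : MvPolynomial (Fin N) A)
    (hp : constantCoeff p ∈ maximalIdeal A) (Q : Ideal (MvPolynomial (Fin N) A ⧸ Ideal.span {p})) [Q.IsPrime]
    (hQ : Q = (VanCyc.originIdeal A).map (Ideal.Quotient.mk _))
    (C : Type u) [CommRing C] [IsLocalRing C] [Algebra (Localization.AtPrime Q) C]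
    [IsLocalHom (algebraMap (Localization.AtPrime Q) C)] [hC : Hensel.IsHenselization (Localization.AtPrime Q) C]
    [Algebra A C] [IsScalarTower A (Localization.AtPrime Q) C]
    {R : Type u} [CommRing R] [IsLocalRing R] [Algebra A R] {X : Fin N → R} (hR : IsPolyHens A R X) :
    Nonempty ((R ⧸ Ideal.span {aeval X p}) ≃ₐ[A] C) := by
  classical
  haveI := hR.henselian
  haveI := hR.local_hom
  haveI : HenselianLocalRing C := hC.henselian
  let B := MvPolynomial (Fin N) A ⧸ Ideal.span {p}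
  let S := Localization.AtPrime Q
  let mk : MvPolynomial (Fin N) A →ₐ[A] B := Ideal.Quotient.mkₐ A _
  let κ : B →ₐ[A] C := (IsScalarTower.toAlgHom A S C).comp (IsScalarTower.toAlgHom A B S)
  have hpO : p ∈ (VanCyc.originIdeal A : Ideal (MvPolynomial (Fin N) A)) := by
    rw [originIdeal_eq, Ideal.mem_comap]; exact hp
  have hQ' : ∀ q, mk q ∈ Q ↔ constantCoeff q ∈ maximalIdeal A := fun q => by
    rw [hQ]
    show q ∈ ((VanCyc.originIdeal A).map _).comap (Ideal.Quotient.mk (Ideal.span {p})) ↔ _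
    rw [Ideal.comap_map_of_surjective _ Ideal.Quotient.mk_surjective, ← RingHom.ker_eq_comap_bot, Ideal.mk_ker,
      sup_eq_left.2 ((Ideal.span_singleton_le_iff_mem _).2 hpO), originIdeal_eq, Ideal.mem_comap]
  have hκ : ∀ b, b ∈ Q ↔ κ b ∈ maximalIdeal C := fun b => by
    show _ ↔ algebraMap S C (algebraMap B S b) ∈ maximalIdeal C
    rw [mem_maximalIdeal, map_mem_nonunits_iff (algebraMap S C), ← mem_maximalIdeal,
      IsLocalization.AtPrime.to_map_mem_maximal_iff S Q]
  haveI : IsLocalHom (algebraMap A C) := ((local_hom_TFAE _).out 0 2).mpr (Ideal.map_le_iff_le_comap.2 fun a ha => by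
    rw [Ideal.mem_comap, ← κ.commutes, ← hκ]
    show mk (MvPolynomial.C a) ∈ Q
    rw [hQ']
    simpa using ha)
  let y : Fin N → C := fun i => κ (mk (MvPolynomial.X i))
  have hy : ∀ i, y i ∈ maximalIdeal C := fun i => (hκ _).1 ((hQ' _).2 (by simp))
  obtain ⟨ψ, hψ, -⟩ := hR.univ C y hy
  have hψp : ∀ q, ψ (aeval X q) = κ (mk q) := fun q => by
    have : ψ.comp (aeval X) = κ.comp mk := MvPolynomial.algHom_ext fun i => by simp [hψ, y]
    exact AlgHom.congr_fun this q
  have hψ0 : ψ (aeval X p) = 0 := by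
    rw [hψp]
    have : mk p = 0 := Ideal.Quotient.eq_zero_iff_mem.2 (Ideal.mem_span_singleton_self p)
    rw [this, map_zero]
  let I : Ideal R := Ideal.span {aeval X p}
  let ψb : (R ⧸ I) →ₐ[A] C := Ideal.Quotient.liftₐ I ψ fun r hr => by
    obtain ⟨w, rfl⟩ := Ideal.mem_span_singleton'.1 hr
    rw [map_mul, hψ0, mul_zero]
  have hXm : ∀ q : MvPolynomial (Fin N) A, constantCoeff q ∈ maximalIdeal A → aeval X q ∈ maximalIdeal R := fun q hq => by
    have h1 : (VanCyc.originIdeal A : Ideal (MvPolynomial (Fin N) A)) ≤ (maximalIdeal R).comap (aeval X) := by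
      refine sup_le (Ideal.map_le_iff_le_comap.2 fun a ha => ?_) (Ideal.span_le.2 ?_)
      · rw [Ideal.mem_comap, Ideal.mem_comap, aeval_C]
        exact hR.algebraMap_mem ha
      · rintro _ ⟨i, rfl⟩
        simpa using hR.X_mem i
    exact h1 (by rw [originIdeal_eq, Ideal.mem_comap]; exact hq)
  haveI : Nontrivial (R ⧸ I) := by
    rw [Ideal.Quotient.nontrivial_iff]
    exact (((Ideal.span_singleton_le_iff_mem _).2 (hXm p hp)).trans_lt (maximalIdeal.isMaximal R).ne_top.lt_top).ne
  haveI : IsLocalRing (R ⧸ I) := IsLocalRing.of_surjective' _ Ideal.Quotient.mk_surjective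
  haveI : HenselianLocalRing (R ⧸ I) := H9Hens.henselianLocalRing_quotient I
  have hmkm : ∀ r ∈ maximalIdeal R, Ideal.Quotient.mk I r ∈ maximalIdeal (R ⧸ I) := fun r hr => by
    rw [← IsLocalRing.map_maximalIdeal_of_surjective (Ideal.Quotient.mk I) Ideal.Quotient.mk_surjective]
    exact Ideal.mem_map_of_mem _ hr
  let ρ : B →ₐ[A] R ⧸ I := Ideal.Quotient.liftₐ _ ((Ideal.Quotient.mkₐ A I).comp (aeval X)) fun q hq => by
    obtain ⟨w, rfl⟩ := Ideal.mem_span_singleton'.1 hq
    rw [map_mul, show (Ideal.Quotient.mkₐ A I).comp (aeval X) p = 0 from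
      Ideal.Quotient.eq_zero_iff_mem.2 (Ideal.mem_span_singleton_self _), mul_zero]
  have hρ : ∀ q, ρ (mk q) = Ideal.Quotient.mk I (aeval X q) := fun q => rfl
  have hu : ∀ s : Q.primeCompl, IsUnit (ρ.toRingHom s) := by
    rintro ⟨s, hs⟩
    obtain ⟨q, rfl⟩ := Ideal.Quotient.mk_surjective s
    have hq : IsUnit (constantCoeff q) := by
      by_contra h
      exact hs ((hQ' q).2 ((mem_maximalIdeal _).2 h))
    have h0 := hXm (q - MvPolynomial.C (constantCoeff q)) (by simp)
    rw [map_sub, aeval_C] at h0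
    have h1 : IsUnit (aeval X q) := by
      by_contra h
      have h2 := sub_mem ((mem_maximalIdeal _).2 h) h0
      rw [sub_sub_cancel] at h2
      exact (mem_maximalIdeal _).1 h2 (hq.map _)
    exact h1.map (Ideal.Quotient.mk I)
  let L : S →+* R ⧸ I := IsLocalization.lift (M := Q.primeCompl) (g := ρ.toRingHom) hu
  have hL : IsLocalHom L := ⟨fun w hw => by
    obtain ⟨x, s, rfl⟩ := IsLocalization.exists_mk'_eq Q.primeCompl w
    rw [IsLocalization.AtPrime.isUnit_mk'_iff]
    intro hx
    obtain ⟨q, rfl⟩ := Ideal.Quotient.mk_surjective x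
    have h2 : L (algebraMap _ S (Ideal.Quotient.mk (Ideal.span {p}) q)) ∈ maximalIdeal (R ⧸ I) := by
      rw [IsLocalization.lift_eq]; exact hmkm _ (hXm q ((hQ' q).1 hx))
    rw [← IsLocalization.mk'_spec S (Ideal.Quotient.mk (Ideal.span {p}) q) s, map_mul] at h2
    exact (mem_maximalIdeal _).1 h2 (hw.mul ((IsLocalization.map_units _ s).map L))⟩
  obtain ⟨g, hg, -⟩ := hC.universal (R ⧸ I) L hL
  have hgκ : ∀ b, g (κ b) = ρ b := fun b => by
    show g (algebraMap S C (algebraMap B S b)) = _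
    exact (RingHom.congr_fun hg _).trans (IsLocalization.lift_eq _ _)
  let gA : C →ₐ[A] R ⧸ I := { g with
    commutes' := fun a => by
      show g (algebraMap A C a) = _
      rw [← κ.commutes, hgκ, ρ.commutes] }
  haveI : IsLocalHom (algebraMap A (R ⧸ I)) := ((local_hom_TFAE _).out 0 2).mpr (Ideal.map_le_iff_le_comap.2 fun a ha => by
    rw [Ideal.mem_comap, ← Ideal.Quotient.mk_algebraMap]
    exact hmkm _ (hR.algebraMap_mem ha))
  have h1 : gA.comp ψ = Ideal.Quotient.mkₐ A I := (hR.hom_ext (φ := Ideal.Quotient.mkₐ A I)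
    (fun i => hmkm _ (hR.X_mem i)) fun i => by
      show Ideal.Quotient.mk I (X i) = g (ψ (X i))
      rw [hψ, hgκ, hρ, aeval_X]).symm
  have h2 : ψb.toRingHom.comp g = RingHom.id C := by
    refine (hC.universal C (algebraMap S C) inferInstance).unique ?_ rfl
    rw [RingHom.comp_assoc, hg]
    refine IsLocalization.ringHom_ext Q.primeCompl ?_
    rw [RingHom.comp_assoc, IsLocalization.lift_comp]
    have : ψb.comp ρ = κ := Ideal.Quotient.algHom_ext _ (MvPolynomial.algHom_ext fun i => by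
      show ψ (aeval X (MvPolynomial.X i)) = κ (mk (MvPolynomial.X i))
      rw [hψp])
    exact congrArg AlgHom.toRingHom this
  refine ⟨AlgEquiv.ofAlgHom ψb gA (AlgHom.ext fun c => RingHom.congr_fun h2 c) (Ideal.Quotient.algHom_ext _ ?_)⟩
  exact h1

end Groth.Agent.H9Quad
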