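import Groth.Agent.H9Quad.PointData
import Groth.Agent.H9Quad.Model

/-!
Deformations of non-degenerate quadratic points: the henselization is that of `Q = b`.
-/

universe u

open IsLocalRing TensorProduct Matrix

namespace Groth.Agent.H9Quad

/-- Setup on the closed fibre. -/
theorem isLocalRing_fibQuot {A : Type u} [CommRing A] [IsLocalRing A] {B₀ : Type u} [CommRing B₀] [Algebra A B₀]
    (P : Ideal B₀) [P.IsPrime] (hP : (maximalIdeal A).map (algebraMap A B₀) ≤ P) :
    IsLocalRing (VanCyc.fibQuot A (Localization.AtPrime P)) := by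
  haveI : Nontrivial (VanCyc.fibQuot A (Localization.AtPrime P)) := by
    rw [Ideal.Quotient.nontrivial_iff]
    intro htop
    have h1 : (maximalIdeal A).map (algebraMap A (Localization.AtPrime P)) ≤ maximalIdeal (Localization.AtPrime P) := by
      rw [← Localization.AtPrime.map_eq_maximalIdeal, IsScalarTower.algebraMap_eq A B₀ (Localization.AtPrime P),
        ← Ideal.map_map]
      exact Ideal.map_mono hP
    rw [htop] at h1
    exact (maximalIdeal.isMaximal _).ne_top (top_le_iff.1 h1)
  exact IsLocalRing.of_surjective' _ Ideal.Quotient.mk_surjective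

theorem henselization_iso_deformation (A : Type u) [CommRing A] [HenselianLocalRing A]
    (B₀ : Type u) [CommRing B₀] [Algebra A B₀] [Algebra.FinitePresentation A B₀]
    (P : Ideal B₀) [P.IsMaximal] (hP : (maximalIdeal A).map (algebraMap A B₀) ≤ P)
    (hPi : ∀ y : B₀, ∃ (e : ℕ) (c : A), y ^ ringExpChar (ResidueField A) ^ e - algebraMap A B₀ c ∈ P)
    [Module.Flat A (Localization.AtPrime P)] (n : ℕ)
    (hq : VanCyc.IsNondegQuadPt (VanCyc.fibHom A (Localization.AtPrime P)) n)
    (Bh : Type u) [CommRing Bh] [IsLocalRing Bh] [Algebra (Localization.AtPrime P) Bh]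
    [IsLocalHom (algebraMap (Localization.AtPrime P) Bh)] [hBh : Hensel.IsHenselization (Localization.AtPrime P) Bh]
    [Algebra A Bh] [IsScalarTower A (Localization.AtPrime P) Bh] :
    ∃ (a : Fin (n + 1) → Fin (n + 1) → A) (b : A), VanCyc.QuadNondeg a ∧ b ∈ maximalIdeal A ∧
      ∀ [(VanCyc.originQuot A a b).IsPrime] (C : Type u) [CommRing C] [IsLocalRing C]
        [Algebra (Localization.AtPrime (VanCyc.originQuot A a b)) C]
        [IsLocalHom (algebraMap (Localization.AtPrime (VanCyc.originQuot A a b)) C)]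
        [Hensel.IsHenselization (Localization.AtPrime (VanCyc.originQuot A a b)) C]
        [Algebra A C] [IsScalarTower A (Localization.AtPrime (VanCyc.originQuot A a b)) C],
        Nonempty (Bh ≃ₐ[A] C) := by
  classical
  let k := ResidueField A
  let B := Localization.AtPrime P
  let O := VanCyc.fibQuot A B
  let kb := AlgebraicClosure k
  letI algkO : Algebra k O := (VanCyc.fibHom A B).toAlgebra
  haveI := isLocalRing_fibQuot P hP
  haveI : IsScalarTower A k O := IsScalarTower.of_algebraMap_eq fun a => rfl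
  haveI : Algebra.EssFiniteType A B := by
    haveI : Algebra.EssFiniteType B₀ B := Algebra.EssFiniteType.of_isLocalization _ P.primeCompl
    exact Algebra.EssFiniteType.comp A B₀ B
  haveI : Algebra.EssFiniteType A O := Algebra.EssFiniteType.comp A B O
  haveI : Algebra.EssFiniteType k O := Algebra.EssFiniteType.of_comp A k O
  haveI : IsNoetherianRing O := Algebra.EssFiniteType.isNoetherianRing k O
  haveI : IsNoetherianRing (kb ⊗[k] O) := Algebra.EssFiniteType.isNoetherianRing kb (kb ⊗[k] O)
  let mk : B →+* O := Ideal.Quotient.mk _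
  have hmkm : ∀ x ∈ maximalIdeal B, mk x ∈ maximalIdeal O := fun x hx =>
    (IsLocalRing.map_maximalIdeal_of_surjective mk Ideal.Quotient.mk_surjective) ▸ Ideal.mem_map_of_mem mk hx
  have hpi : ∀ y : O, ∃ (e : ℕ) (c : k), y ^ ringExpChar k ^ e - algebraMap k O c ∈ maximalIdeal O := fun y => by
    obtain ⟨y, rfl⟩ := Ideal.Quotient.mk_surjective y
    obtain ⟨w, hw⟩ := exists_sub_mem P y
    obtain ⟨e, c, hc⟩ := hPi w
    refine ⟨e, residue A c, ?_⟩
    show mk y ^ _ - mk (algebraMap A B c) ∈ _
    rw [← map_pow, ← map_sub]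
    refine hmkm _ ?_
    have h1 : algebraMap B₀ B (w ^ ringExpChar k ^ e - algebraMap A B₀ c) ∈ maximalIdeal B := by
      rw [IsLocalization.AtPrime.to_map_mem_maximal_iff B P]; exact hc
    rw [map_sub, map_pow, ← IsScalarTower.algebraMap_apply] at h1
    obtain ⟨d, hd⟩ := sub_dvd_pow_sub_pow y (algebraMap B₀ B w) (ringExpChar k ^ e)
    rw [show y ^ ringExpChar k ^ e - algebraMap A B c = (y - algebraMap B₀ B w) * d +
      (algebraMap B₀ B w ^ ringExpChar k ^ e - algebraMap A B c) by rw [← hd]; ring]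
    exact add_mem (Ideal.mul_mem_right _ _ hw) h1
  haveI : Nontrivial (kb ⊗[k] O) :=
    Algebra.TensorProduct.nontrivial_of_algebraMap_injective_of_flat_left k kb O (algebraMap k O).injective
  obtain ⟨M, hM⟩ := Ideal.exists_maximal (kb ⊗[k] O)
  haveI := hM
  obtain ⟨f, ⟨hf, hfq⟩, ⟨e⟩⟩ := hq M
  haveI : Algebra.IsAlgebraic k kb := inferInstance
  have hk : ∀ x : O, ∃ c : k, x - algebraMap k O c ∈ maximalIdeal O :=
    fun x => residue_trivial_of_nondeg hpi M hf hfq e x
  have hf0 : VanCyc.quadPart f ≠ 0 := fun h => by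
    rw [VanCyc.QuadNondeg, h, show VanCyc.polarMatrix (0 : Fin (n + 1) → Fin (n + 1) → kb) = 0 from
      Matrix.ext fun i j => by simp [VanCyc.polarMatrix], Matrix.det_zero] at hfq
    exact not_isUnit_zero hfq
  obtain ⟨bB, f', L, Θ, hbm, hgen, hres, hL, hquad, hΘ⟩ := exists_point_map P hP kb rfl hk M hf hf0 e Bh
  obtain ⟨R, _, _, _, X, hR⟩ := exists_polyHens A (n + 1)
  haveI := hR.henselian
  haveI := hR.local_hom
  obtain ⟨ψ, hψX, hψsurj, hψfg⟩ := exists_presentation P Bh hP hres bB hbm hgen hR
  obtain ⟨a, c, F, hc, hac, hF, hFa, hker⟩ := exists_relation hΘ hR ψ hψX hψsurj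
  haveI := flat_hens (A := A) P Bh
  haveI := isLocalHom_hens P Bh hP
  have hkerF := ker_eq_span ψ hψsurj hψfg hF hker
  -- the quadratic form of the relation is non-degenerate
  have hndeg : VanCyc.QuadNondeg a := by
    have h1 := polar_eq_of_quadEval hquad
    have h2 : IsUnit (VanCyc.polarMatrix (VanCyc.quadPart f')).det := by
      rw [VanCyc.QuadNondeg, h1, det_mul, det_mul, det_transpose] at hfq
      exact isUnit_of_mul_isUnit_right (isUnit_of_mul_isUnit_left hfq)
    let ι : A →+* kb := (algebraMap k kb).comp (residue A)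
    have h3 : (VanCyc.polarMatrix a).map ι = c • VanCyc.polarMatrix (VanCyc.quadPart f') := by
      ext i j
      simp only [Matrix.map_apply, Matrix.smul_apply, smul_eq_mul, VanCyc.polarMatrix]
      rcases lt_trichotomy i j with hij | rfl | hij
      · rw [if_neg hij.ne, if_pos hij, if_neg hij.ne, if_pos hij]; exact hac i j hij.le
      · rw [if_pos rfl, if_pos rfl, map_mul, map_ofNat, show ι (a i i) = _ from hac i i le_rfl, mul_left_comm]
      · rw [if_neg hij.ne', if_neg hij.not_gt, if_neg hij.ne', if_neg hij.not_gt]; exact hac j i hij.le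
    refine isUnit_of_map_unit (residue A) _ (isUnit_of_map_unit (algebraMap k kb) _ ?_)
    show IsUnit (ι _)
    rw [RingHom.map_det, RingHom.mapMatrix_apply, h3, det_smul]
    exact ((isUnit_iff_ne_zero.2 hc).pow _).mul h2
  have hFm : F ∈ maximalIdeal R := by
    rw [mem_maximalIdeal, mem_nonunits_iff]
    intro hu
    have h1 := hu.map ψ
    rw [show ψ F = 0 from hF] at h1
    exact not_isUnit_zero h1
  obtain ⟨a', b', σ, ha', hb', hσ⟩ := hR.exists_normal_form hndeg hFm hFa
  refine ⟨a', b', ha', hb', ?_⟩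
  intro hQ C _ _ _ _ _ _ _
  let p := VanCyc.quadPoly a' - MvPolynomial.C b'
  have hp0 : MvPolynomial.constantCoeff (VanCyc.quadPoly a') = 0 := by
    simp [VanCyc.quadPoly, map_sum, apply_ite MvPolynomial.constantCoeff]
  obtain ⟨em⟩ := model_equiv p (by simp [p, hp0, neg_mem_iff, hb']) (VanCyc.originQuot A a' b') rfl C hR
  have hpX : MvPolynomial.aeval X p = VanCyc.quadEval (fun i j => algebraMap A R (a' i j)) X - algebraMap A R b' := by
    simp [p, aeval_quadPoly]
  let e2 : (R ⧸ Ideal.span {MvPolynomial.aeval X p}) ≃ₐ[A] R ⧸ RingHom.ker ψ :=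
    Ideal.quotientEquivAlg _ _ σ (by
      rw [hkerF, Ideal.map_span, Set.image_singleton, hpX]
      exact congrArg (fun x => Ideal.span {x}) hσ.symm)
  exact ⟨((Ideal.quotientKerAlgEquivOfSurjective hψsurj).symm.trans e2.symm).trans em⟩

end Groth.Agent.H9Quad
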