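import Groth.Agent.H9Quad.PointData

/-!
Adapted coordinates for a degenerate ordinary quadratic form in characteristic two.
-/

universe u

open IsLocalRing Matrix

namespace Groth.Agent.H9Quad

theorem quadEval_cons {R : Type u} [CommRing R] {m : ℕ} (a : Fin (m + 1) → Fin (m + 1) → R) (x : Fin (m + 1) → R) :
    VanCyc.quadEval a x = a 0 0 * x 0 ^ 2 + (∑ j : Fin m, a 0 j.succ * x 0 * x j.succ) +
      VanCyc.quadEval (fun i j => a i.succ j.succ) (fun i => x i.succ) := by
  simp only [VanCyc.quadEval, Fin.sum_univ_succ, Fin.zero_le, if_true, le_refl, Fin.succ_le_succ_iff,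
    Fin.le_zero_iff, Fin.succ_ne_zero, if_false, zero_add]
  ring

theorem quadEval_map {R S : Type u} [CommRing R] [CommRing S] (φ : R →+* S) {N : ℕ} {a b : Fin N → Fin N → R}
    {T : Matrix (Fin N) (Fin N) R} (hb : ∀ i j, (h : i ≤ j) → b i j = up (Tᵀ * upper a * T) ⟨(i, j), h⟩)
    (x : Fin N → S) :
    VanCyc.quadEval (fun i j => φ (a i j)) (T.map φ *ᵥ x) = VanCyc.quadEval (fun i j => φ (b i j)) x := by
  have e1 : upper (fun i j => φ (a i j)) = (upper a).map φ := by ext i j; simp [upper, apply_ite φ]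
  rw [quadEval_eq, e1, mulVec_mulVec, ← vecMul_transpose, ← dotProduct_mulVec, mulVec_mulVec,
    ← Matrix.transpose_map, ← Matrix.map_mul, ← Matrix.map_mul, ← Matrix.mul_assoc, dotProduct_mulVec_self]
  simp only [VanCyc.quadEval]
  rw [← Fintype.sum_prod_type' (f := fun i j => if i ≤ j then φ (b i j) * x i * x j else 0), ← Finset.sum_filter]
  refine Eq.trans ?_ (Finset.sum_subtype (p := fun p : Fin N × Fin N => p.1 ≤ p.2) (F := Subtype.fintype _) _
    (by simp) _).symm
  refine Finset.sum_congr rfl fun p _ => ?_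
  rw [← up_map, hb p.1.1 p.1.2 p.2]
  ring

/-- Coordinates in which a degenerate ordinary form is `u x₀² + Q'` with `Q'` non-degenerate. -/
theorem exists_adapted_coordinates {A : Type u} [CommRing A] [IsLocalRing A] {K : Type u} [Field K] [IsAlgClosed K]
    (ι : A →+* K) (hι : ∀ a, ι a = 0 ↔ a ∈ maximalIdeal A) {m : ℕ} (a : Fin (m + 1) → Fin (m + 1) → A)
    (hord : VanCyc.QuadOrd fun i j => ι (a i j)) (hdet : (VanCyc.polarMatrix fun i j => ι (a i j)).det = 0) :
    ∃ (T : Matrix (Fin (m + 1)) (Fin (m + 1)) A) (b : Fin (m + 1) → Fin (m + 1) → A), IsUnit T.det ∧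
      (∀ i j, (h : i ≤ j) → b i j = up (Tᵀ * upper a * T) ⟨(i, j), h⟩) ∧ IsUnit (b 0 0) ∧
      (∀ j : Fin m, b 0 j.succ ∈ maximalIdeal A) ∧ VanCyc.QuadNondeg (fun i j => b i.succ j.succ) := by
  classical
  let k := ResidueField A
  let ι' : k →+* K := Ideal.Quotient.lift (maximalIdeal A) ι fun x hx => (hι x).2 hx
  have hι' : ∀ x, ι' (residue A x) = ι x := fun x => rfl
  let ab : Fin (m + 1) → Fin (m + 1) → k := fun i j => residue A (a i j)
  have habm : VanCyc.polarMatrix (fun i j => ι (a i j)) = (VanCyc.polarMatrix ab).map ι' := by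
    ext i j
    simp only [VanCyc.polarMatrix, Matrix.map_apply, ab]
    split_ifs <;> simp [hι', map_ofNat]
  have hdet' : (VanCyc.polarMatrix ab).det = 0 := by
    apply ι'.injective
    rw [map_zero, RingHom.map_det, RingHom.mapMatrix_apply, ← habm, hdet]
  obtain ⟨v0, hv0, hPv0⟩ := Matrix.exists_mulVec_eq_zero_iff.2 hdet'
  have hu0 : VanCyc.quadEval ab v0 ≠ 0 := fun h0 => by
    apply hv0
    have h1 := hord (fun i => ι' (v0 i)) (by
      have := congrArg ι' h0
      rw [map_quadEval, map_zero] at this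
      simpa [ab, hι'] using this) (by
      rw [habm]
      ext i
      have := congrArg ι' (congrFun hPv0 i)
      rw [RingHom.map_mulVec] at this
      simp only [Pi.zero_apply, map_zero] at this ⊢
      exact this)
    funext i
    exact ι'.injective (by simpa using congrFun h1 i)
  obtain ⟨j0, hj0⟩ : ∃ j, v0 j ≠ 0 := by
    by_contra hne
    push Not at hne
    exact hv0 (funext hne)
  let Tk : Matrix (Fin (m + 1)) (Fin (m + 1)) k := Matrix.of fun i j =>
    if j = 0 then v0 i else (1 : Matrix (Fin (m + 1)) (Fin (m + 1)) k) i (Equiv.swap 0 j0 j)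
  have hTk0 : ∀ w, Tk *ᵥ w = 0 → w = 0 := fun w hw => by
    have hrow : ∀ i, v0 i * w 0 + ∑ j : Fin m, (1 : Matrix (Fin (m + 1)) (Fin (m + 1)) k) i
        (Equiv.swap 0 j0 j.succ) * w j.succ = 0 := fun i => by
      have := congrFun hw i
      simpa [Matrix.mulVec, dotProduct, Fin.sum_univ_succ, Tk] using this
    have hne : ∀ j : Fin m, Equiv.swap 0 j0 j.succ ≠ j0 := fun j e => by
      exact Fin.succ_ne_zero j ((Equiv.swap 0 j0).injective (e.trans (Equiv.swap_apply_left 0 j0).symm))
    have hw0 : w 0 = 0 := by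
      have := hrow j0
      simp only [Matrix.one_apply, if_neg (hne _).symm, zero_mul, Finset.sum_const_zero, add_zero] at this
      exact (mul_eq_zero.1 this).resolve_left hj0
    funext i
    refine Fin.cases hw0 (fun j => ?_) i
    have := hrow (Equiv.swap 0 j0 j.succ)
    simpa [hw0, Matrix.one_apply, Finset.sum_ite_eq, Fin.succ_inj] using this
  have hTkdet : Tk.det ≠ 0 := fun h0 => by
    obtain ⟨w, hw, hTw⟩ := Matrix.exists_mulVec_eq_zero_iff.2 h0
    exact hw (hTk0 w hTw)
  choose lift hlift using residue_surjective (R := A)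
  let T : Matrix (Fin (m + 1)) (Fin (m + 1)) A := Matrix.of fun i j => lift (Tk i j)
  have hTm : T.map (residue A) = Tk := by ext i j; simp [T, hlift]
  have hTdet : IsUnit T.det := by
    refine isUnit_of_map_unit (residue A) _ ?_
    rw [RingHom.map_det, RingHom.mapMatrix_apply, hTm]
    exact isUnit_iff_ne_zero.2 hTkdet
  let b : Fin (m + 1) → Fin (m + 1) → A := fun i j => if h : i ≤ j then up (Tᵀ * upper a * T) ⟨(i, j), h⟩ else 0
  have hb : ∀ i j, (h : i ≤ j) → b i j = up (Tᵀ * upper a * T) ⟨(i, j), h⟩ := fun i j h => dif_pos h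
  let bb : Fin (m + 1) → Fin (m + 1) → k := fun i j => residue A (b i j)
  have hq : ∀ x, VanCyc.quadEval bb x = VanCyc.quadEval ab (Tk *ᵥ x) := fun x => by
    rw [← hTm]
    exact (quadEval_map (residue A) hb x).symm
  have hP := polar_eq_of_quadEval hq
  have hTe : Tk *ᵥ Pi.single 0 1 = v0 := by
    rw [mulVec_single_one]; funext i; simp [Tk]
  have hPe : VanCyc.polarMatrix bb *ᵥ Pi.single 0 1 = 0 := by
    rw [hP, ← mulVec_mulVec, ← mulVec_mulVec, hTe, hPv0, mulVec_zero]
  have hsym : ∀ i j, VanCyc.polarMatrix bb i j = VanCyc.polarMatrix bb j i := fun i j => by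
    rw [polarMatrix_eq]; simp [add_comm]
  have hrow0 : ∀ j, VanCyc.polarMatrix bb 0 j = 0 := fun j => by
    have := congrFun hPe j
    rw [mulVec_single_one] at this
    rw [hsym]; exact this
  have hb00 : bb 0 0 = VanCyc.quadEval ab v0 := by
    rw [← hTe, ← hq, quadEval_eq, single_one_dotProduct, mulVec_single_one]
    simp [upper]
  have hcross : ∀ j : Fin m, bb 0 j.succ = 0 := fun j => by
    have := hrow0 j.succ
    simpa [VanCyc.polarMatrix, (Fin.succ_ne_zero j).symm, Fin.succ_pos] using this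
  refine ⟨T, b, hTdet, hb, ?_, fun j => (residue_eq_zero_iff _).1 (hcross j), ?_⟩
  · exact isUnit_of_map_unit (residue A) _ (isUnit_iff_ne_zero.2 (hb00.trans_ne hu0))
  -- the side form
  let bs : Fin m → Fin m → k := fun i j => bb i.succ j.succ
  have hmap : (VanCyc.polarMatrix fun i j => b i.succ j.succ).map (residue A) = VanCyc.polarMatrix bs := by
    ext i j
    simp only [VanCyc.polarMatrix, Matrix.map_apply, bs, bb]
    split_ifs <;> simp [map_ofNat]
  refine isUnit_of_map_unit (residue A) _ ?_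
  rw [RingHom.map_det, RingHom.mapMatrix_apply, hmap, isUnit_iff_ne_zero]
  intro h0
  obtain ⟨w, hw, hPw⟩ := Matrix.exists_mulVec_eq_zero_iff.2 h0
  let v : Fin (m + 1) → k := Fin.cons 0 w
  have hPv : VanCyc.polarMatrix bb *ᵥ v = 0 := by
    funext i
    refine Fin.cases ?_ (fun i' => ?_) i
    · simp [Matrix.mulVec, dotProduct, hrow0]
    · have := congrFun hPw i'
      simp only [Matrix.mulVec, dotProduct, Fin.sum_univ_succ, v, Fin.cons_zero, mul_zero, zero_add, Fin.cons_succ]
      refine Eq.trans ?_ this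
      refine Finset.sum_congr rfl fun j _ => ?_
      simp only [VanCyc.polarMatrix, bs, Fin.succ_inj, Fin.succ_lt_succ_iff]
  obtain ⟨t, ht⟩ := IsAlgClosed.exists_pow_nat_eq
    (-ι' (VanCyc.quadEval bb v) / ι' (bb 0 0)) two_pos
  let z : Fin (m + 1) → K := (fun i => ι' (v i)) + t • Pi.single 0 1
  have hb0 : ι' (bb 0 0) ≠ 0 := by
    rw [map_ne_zero]; exact hb00.trans_ne hu0
  have hPz : (VanCyc.polarMatrix fun i j => ι (b i j)) *ᵥ z = 0 := by
    have hm : (VanCyc.polarMatrix fun i j => ι (b i j)) = (VanCyc.polarMatrix bb).map ι' := by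
      ext i j
      simp only [VanCyc.polarMatrix, Matrix.map_apply, bb]
      split_ifs <;> simp [hι', map_ofNat]
    rw [hm, mulVec_add, mulVec_smul, mulVec_single_one]
    funext i
    have e1 := congrArg ι' (congrFun hPv i)
    rw [RingHom.map_mulVec] at e1
    have e2 : (VanCyc.polarMatrix bb) i 0 = 0 := by rw [hsym]; exact hrow0 i
    simp only [Pi.add_apply, Pi.smul_apply, Pi.zero_apply, smul_eq_mul, Matrix.col_apply, Matrix.map_apply, e2,
      map_zero, mul_zero, add_zero]
    exact e1.trans (map_zero ι')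
  have hqz : VanCyc.quadEval (fun i j => ι (b i j)) z = 0 := by
    have hqv : VanCyc.quadEval (fun i j => ι (b i j)) (fun i => ι' (v i)) = ι' (VanCyc.quadEval bb v) := by
      rw [map_quadEval]; rfl
    have e := dotProduct_polar (fun i j => ι (b i j)) (fun i => ι' (v i)) (t • Pi.single 0 1)
    have hP0 : (VanCyc.polarMatrix fun i j => ι (b i j)) *ᵥ (t • Pi.single 0 1) = 0 := by
      rw [mulVec_smul, mulVec_single_one]
      funext i
      have : (VanCyc.polarMatrix fun i j => ι (b i j)) i 0 = ι' (VanCyc.polarMatrix bb i 0) := by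
        simp only [VanCyc.polarMatrix, bb]
        split_ifs <;> simp [hι', map_ofNat]
      simp only [Pi.smul_apply, Pi.zero_apply, smul_eq_mul, Matrix.col_apply, this]
      rw [hsym, hrow0, map_zero, mul_zero]
    rw [hP0, dotProduct_zero, hqv] at e
    have e2 : VanCyc.quadEval (fun i j => ι (b i j)) (t • Pi.single 0 1) = t ^ 2 * ι' (bb 0 0) := by
      rw [quadEval_eq, mulVec_smul, dotProduct_smul, smul_dotProduct, single_one_dotProduct, mulVec_single_one]
      simp [upper, bb, hι', pow_two, mul_assoc]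
    rw [e2, eq_comm, sub_sub, sub_eq_zero] at e
    rw [show VanCyc.quadEval (fun i j => ι (b i j)) z = _ from e, ht, div_mul_cancel₀ _ hb0, add_neg_cancel]
  have hTz : (T.map ι) *ᵥ z = 0 := by
    refine hord _ ?_ ?_
    · exact (quadEval_map ι hb z).trans hqz
    · have h1 := polar_eq_of_quadEval (a := fun i j => ι (b i j)) (a' := fun i j => ι (a i j)) (L := T.map ι)
        fun x => (quadEval_map ι hb x).symm
      have hT : IsUnit ((T.map ι)ᵀ).det := by
        rw [det_transpose, ← RingHom.mapMatrix_apply, ← RingHom.map_det]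
        exact hTdet.map ι
      have h2 := hPz
      rw [h1, ← mulVec_mulVec, ← mulVec_mulVec] at h2
      have := congrArg (fun y => ((T.map ι)ᵀ)⁻¹ *ᵥ y) h2
      simpa [mulVec_mulVec, ← Matrix.mul_assoc, Matrix.nonsing_inv_mul _ hT] using this
  have hz : z = 0 := by
    have hT : IsUnit (T.map ι).det := by
      rw [← RingHom.mapMatrix_apply, ← RingHom.map_det]; exact hTdet.map ι
    have := congrArg (fun y => (T.map ι)⁻¹ *ᵥ y) hTz
    simpa [mulVec_mulVec, Matrix.nonsing_inv_mul _ hT] using this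
  apply hw
  funext i
  have := congrFun hz i.succ
  simpa [z, v, Fin.succ_ne_zero] using this

end Groth.Agent.H9Quad
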