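import Groth.Agent.H9Quad.RelForm

/-!
Weierstrass preparation for a quadratic leading term in one variable of the henselized polynomial ring.
-/

universe u

open IsLocalRing

namespace Groth.Agent.H9Quad

open H02CA.PS in
theorem exists_monic_quadratic {A : Type u} [CommRing A] [HenselianLocalRing A] {m : ℕ} {R : Type u} [CommRing R]
    [IsLocalRing R] [Algebra A R] {X : Fin (m + 1) → R} (h : IsPolyHens A R X) (e0 : R →ₐ[A] R)
    (he00 : e0 (X 0) = X 0) (he0S : ∀ i : Fin m, e0 (X i.succ) = 0) {φ0 : R} (hφ : e0 φ0 = φ0) {u : A}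
    (hu : IsUnit u)
    (hφu : φ0 - algebraMap A R u * X 0 ^ 2 ∈ maximalIdeal R ^ 3 ⊔ (maximalIdeal A).map (algebraMap A R)) :
    ∃ (b c : A) (v : R), b ∈ maximalIdeal A ∧ c ∈ maximalIdeal A ∧ IsUnit v ∧
      v * φ0 = X 0 ^ 2 + algebraMap A R b * X 0 + algebraMap A R c := by
  classical
  haveI := h.henselian
  haveI := h.local_hom
  haveI : IsLocalHom (algebraMap A A) := ⟨fun _ hx => hx⟩
  let I := (maximalIdeal A).map (algebraMap A R)
  have hIm : I ≤ maximalIdeal R := (sup_le_iff.1 h.maximal_eq.symm.le).1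
  have hφm : φ0 ∈ maximalIdeal R := by
    have h1 := sup_le (Ideal.pow_le_self three_ne_zero) hIm hφu
    simpa using add_mem h1 (Ideal.mul_mem_left _ (algebraMap A R u) (Ideal.pow_mem_of_mem _ (h.X_mem 0) 2 two_pos))
  let y : Fin (m + 1) → R := Fin.cons φ0 fun i => X i.succ
  have hym : ∀ i, y i ∈ maximalIdeal R := Fin.cases hφm fun i => h.X_mem _
  obtain ⟨ψ, hψ, -⟩ := h.univ R y hym
  haveI := h.isLocalHom_of_mem ψ fun i => (hψ i).symm ▸ hym i
  have hcomap : (maximalIdeal R).comap (algebraMap A R) = maximalIdeal A :=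
    ((local_hom_TFAE _).out 0 4).mp h.local_hom
  obtain ⟨ε, hε, hεker⟩ := h.exists_section (fun _ => (0 : A)) fun _ => zero_mem _
  have hεsub : ∀ w, ∃ q : Fin (m + 1) → R, ∑ i, q i * X i = w - algebraMap A R (ε w) := fun w => by
    have h1 : w - algebraMap A R (ε w) ∈ RingHom.ker ε := by simp
    rw [hεker] at h1
    simpa using Ideal.mem_span_range_iff_exists_fun.1 h1
  let J := I ⊔ Ideal.span (Set.range y)
  have hyJ : ∀ i, y i ∈ J := fun i => Ideal.mem_sup_right (Ideal.subset_span ⟨i, rfl⟩)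
  have hmJ : maximalIdeal R ≤ J ⊔ Ideal.span {X 0} := by
    rw [h.maximal_eq]
    refine sup_le (le_sup_left.trans le_sup_left) (Ideal.span_le.2 ?_)
    rintro _ ⟨i, rfl⟩
    refine Fin.cases ?_ (fun j => ?_) i
    · exact Ideal.mem_sup_right (Ideal.mem_span_singleton_self _)
    · exact Ideal.mem_sup_left (hyJ j.succ)
  have hX2 : X 0 ^ 2 ∈ J := by
    obtain ⟨p, hp, v, hv, hpv⟩ := Submodule.mem_sup.1 hφu
    have hp3 : p ∈ J ⊔ Ideal.span {X 0 ^ 3} := by
      rw [← Ideal.span_singleton_pow]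
      refine (Ideal.pow_right_mono hmJ 3).trans ?_ hp
      have : ∀ n : ℕ, (J ⊔ Ideal.span {X 0}) ^ n ≤ J ⊔ Ideal.span {X 0} ^ n := by
        intro n
        induction n with
        | zero => simp
        | succ n ih =>
          rw [pow_succ, pow_succ]
          refine (Ideal.mul_mono ih le_rfl).trans ?_
          rw [Ideal.sup_mul]
          refine sup_le ((Ideal.mul_le.2 fun x hx z _ => Ideal.mul_mem_right _ _ hx).trans le_sup_left) ?_
          rw [Ideal.mul_sup]
          exact sup_le ((Ideal.mul_le.2 fun x _ z hz => Ideal.mul_mem_left _ _ hz).trans le_sup_left) le_sup_right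
      exact this 3
    obtain ⟨j, hj, w, hw, rfl⟩ := Submodule.mem_sup.1 hp3
    obtain ⟨z, rfl⟩ := Ideal.mem_span_singleton'.1 hw
    have hunit : IsUnit (algebraMap A R u + z * X 0) := by
      by_contra hn
      have := sub_mem ((mem_maximalIdeal _).2 hn : algebraMap A R u + z * X 0 ∈ maximalIdeal R)
        (Ideal.mul_mem_left _ z (h.X_mem 0))
      rw [add_sub_cancel_right] at this
      exact (mem_maximalIdeal _).1 this (hu.map _)
    have h1 : (algebraMap A R u + z * X 0) * X 0 ^ 2 ∈ J := by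
      have e : (algebraMap A R u + z * X 0) * X 0 ^ 2 = φ0 - j - v := by linear_combination hpv
      rw [e]
      exact sub_mem (sub_mem (hyJ 0) hj) (Ideal.mem_sup_left hv)
    exact (Ideal.unit_mul_mem_iff_mem _ hunit).1 h1
  have hspan : ∀ w : R, ∃ a : Fin 2 → A, w - ∑ s, algebraMap A R (a s) * (![1, X 0] : Fin 2 → R) s ∈
      ((maximalIdeal R).comap (algebraMap A R)).map (algebraMap A R) ⊔ Ideal.span (Set.range y) := fun w => by
    rw [hcomap]
    obtain ⟨q, hq⟩ := hεsub w
    obtain ⟨q', hq'⟩ := hεsub (q 0)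
    refine ⟨![ε w, ε (q 0)], ?_⟩
    simp only [Fin.sum_univ_two, Matrix.cons_val_zero, Matrix.cons_val_one, mul_one]
    have e : w - (algebraMap A R (ε w) + algebraMap A R (ε (q 0)) * X 0) =
        q' 0 * X 0 ^ 2 + (∑ i : Fin m, q' i.succ * X i.succ) * X 0 + ∑ i : Fin m, q i.succ * X i.succ := by
      rw [Fin.sum_univ_succ] at hq hq'
      linear_combination (-1 : R) * hq + (-X 0) * hq'
    rw [e]
    have hsum : ∀ q : Fin (m + 1) → R, ∑ i : Fin m, q i.succ * X i.succ ∈ J := fun q =>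
      Ideal.sum_mem _ fun i _ => Ideal.mul_mem_left _ _ (hyJ i.succ)
    exact add_mem (add_mem (Ideal.mul_mem_left _ _ hX2) (Ideal.mul_mem_right _ _ (hsum q'))) (hsum q)
  obtain ⟨bb, hbb⟩ := exists_combination_of_parameters h.eft y hym ![1, X 0] hspan ψ X hψ (X 0 ^ 2)
  simp only [Fin.sum_univ_two, Matrix.cons_val_zero, Matrix.cons_val_one, mul_one] at hbb
  have hψε : ∀ w, ψ w - algebraMap A R (ε w) ∈ Ideal.span (Set.range y) := fun w => by
    obtain ⟨q, hq⟩ := hεsub w
    have := congrArg ψ hq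
    rw [map_sum, map_sub, AlgHom.commutes] at this
    rw [← this]
    exact Ideal.sum_mem _ fun i _ => by
      rw [map_mul, hψ]; exact Ideal.mul_mem_left _ _ (Ideal.subset_span ⟨i, rfl⟩)
  set c := -ε (bb 0)
  set b := -ε (bb 1)
  set p := X 0 ^ 2 + algebraMap A R b * X 0 + algebraMap A R c
  have hp : p ∈ Ideal.span (Set.range y) := by
    have e : p = (ψ (bb 0) - algebraMap A R (ε (bb 0))) + (ψ (bb 1) - algebraMap A R (ε (bb 1))) * X 0 := by
      simp only [p, b, c, map_neg]; linear_combination hbb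
    rw [e]
    exact add_mem (hψε _) (Ideal.mul_mem_right _ _ (hψε _))
  have hep : e0 p = p := by simp [p, he00]
  obtain ⟨q, hq⟩ := Ideal.mem_span_range_iff_exists_fun.1 hp
  have hv : e0 (q 0) * φ0 = p := by
    have := congrArg e0 hq
    rw [hep, map_sum, Fin.sum_univ_succ] at this
    simpa [y, hφ, he0S] using this
  -- reduction modulo the maximal ideal of the base
  let k := ResidueField A
  let Sp := MvPowerSeries (Fin (m + 1)) k
  let V := vars (Fin (m + 1)) k
  have hVS : maximalIdeal Sp = V := maximalIdeal_eq_vars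
  haveI hSh : HenselianLocalRing Sp := by
    haveI hc : IsAdicComplete V Sp := inferInstanceAs
      (IsAdicComplete (Ideal.span (Set.range (MvPowerSeries.X : Fin (m + 1) → Sp))) Sp)
    haveI : HenselianRing Sp (maximalIdeal Sp) := by rw [hVS]; infer_instance
    exact H9Hens.henselianLocalRing_of_henselianRing
  letI algAS : Algebra A Sp := ((MvPowerSeries.C (σ := Fin (m + 1))).comp (residue A)).toAlgebra
  haveI : IsLocalHom (algebraMap A Sp) := ⟨fun a ha => by
    have h1 : IsUnit (residue A a) := by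
      simpa [RingHom.algebraMap_toAlgebra, MvPowerSeries.isUnit_iff_constantCoeff] using ha
    exact isUnit_of_map_unit (residue A) a h1⟩
  have hXV : ∀ i, (MvPowerSeries.X i : Sp) ∈ maximalIdeal Sp := fun i => hVS.symm.le (Ideal.subset_span ⟨i, rfl⟩)
  obtain ⟨κ, hκ, -⟩ := h.univ Sp (fun i => MvPowerSeries.X i) hXV
  have hκm : ∀ z ∈ maximalIdeal R, κ z ∈ V := fun z hz =>
    hVS.le (h.map_mem κ (fun i => (hκ i).symm ▸ hXV i) hz)
  have hκalg : ∀ a, κ (algebraMap A R a) = MvPowerSeries.C (residue A a) := fun a => κ.commutes a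
  have hκ3 : κ φ0 - MvPowerSeries.C (residue A u) * MvPowerSeries.X 0 ^ 2 ∈ V ^ 3 := by
    obtain ⟨p', hp', v', hv', hpv⟩ := Submodule.mem_sup.1 hφu
    have e : κ φ0 - MvPowerSeries.C (residue A u) * MvPowerSeries.X 0 ^ 2 = κ p' + κ v' := by
      rw [← map_add, hpv, map_sub, map_mul, map_pow, hκalg, hκ]
    rw [e]
    have h0 : κ v' = 0 := by
      have : I ≤ RingHom.ker κ := Ideal.map_le_iff_le_comap.2 fun a ha => by
        rw [Ideal.mem_comap, RingHom.mem_ker, hκalg, (residue_eq_zero_iff a).2 ha, map_zero]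
      exact this hv'
    rw [h0, add_zero]
    have h1 : (maximalIdeal R).map κ ≤ V := Ideal.map_le_iff_le_comap.2 hκm
    have := Ideal.mem_map_of_mem κ hp'
    rw [Ideal.map_pow] at this
    exact Ideal.pow_right_mono h1 3 this
  set w := κ (e0 (q 0))
  set w0 := MvPowerSeries.constantCoeff w
  have hκp : MvPowerSeries.X 0 ^ 2 + MvPowerSeries.C (residue A b) * MvPowerSeries.X 0 +
      MvPowerSeries.C (residue A c) - MvPowerSeries.C (w0 * residue A u) * MvPowerSeries.X 0 ^ 2 ∈ V ^ 3 := by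
    have e : κ p = w * κ φ0 := by rw [← hv, map_mul]
    simp only [p, map_add, map_mul, map_pow, hκ, hκalg] at e
    rw [e]
    have e2 : w * κ φ0 - MvPowerSeries.C (w0 * residue A u) * MvPowerSeries.X 0 ^ 2 =
        w * (κ φ0 - MvPowerSeries.C (residue A u) * MvPowerSeries.X 0 ^ 2) +
          (w - MvPowerSeries.C w0) * MvPowerSeries.X 0 ^ 2 * MvPowerSeries.C (residue A u) := by
      rw [map_mul]; ring
    rw [e2]
    refine add_mem (Ideal.mul_mem_left _ _ hκ3) (Ideal.mul_mem_right _ _ ?_)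
    rw [pow_succ' V 2]
    exact Ideal.mul_mem_mul (mem_vars_iff.2 (by simp [w0]))
      (Ideal.pow_mem_pow (mem_vars_iff.2 (MvPowerSeries.constantCoeff_X (0 : Fin (m + 1)))) 2)
  have hcoe : ∀ d : Fin (m + 1) →₀ ℕ, Finsupp.degree d < 3 →
      MvPowerSeries.coeff d ((MvPolynomial.X 0 ^ 2 + MvPolynomial.C (residue A b) * MvPolynomial.X 0 +
        MvPolynomial.C (residue A c) - MvPolynomial.C (w0 * residue A u) * MvPolynomial.X 0 ^ 2 :
          MvPolynomial (Fin (m + 1)) k) : Sp) = 0 := fun d hd => by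
    refine coeff_eq_zero_of_mem_pow ?_ hd
    simp only [← MvPolynomial.coeToMvPowerSeries.ringHom_apply, map_add, map_sub, map_mul, map_pow]
    simp only [MvPolynomial.coeToMvPowerSeries.ringHom_apply, MvPolynomial.coe_X, MvPolynomial.coe_C]
    simp only [map_mul] at hκp ⊢
    exact hκp
  simp only [MvPolynomial.coeff_coe, MvPolynomial.coeff_sub, MvPolynomial.coeff_add, MvPolynomial.coeff_C_mul,
    MvPolynomial.X_pow_eq_monomial, MvPolynomial.coeff_monomial, MvPolynomial.coeff_C,
    MvPolynomial.coeff_X'] at hcoe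
  have h00 : (0 : Fin (m + 1) →₀ ℕ) ≠ Finsupp.single 0 2 := by
    intro e; simpa using DFunLike.congr_fun e 0
  have h01 : (0 : Fin (m + 1) →₀ ℕ) ≠ Finsupp.single 0 1 := by
    intro e; simpa using DFunLike.congr_fun e 0
  have h12 : Finsupp.single (0 : Fin (m + 1)) 1 ≠ Finsupp.single 0 2 := by
    intro e; simpa using DFunLike.congr_fun e 0
  have hc0 : residue A c = 0 := by
    have h := hcoe 0 (by simp)
    simp [h00.symm, h01.symm, -residue_eq_zero_iff] at h
    exact h
  have hb0 : residue A b = 0 := by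
    have h := hcoe (Finsupp.single 0 1) (by simp)
    simp [h12.symm, h01, -residue_eq_zero_iff] at h
    exact h
  have hw0 : 1 - w0 * residue A u = 0 := by
    simpa [h12, h00] using hcoe (Finsupp.single 0 2) (by simp)
  refine ⟨b, c, e0 (q 0), (residue_eq_zero_iff b).1 hb0, (residue_eq_zero_iff c).1 hc0, ?_, hv⟩
  by_contra hn
  have : w0 = 0 := mem_vars_iff.1 (hκm _ ((mem_maximalIdeal _).2 hn))
  rw [this, zero_mul, sub_zero] at hw0
  exact one_ne_zero hw0

end Groth.Agent.H9Quad
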