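import Groth.Agent.H9Quad.Deform
import Groth.Agent.H9Quad.DegForm
import Groth.Agent.H9Quad.Weierstrass

/-!
Deformations of degenerate ordinary quadratic points in residue characteristic two.
-/

universe u

open IsLocalRing TensorProduct Matrix

namespace Groth.Agent.H9Quad

theorem henselization_iso_degenerate (A : Type u) [CommRing A] [HenselianLocalRing A]
    (B₀ : Type u) [CommRing B₀] [Algebra A B₀] [Algebra.FinitePresentation A B₀]
    (P : Ideal B₀) [P.IsMaximal] (hP : (maximalIdeal A).map (algebraMap A B₀) ≤ P)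
    (hPi : ∀ y : B₀, ∃ c : A, y - algebraMap A B₀ c ∈ P)
    [Module.Flat A (Localization.AtPrime P)] (m : ℕ)
    (hq : VanCyc.IsOrdQuadPt (VanCyc.fibHom A (Localization.AtPrime P)) (2 * m))
    (hq' : ¬ VanCyc.IsNondegQuadPt (VanCyc.fibHom A (Localization.AtPrime P)) (2 * m))
    (Bh : Type u) [CommRing Bh] [IsLocalRing Bh] [Algebra (Localization.AtPrime P) Bh]
    [IsLocalHom (algebraMap (Localization.AtPrime P) Bh)] [hBh : Hensel.IsHenselization (Localization.AtPrime P) Bh]
    [Algebra A Bh] [IsScalarTower A (Localization.AtPrime P) Bh] :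
    ∃ (a' : Fin (2 * m) → Fin (2 * m) → A) (b c : A), VanCyc.QuadNondeg a' ∧ b ∈ maximalIdeal A ∧
      ∀ (Q : Ideal (VanCyc.degQuadRing A a' b c)) [Q.IsMaximal], VanCyc.sideIdeal A a' b c ≤ Q →
        ∀ (C : Type u) [CommRing C] [IsLocalRing C] [Algebra (Localization.AtPrime Q) C]
          [IsLocalHom (algebraMap (Localization.AtPrime Q) C)] [Hensel.IsHenselization (Localization.AtPrime Q) C]
          [Algebra A C] [IsScalarTower A (Localization.AtPrime Q) C],
          Nonempty (Bh ≃ₐ[A] C) := by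
  classical
  let k := ResidueField A
  let B := Localization.AtPrime P
  let O := VanCyc.fibQuot A B
  let kb := AlgebraicClosure k
  letI algkO : Algebra k O := (VanCyc.fibHom A B).toAlgebra
  haveI := isLocalRing_fibQuot P hP
  haveI : IsScalarTower A k O := IsScalarTower.of_algebraMap_eq fun a => rfl
  haveI : Algebra.EssFiniteType A B := by
    haveI : Algebra.EssFiniteType B₀ B := Algebra.EssFiniteType.of_isLocalization _ P.primeCompl
    exact Algebra.EssFiniteType.comp A B₀ B
  haveI : Algebra.EssFiniteType A O := Algebra.EssFiniteType.comp A B O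
  haveI : Algebra.EssFiniteType k O := Algebra.EssFiniteType.of_comp A k O
  haveI : IsNoetherianRing O := Algebra.EssFiniteType.isNoetherianRing k O
  haveI : IsNoetherianRing (kb ⊗[k] O) := Algebra.EssFiniteType.isNoetherianRing kb (kb ⊗[k] O)
  let mk : B →+* O := Ideal.Quotient.mk _
  have hk : ∀ x : O, ∃ c : k, x - algebraMap k O c ∈ maximalIdeal O := fun x => by
    obtain ⟨x, rfl⟩ := Ideal.Quotient.mk_surjective x
    obtain ⟨w, hw⟩ := exists_sub_mem P x
    obtain ⟨c, hc⟩ := hPi w
    refine ⟨residue A c, ?_⟩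
    show mk x - mk (algebraMap A B c) ∈ _
    rw [← map_sub]
    have h1 : algebraMap B₀ B (w - algebraMap A B₀ c) ∈ maximalIdeal B := by
      rw [IsLocalization.AtPrime.to_map_mem_maximal_iff B P]; exact hc
    rw [map_sub, ← IsScalarTower.algebraMap_apply] at h1
    have h2 : x - algebraMap A B c ∈ maximalIdeal B := by
      have := add_mem hw h1
      rwa [sub_add_sub_cancel] at this
    exact (IsLocalRing.map_maximalIdeal_of_surjective mk Ideal.Quotient.mk_surjective) ▸ Ideal.mem_map_of_mem mk h2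
  obtain ⟨M, hM, hMq⟩ : ∃ (M : Ideal (kb ⊗[k] O)) (_ : M.IsMaximal),
      ¬ VanCyc.IsNondegQuadSing kb (Localization.AtPrime M) (2 * m) := by
    by_contra hne
    apply hq'
    intro M hM
    by_contra h
    exact hne ⟨M, hM, h⟩
  obtain ⟨f, ⟨hf, hfo⟩, ⟨e⟩⟩ := hq M
  have hfdet : (VanCyc.polarMatrix (VanCyc.quadPart f)).det = 0 := by
    by_contra h
    exact hMq ⟨f, ⟨hf, isUnit_iff_ne_zero.2 h⟩, ⟨e⟩⟩
  have hf0 : VanCyc.quadPart f ≠ 0 := fun h => by
    have h1 := hfo (Pi.single 0 1) (by simp [h, VanCyc.quadEval]) (by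
      rw [h, show VanCyc.polarMatrix (0 : Fin (2 * m + 1) → Fin (2 * m + 1) → kb) = 0 from
        Matrix.ext fun i j => by simp [VanCyc.polarMatrix], Matrix.zero_mulVec])
    have := congrFun h1 0
    simp at this
  obtain ⟨bB, f', L, Θ, hbm, hgen, hres, hL, hquad, hΘ⟩ := exists_point_map P hP kb rfl hk M hf hf0 e Bh
  obtain ⟨R, _, _, _, X, hR⟩ := exists_polyHens A (2 * m + 1)
  haveI := hR.henselian
  haveI := hR.local_hom
  obtain ⟨ψ, hψX, hψsurj, hψfg⟩ := exists_presentation P Bh hP hres bB hbm hgen hR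
  obtain ⟨a, c, F, hc, hac, hF, hFa, hker⟩ := exists_relation hΘ hR ψ hψX hψsurj
  haveI := flat_hens (A := A) P Bh
  haveI := isLocalHom_hens P Bh hP
  have hkerF := ker_eq_span ψ hψsurj hψfg hF hker
  let ι : A →+* kb := (algebraMap k kb).comp (residue A)
  have hι : ∀ x, ι x = 0 ↔ x ∈ maximalIdeal A := fun x => by
    simp only [ι, RingHom.comp_apply, map_eq_zero_iff _ (algebraMap k kb).injective]
    exact residue_eq_zero_iff x
  -- ordinary and degenerate
  have h3 : (VanCyc.polarMatrix fun i j => ι (a i j)) = c • VanCyc.polarMatrix (VanCyc.quadPart f') := by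
    ext i j
    simp only [Matrix.smul_apply, smul_eq_mul, VanCyc.polarMatrix]
    rcases lt_trichotomy i j with hij | rfl | hij
    · rw [if_neg hij.ne, if_pos hij, if_neg hij.ne, if_pos hij]; exact hac i j hij.le
    · rw [if_pos rfl, if_pos rfl, show ι (a i i) = _ from hac i i le_rfl, mul_left_comm]
    · rw [if_neg hij.ne', if_neg hij.not_gt, if_neg hij.ne', if_neg hij.not_gt]; exact hac j i hij.le
  have h3q : ∀ x, VanCyc.quadEval (fun i j => ι (a i j)) x = c * VanCyc.quadEval (VanCyc.quadPart f') x := fun x => by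
    rw [VanCyc.quadEval, VanCyc.quadEval, Finset.mul_sum]
    refine Finset.sum_congr rfl fun i _ => ?_
    rw [Finset.mul_sum]
    refine Finset.sum_congr rfl fun j _ => ?_
    split_ifs with h
    · rw [show ι (a i j) = _ from hac i j h]; ring
    · rw [mul_zero]
  have hpol := polar_eq_of_quadEval hquad
  have hdet : (VanCyc.polarMatrix fun i j => ι (a i j)).det = 0 := by
    rw [h3, det_smul]
    have : (VanCyc.polarMatrix (VanCyc.quadPart f')).det = 0 := by
      rw [hpol, det_mul, det_mul, det_transpose] at hfdet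
      simpa [hL.ne_zero] using hfdet
    rw [this, mul_zero]
  have hord : VanCyc.QuadOrd fun i j => ι (a i j) := fun w hw1 hw2 => by
    rw [h3q, mul_eq_zero] at hw1
    rw [h3, Matrix.smul_mulVec, smul_eq_zero] at hw2
    have hLL : L *ᵥ (L⁻¹ *ᵥ w) = w := by rw [mulVec_mulVec, Matrix.mul_nonsing_inv _ hL, one_mulVec]
    have h := hfo (L⁻¹ *ᵥ w) (by rw [hquad, hLL]; exact hw1.resolve_left hc) (by
      rw [hpol, ← mulVec_mulVec, ← mulVec_mulVec, hLL, hw2.resolve_left hc, mulVec_zero])
    rw [← hLL, h, mulVec_zero]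
  obtain ⟨T, a1, hT, ha1, hu, hcross, hside⟩ := exists_adapted_coordinates ι hι a hord hdet
  let I := (maximalIdeal A).map (algebraMap A R)
  let TR : Matrix (Fin (2 * m + 1)) (Fin (2 * m + 1)) R := T.map (algebraMap A R)
  have hTR : IsUnit TR.det := by
    rw [show TR.det = algebraMap A R T.det from ((algebraMap A R).map_det T).symm]
    exact hT.map _
  have hTXm : ∀ i, (TR *ᵥ X) i ∈ maximalIdeal R := fun i =>
    Ideal.sum_mem _ (t := Finset.univ) fun j _ => Ideal.mul_mem_left _ _ (hR.X_mem j)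
  obtain ⟨σ0, hσ0, -⟩ := hR.univ R (TR *ᵥ X) hTXm
  have hσ0b := hR.bijective_of_generators σ0 (fun i => (hσ0 i).symm ▸ hTXm i) (by
    rw [show (fun i => σ0 (X i)) = TR *ᵥ X from funext hσ0]
    exact hR.le_span_of_congr TR hTR _ fun i => by rw [sub_self]; exact zero_mem _)
  let S : Fin (2 * m) → R := fun i => X i.succ
  let aS : Fin (2 * m) → Fin (2 * m) → A := fun i j => a1 i.succ j.succ
  have hσmem : ∀ z ∈ maximalIdeal R ^ 3 ⊔ I, σ0 z ∈ maximalIdeal R ^ 3 ⊔ I := fun z hz => by
    obtain ⟨p, hp, v, hv, rfl⟩ := Submodule.mem_sup.1 hz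
    rw [map_add]
    refine Submodule.add_mem_sup ?_ ?_
    · have h1 : (maximalIdeal R).map σ0 ≤ maximalIdeal R := Ideal.map_le_iff_le_comap.2 fun w hw =>
        hR.map_mem σ0 (fun i => (hσ0 i).symm ▸ hTXm i) hw
      have := Ideal.mem_map_of_mem σ0 hp
      rw [Ideal.map_pow] at this
      exact Ideal.pow_right_mono h1 3 this
    · have := Ideal.mem_map_of_mem σ0 hv
      rwa [← Ideal.map_coe σ0, Ideal.map_map, AlgHom.comp_algebraMap] at this
  let F1 := σ0 F
  have hF1 : F1 - (algebraMap A R (a1 0 0) * X 0 ^ 2 + VanCyc.quadEval (fun i j => algebraMap A R (aS i j)) S) ∈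
      maximalIdeal R ^ 3 ⊔ I := by
    have h1 := hσmem _ hFa
    rw [map_sub] at h1
    have e1 : σ0 (VanCyc.quadEval (fun i j => algebraMap A R (a i j)) X) =
        VanCyc.quadEval (fun i j => algebraMap A R (a1 i j)) X := by
      show σ0.toRingHom _ = _
      rw [map_quadEval, ← quadEval_map (algebraMap A R) ha1 X]
      congr 1
      · funext i j; exact σ0.commutes _
      · funext i; exact hσ0 i
    rw [e1, quadEval_cons] at h1
    have h2 : ∑ j : Fin (2 * m), algebraMap A R (a1 0 j.succ) * X 0 * X j.succ ∈ maximalIdeal R ^ 3 ⊔ I :=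
      Ideal.mem_sup_right (Ideal.sum_mem _ fun j _ =>
        Ideal.mul_mem_right _ _ (Ideal.mul_mem_right _ _ (Ideal.mem_map_of_mem _ (hcross j))))
    have := add_mem h1 h2
    convert this using 1
    simp only [F1, S, aS]
    ring
  obtain ⟨e0, φ0, a2, Y, he00, he0S, hφ0, ha2, hφ0u, hY, hF1eq⟩ := exists_side_form hR (a1 0 0) hside hF1
  obtain ⟨b, cc, v, hb, hcc, hv, hvφ⟩ := exists_monic_quadratic hR e0 he00 he0S hφ0 hu hφ0u
  obtain ⟨ε, hε, hεker⟩ := hR.exists_section (fun _ => (0 : A)) fun _ => zero_mem _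
  have hεu : IsUnit (ε v) := hv.map ε
  let a3 : Fin (2 * m) → Fin (2 * m) → A := fun i j => ε v * a2 i j
  have ha3 : VanCyc.QuadNondeg a3 := by
    have : VanCyc.polarMatrix a3 = ε v • VanCyc.polarMatrix a2 := by
      ext i j
      simp only [a3, VanCyc.polarMatrix, Matrix.smul_apply, smul_eq_mul]
      split_ifs <;> ring
    show IsUnit _
    rw [this, det_smul]
    exact (hεu.pow _).mul ha2
  let a3R : Fin (2 * m) → Fin (2 * m) → R := fun i j => algebraMap A R (a3 i j)
  have ha3R : VanCyc.QuadNondeg a3R := by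
    have : VanCyc.polarMatrix a3R = (VanCyc.polarMatrix a3).map (algebraMap A R) := by
      ext i j
      simp only [a3R, VanCyc.polarMatrix, Matrix.map_apply]
      split_ifs <;> simp [map_ofNat]
    show IsUnit _
    rw [this, ← RingHom.mapMatrix_apply, ← RingHom.map_det]
    exact ha3.map _
  let r' : Matrix (Fin (2 * m)) (Fin (2 * m)) R :=
    (v - algebraMap A R (ε v)) • upper (fun i j => algebraMap A R (a2 i j))
  have hr' : ∀ i j, r' i j ∈ maximalIdeal R := fun i j => by
    have h1 : v - algebraMap A R (ε v) ∈ RingHom.ker ε := by simp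
    rw [hεker] at h1
    refine Ideal.mul_mem_right _ _ ((Ideal.span_le.2 ?_) h1)
    rintro _ ⟨l, rfl⟩
    simpa using hR.X_mem l
  obtain ⟨g, hg, hgY⟩ := exists_mulVec_eq ha3R r' hr' Y
  have hvq : VanCyc.quadEval a3R (g *ᵥ Y) = v * VanCyc.quadEval (fun i j => algebraMap A R (a2 i j)) Y := by
    rw [hgY, smul_mulVec, dotProduct_smul, smul_eq_mul, ← quadEval_eq]
    have : VanCyc.quadEval a3R Y = algebraMap A R (ε v) * VanCyc.quadEval (fun i j => algebraMap A R (a2 i j)) Y := by
      simp only [VanCyc.quadEval, Finset.mul_sum]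
      refine Finset.sum_congr rfl fun i _ => Finset.sum_congr rfl fun j _ => ?_
      split_ifs
      · simp only [a3R, a3, map_mul]; ring
      · rw [mul_zero]
    rw [this]; ring
  have hSm : ∀ i, S i ∈ maximalIdeal R := fun i => hR.X_mem _
  have hIm : I ≤ maximalIdeal R := (sup_le_iff.1 hR.maximal_eq.symm.le).1
  have hYm : ∀ i, Y i ∈ maximalIdeal R := fun i => by
    simpa only [S, sub_add_cancel] using add_mem (sup_le (Ideal.pow_le_self two_ne_zero) hIm (hY i)) (hSm i)
  let Z : Fin (2 * m + 1) → R := Fin.cons (X 0) (g *ᵥ Y)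
  have hgYm : ∀ i, (g *ᵥ Y) i ∈ maximalIdeal R := fun i =>
    Ideal.sum_mem _ (t := Finset.univ) fun j _ => Ideal.mul_mem_left _ _ (hYm j)
  have hZm : ∀ i, Z i ∈ maximalIdeal R := Fin.cases (hR.X_mem 0) hgYm
  obtain ⟨σ1, hσ1, -⟩ := hR.univ R Z hZm
  have hσ1b := hR.bijective_of_generators σ1 (fun i => (hσ1 i).symm ▸ hZm i) (by
    rw [show (fun i => σ1 (X i)) = Z from funext hσ1]
    refine hR.le_span_of_congr 1 (by simp) Z fun i => ?_
    rw [one_mulVec]
    refine Fin.cases ?_ (fun j => ?_) i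
    · simp [Z]
    · have e : Z j.succ - X j.succ = ((g - 1) *ᵥ Y) j + (Y j - X j.succ) := by
        rw [sub_mulVec, Pi.sub_apply, one_mulVec]
        simp [Z]
      rw [e]
      refine add_mem (Ideal.mem_sup_left ?_) (hY j)
      rw [pow_two]
      exact Ideal.sum_mem _ (t := Finset.univ) fun l _ => Ideal.mul_mem_mul (hg j l) (hYm l))
  refine ⟨a3, b, cc, ha3, hb, ?_⟩
  intro Q _ hQ C _ _ _ _ _ _ _
  let p := VanCyc.degQuadPoly A a3 b cc
  have hpX : MvPolynomial.aeval X p =
      X 0 ^ 2 + algebraMap A R b * X 0 + algebraMap A R cc + VanCyc.quadEval a3R S := by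
    simp only [p, VanCyc.degQuadPoly, map_add, map_mul, map_pow, MvPolynomial.aeval_X, MvPolynomial.aeval_C,
      MvPolynomial.aeval_rename, aeval_quadPoly]
    rfl
  have hp0 : MvPolynomial.constantCoeff p ∈ maximalIdeal A := by
    have hq0 : MvPolynomial.constantCoeff (VanCyc.quadPoly a3) = 0 := by
      simp [VanCyc.quadPoly, map_sum, apply_ite MvPolynomial.constantCoeff]
    have : MvPolynomial.constantCoeff p = cc := by
      simp [p, VanCyc.degQuadPoly, MvPolynomial.constantCoeff_rename, hq0]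
    rwa [this]
  have hQeq : Q = (VanCyc.originIdeal A).map (Ideal.Quotient.mk (Ideal.span {p})) := by
    symm
    let mkp := Ideal.Quotient.mk (Ideal.span {p})
    have hside' : ∀ {w}, w ∈ (maximalIdeal A).map MvPolynomial.C ⊔
        Ideal.span (Set.range fun i : Fin (2 * m) => MvPolynomial.X (Fin.succ i)) → mkp w ∈ Q :=
      fun hw => hQ (Ideal.mem_map_of_mem _ hw)
    have hq : MvPolynomial.rename Fin.succ (VanCyc.quadPoly a3) ∈
        Ideal.span (Set.range fun i : Fin (2 * m) => (MvPolynomial.X (Fin.succ i) : MvPolynomial (Fin (2 * m + 1)) A)) := by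
      simp only [VanCyc.quadPoly, map_sum]
      refine Ideal.sum_mem _ fun i _ => Ideal.sum_mem _ fun j _ => ?_
      split_ifs
      · rw [map_mul, MvPolynomial.rename_X]
        exact Ideal.mul_mem_left _ _ (Ideal.subset_span ⟨j, rfl⟩)
      · simp
    have hX0 : mkp (MvPolynomial.X 0) ∈ Q := by
      have hQp : Q.IsPrime := Ideal.IsMaximal.isPrime inferInstance
      refine hQp.mem_of_pow_mem 2 ?_
      rw [← map_pow]
      have h0 : mkp p = 0 := Ideal.Quotient.eq_zero_iff_mem.2 (Ideal.mem_span_singleton_self p)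
      have e : mkp (MvPolynomial.X 0 ^ 2) = -mkp (MvPolynomial.C b * MvPolynomial.X 0 + MvPolynomial.C cc +
          MvPolynomial.rename Fin.succ (VanCyc.quadPoly a3)) := by
        rw [eq_neg_iff_add_eq_zero, ← map_add, ← h0]
        simp only [p, VanCyc.degQuadPoly, add_assoc]
      rw [e, neg_mem_iff]
      refine hside' (add_mem (add_mem ?_ ?_) (Ideal.mem_sup_right hq))
      · exact Ideal.mem_sup_left (Ideal.mul_mem_right _ _ (Ideal.mem_map_of_mem _ hb))
      · exact Ideal.mem_sup_left (Ideal.mem_map_of_mem _ hcc)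
    have hmax : ((VanCyc.originIdeal A : Ideal (MvPolynomial (Fin (2 * m + 1)) A)).map mkp).IsMaximal := by
      haveI : (VanCyc.originIdeal A : Ideal (MvPolynomial (Fin (2 * m + 1)) A)).IsMaximal := by
        rw [originIdeal_eq]
        exact Ideal.comap_isMaximal_of_surjective _ fun a => ⟨MvPolynomial.C a, by simp⟩
      refine (Ideal.map_eq_top_or_isMaximal_of_surjective mkp Ideal.Quotient.mk_surjective ‹_›).resolve_left fun htop => ?_
      have h1 : ((VanCyc.originIdeal A : Ideal (MvPolynomial (Fin (2 * m + 1)) A)).map mkp).comap mkp = ⊤ := by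
        rw [htop, Ideal.comap_top]
      rw [Ideal.comap_map_of_surjective _ Ideal.Quotient.mk_surjective, ← RingHom.ker_eq_comap_bot, Ideal.mk_ker,
        sup_eq_left.2 ((Ideal.span_singleton_le_iff_mem _).2 (by rw [originIdeal_eq, Ideal.mem_comap]; exact hp0))] at h1
      exact Ideal.IsMaximal.ne_top inferInstance h1
    refine hmax.eq_of_le (Ideal.IsMaximal.ne_top inferInstance) ?_
    rw [VanCyc.originIdeal, Ideal.map_sup, sup_le_iff]
    refine ⟨Ideal.map_le_iff_le_comap.2 fun w hw => hside' (Ideal.mem_sup_left hw), ?_⟩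
    rw [Ideal.map_span, Ideal.span_le]
    rintro _ ⟨_, ⟨i, rfl⟩, rfl⟩
    exact Fin.cases hX0 (fun j => hside' (Ideal.mem_sup_right (Ideal.subset_span ⟨j, rfl⟩))) i
  obtain ⟨em⟩ := model_equiv p hp0 Q hQeq C hR
  have hσp : σ1 (MvPolynomial.aeval X p) = v * F1 := by
    rw [hpX, map_add, map_add, map_add, map_mul, map_pow, AlgHom.commutes, AlgHom.commutes, hσ1, hF1eq, mul_add, hvφ]
    congr 1
    show σ1.toRingHom _ = _
    rw [map_quadEval, ← hvq]
    congr 1
    · funext i j; exact σ1.commutes _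
    · funext i; exact hσ1 i.succ
  let e1 : (R ⧸ RingHom.ker ψ) ≃ₐ[A] R ⧸ Ideal.span {F1} :=
    Ideal.quotientEquivAlg _ _ (AlgEquiv.ofBijective σ0 hσ0b) (by
      rw [hkerF, Ideal.map_span, Set.image_singleton]
      rfl)
  let e2 : (R ⧸ Ideal.span {MvPolynomial.aeval X p}) ≃ₐ[A] R ⧸ Ideal.span {F1} :=
    Ideal.quotientEquivAlg _ _ (AlgEquiv.ofBijective σ1 hσ1b) (by
      rw [Ideal.map_span, Set.image_singleton]
      show _ = Ideal.span {σ1 (MvPolynomial.aeval X p)}
      rw [hσp, Ideal.span_singleton_mul_left_unit hv])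
  exact ⟨(((Ideal.quotientKerAlgEquivOfSurjective hψsurj).symm.trans e1).trans e2.symm).trans em⟩

end Groth.Agent.H9Quad
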