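import Mathlib
import Groth.Prelude.Def_QuadSing
import Groth.Agent.H9Hens.Newton

/-!
Morse lemma in a henselian local ring: a relation `Q(x) = Σ r_ij x_i x_j`, `r` small, for an ordinary
quadratic form `Q` becomes `Q(g x) = 0` with `g ≡ 1`.
-/

universe u

open IsLocalRing Matrix

namespace Groth.Agent.H9Quad

variable {R : Type u} [CommRing R] {N : ℕ}

/-- The upper triangular matrix of a coefficient table. -/
def upper (a : Fin N → Fin N → R) : Matrix (Fin N) (Fin N) R := Matrix.of fun i j => if i ≤ j then a i j else 0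

theorem quadEval_eq (a : Fin N → Fin N → R) (v : Fin N → R) : VanCyc.quadEval a v = v ⬝ᵥ upper a *ᵥ v := by
  simp only [VanCyc.quadEval, dotProduct, Matrix.mulVec, Finset.mul_sum, upper, Matrix.of_apply]
  refine Finset.sum_congr rfl fun i _ => Finset.sum_congr rfl fun j _ => ?_
  split_ifs <;> ring

theorem polarMatrix_eq (a : Fin N → Fin N → R) : VanCyc.polarMatrix a = upper a + (upper a)ᵀ := by
  ext i j
  simp only [VanCyc.polarMatrix, Matrix.add_apply, Matrix.transpose_apply, upper, Matrix.of_apply]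
  rcases lt_trichotomy i j with h | rfl | h
  · rw [if_neg h.ne, if_pos h, if_pos h.le, if_neg h.not_ge, add_zero]
  · rw [if_pos rfl, if_pos le_rfl, two_mul]
  · rw [if_neg h.ne', if_neg h.not_gt, if_pos h.le, if_neg h.not_ge, zero_add]

/-- The coefficient of `x_i x_j` (`i ≤ j`) in `Σ U_ij x_i x_j`. -/
def up (U : Matrix (Fin N) (Fin N) R) (p : {p : Fin N × Fin N // p.1 ≤ p.2}) : R :=
  if p.1.1 = p.1.2 then U p.1.1 p.1.2 else U p.1.1 p.1.2 + U p.1.2 p.1.1

theorem up_map {S : Type*} [CommRing S] (f : R →+* S) (U : Matrix (Fin N) (Fin N) R)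
    (p : {p : Fin N × Fin N // p.1 ≤ p.2}) : f (up U p) = up (U.map f) p := by
  simp only [up, Matrix.map_apply]; split_ifs <;> simp

theorem up_add_smul {U V : Matrix (Fin N) (Fin N) R} (c : R) (p : {p : Fin N × Fin N // p.1 ≤ p.2}) :
    up (c • U + V) p = c * up U p + up V p := by
  simp only [up, Matrix.add_apply, Matrix.smul_apply, smul_eq_mul]; split_ifs <;> ring

theorem sum_mul_eq_sum_up (S U : Matrix (Fin N) (Fin N) R) (hS : S.IsSymm) :
    ∑ i, ∑ j, S i j * U i j = ∑ p : {p : Fin N × Fin N // p.1 ≤ p.2}, S p.1.1 p.1.2 * up U p := by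
  classical
  have key : ∀ i j : Fin N, (if i ≤ j then S i j * (if i = j then U i j else U i j + U j i) else 0) =
      (if i ≤ j then S i j * U i j else 0) + (if i < j then S i j * U j i else 0) := by
    intro i j
    rcases lt_trichotomy i j with h | rfl | h
    · rw [if_pos h.le, if_pos h.le, if_pos h, if_neg h.ne]; ring
    · simp
    · rw [if_neg h.not_ge, if_neg h.not_ge, if_neg h.not_gt, add_zero]
  have hR : ∑ p : {p : Fin N × Fin N // p.1 ≤ p.2}, S p.1.1 p.1.2 * up U p =
      ∑ i, ∑ j, if i ≤ j then S i j * (if i = j then U i j else U i j + U j i) else 0 := by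
    rw [← Fintype.sum_prod_type' (f := fun i j => if i ≤ j then S i j * (if i = j then U i j else U i j + U j i) else 0),
      ← Finset.sum_filter]
    exact (Finset.sum_subtype (Finset.univ.filter fun x : Fin N × Fin N => x.1 ≤ x.2) (by simp)
      (fun x => S x.1 x.2 * (if x.1 = x.2 then U x.1 x.2 else U x.1 x.2 + U x.2 x.1))).symm
  rw [hR]
  simp only [key, Finset.sum_add_distrib]
  rw [Finset.sum_comm (f := fun i j => if i < j then S i j * U j i else 0), ← Finset.sum_add_distrib]
  refine Finset.sum_congr rfl fun i _ => ?_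
  rw [← Finset.sum_add_distrib]
  refine Finset.sum_congr rfl fun j _ => ?_
  rcases lt_trichotomy i j with h | rfl | h
  · rw [if_pos h.le, if_neg h.not_gt, add_zero]
  · simp
  · rw [if_neg h.not_ge, if_pos h, zero_add, hS.apply]

theorem dotProduct_mulVec_self (U : Matrix (Fin N) (Fin N) R) (x : Fin N → R) :
    x ⬝ᵥ U *ᵥ x = ∑ p : {p : Fin N × Fin N // p.1 ≤ p.2}, x p.1.1 * x p.1.2 * up U p := by
  have h := sum_mul_eq_sum_up (Matrix.of fun i j => x i * x j) U (Matrix.IsSymm.ext fun i j => by simp [mul_comm])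
  simp only [Matrix.of_apply] at h
  rw [← h]
  simp only [dotProduct, Matrix.mulVec, Finset.mul_sum]
  exact Finset.sum_congr rfl fun i _ => Finset.sum_congr rfl fun j _ => by ring

/-- The non-degeneracy needed for the Morse lemma. -/
def Good {F : Type*} [CommRing F] (A : Matrix (Fin N) (Fin N) F) : Prop :=
  ∀ S : Matrix (Fin N) (Fin N) F, S.IsSymm → (A + Aᵀ) * S = 0 → (∑ i, ∑ j, S i j * A i j) = 0 → S = 0

theorem good_of_isUnit_det {F : Type*} [CommRing F] {A : Matrix (Fin N) (Fin N) F} (h : IsUnit (A + Aᵀ).det) :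
    Good A := fun S _ hS _ => by
  rw [← Matrix.nonsing_inv_mul_cancel_left (A + Aᵀ) S h, hS, Matrix.mul_zero]

/-- An ordinary quadratic form over an algebraically closed field is good. -/
theorem good_of_quadOrd {k : Type u} [Field k] [IsAlgClosed k] {a : Fin N → Fin N → k} (ha : VanCyc.QuadOrd a) :
    Good (upper a) := by
  intro S hS hMS hc
  set A := upper a
  have hq : ∀ v, v ≠ 0 → (A + Aᵀ) *ᵥ v = 0 → v ⬝ᵥ A *ᵥ v ≠ 0 := fun v hv hM h => hv (ha v
    (by rw [quadEval_eq]; exact h) (by rw [polarMatrix_eq]; exact hM))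
  by_contra hS0
  obtain ⟨j, hj⟩ : ∃ j, (fun i => S i j) ≠ 0 := by
    by_contra hne
    push Not at hne
    exact hS0 (Matrix.ext fun i j => congrFun (hne j) i)
  set v : Fin N → k := fun i => S i j
  have hcol : ∀ j', (A + Aᵀ) *ᵥ (fun i => S i j') = 0 := fun j' => by
    ext i
    exact congrFun (congrFun hMS i) j'
  have hqv := hq v hj (hcol j)
  have hB : ∀ w, (A + Aᵀ) *ᵥ w = 0 → v ⬝ᵥ A *ᵥ w + w ⬝ᵥ A *ᵥ v = 0 := fun w hw => by
    have h : v ⬝ᵥ (A + Aᵀ) *ᵥ w = 0 := by rw [hw, dotProduct_zero]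
    rwa [add_mulVec, dotProduct_add, dotProduct_mulVec v Aᵀ w, vecMul_transpose, dotProduct_comm (A *ᵥ v) w] at h
  have hspan : ∀ w, (A + Aᵀ) *ᵥ w = 0 → ∃ l : k, w = l • v := fun w hw => by
    obtain ⟨l, hl⟩ := IsAlgClosed.exists_pow_nat_eq (-(w ⬝ᵥ A *ᵥ w) / (v ⬝ᵥ A *ᵥ v)) two_pos
    refine ⟨-l, ?_⟩
    have hz : (l • v + w) ⬝ᵥ A *ᵥ (l • v + w) = 0 := by
      simp only [mulVec_add, mulVec_smul, dotProduct_add, add_dotProduct, smul_dotProduct, dotProduct_smul, smul_eq_mul]
      rw [eq_div_iff hqv] at hl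
      linear_combination hl + l * hB w hw
    have : l • v + w = 0 := by
      by_contra hne
      exact hq _ hne (by rw [mulVec_add, mulVec_smul, hcol j, hw, smul_zero, add_zero]) hz
    rw [neg_smul]
    exact eq_neg_of_add_eq_zero_right this
  choose l hl using fun j' => hspan _ (hcol j')
  have hSl : ∀ i j', S i j' = l j' * v i := fun i j' => congrFun (hl j') i
  obtain ⟨i₀, hi₀⟩ : ∃ i, v i ≠ 0 := by
    by_contra hne
    push Not at hne
    exact hj (funext hne)
  have hlv : ∀ j', l j' = l i₀ / v i₀ * v j' := fun j' => by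
    rw [div_mul_eq_mul_div, eq_div_iff hi₀, ← hSl i₀ j', ← hS.apply i₀ j', hSl j' i₀]
  have hmu : l i₀ / v i₀ = 0 := by
    have h2 : (∑ i, ∑ j', S i j' * A i j') = l i₀ / v i₀ * (v ⬝ᵥ A *ᵥ v) := by
      simp only [dotProduct, Matrix.mulVec, Finset.mul_sum]
      refine Finset.sum_congr rfl fun i _ => Finset.sum_congr rfl fun j' _ => ?_
      rw [hSl, hlv j']; ring
    rw [hc] at h2
    exact (mul_eq_zero.1 h2.symm).resolve_right hqv
  refine hS0 (Matrix.ext fun i j' => ?_)
  rw [hSl, hlv j', hmu]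
  simp

theorem surjective_differential {F : Type*} [Field F] {A : Matrix (Fin N) (Fin N) F} (hA : Good A)
    (e : {p : Fin N × Fin N // p.1 ≤ p.2} → F) :
    ∃ (ε : F) (δ : Matrix (Fin N) (Fin N) F), (fun p => up (ε • A + (δᵀ * A + A * δ)) p) = e := by
  classical
  let L : (F × Matrix (Fin N) (Fin N) F) →ₗ[F] ({p : Fin N × Fin N // p.1 ≤ p.2} → F) :=
    { toFun := fun x p => up (x.1 • A + (x.2ᵀ * A + A * x.2)) p
      map_add' := fun x y => by
        ext p
        simp only [Prod.fst_add, Prod.snd_add, transpose_add, Matrix.add_mul, Matrix.mul_add, Pi.add_apply, up,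
          Matrix.add_apply, Matrix.smul_apply, smul_eq_mul]
        split_ifs <;> ring
      map_smul' := fun c x => by
        ext p
        simp only [Prod.smul_fst, Prod.smul_snd, transpose_smul, Matrix.smul_mul, Matrix.mul_smul, Pi.smul_apply,
          up, Matrix.add_apply, Matrix.smul_apply, smul_eq_mul, RingHom.id_apply]
        split_ifs <;> ring }
  suffices h : LinearMap.range L = ⊤ by
    obtain ⟨⟨ε, δ⟩, hx⟩ := LinearMap.range_eq_top.1 h e
    exact ⟨ε, δ, hx⟩
  by_contra h
  obtain ⟨f, hf0, hf⟩ := Submodule.exists_le_ker_of_lt_top _ (lt_top_iff_ne_top.2 h)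
  let c : {p : Fin N × Fin N // p.1 ≤ p.2} → F := fun p => f (Pi.single p 1)
  have hfc : ∀ w, f w = ∑ p, c p * w p := fun w => by
    conv_lhs => rw [← Finset.univ_sum_single w]
    rw [map_sum]
    refine Finset.sum_congr rfl fun p _ => ?_
    have : Pi.single (M := fun _ => F) p (w p) = w p • Pi.single p 1 := by
      ext q; by_cases hq : q = p <;> simp [Pi.single_apply, hq]
    rw [this, map_smul, smul_eq_mul, mul_comm]
  let S : Matrix (Fin N) (Fin N) F := Matrix.of fun i j =>
    if h : i ≤ j then c ⟨(i, j), h⟩ else c ⟨(j, i), (le_of_not_ge h)⟩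
  have hS : S.IsSymm := Matrix.IsSymm.ext fun i j => by
    simp only [S, Matrix.of_apply]
    rcases lt_trichotomy i j with h | rfl | h
    · rw [dif_neg h.not_ge, dif_pos h.le]
    · rfl
    · rw [dif_pos h.le, dif_neg h.not_ge]
  have hfS : ∀ (ε : F) (δ : Matrix (Fin N) (Fin N) F),
      ε * (∑ i, ∑ j, S i j * A i j) + ∑ i, ∑ j, δ i j * (((A + Aᵀ) * S) i j) = 0 := by
    intro ε δ
    have h0 : f (L (ε, δ)) = 0 := hf (LinearMap.mem_range_self L (ε, δ))
    have h1 : f (L (ε, δ)) = ∑ p : {p : Fin N × Fin N // p.1 ≤ p.2},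
        S p.1.1 p.1.2 * up (ε • A + (δᵀ * A + A * δ)) p := by
      rw [hfc]
      refine Finset.sum_congr rfl fun p _ => ?_
      simp only [L, LinearMap.coe_mk, AddHom.coe_mk, S, Matrix.of_apply, dif_pos p.2]
    have e1 : ∑ i, ∑ j, S i j * (δᵀ * A) i j = ∑ i, ∑ j, δ i j * (A * S) i j := by
      simp only [Matrix.mul_apply, Matrix.transpose_apply, Finset.mul_sum]
      rw [Finset.sum_comm_cycle]
      refine Finset.sum_congr rfl fun a _ => Finset.sum_congr rfl fun b _ => Finset.sum_congr rfl fun c _ => ?_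
      rw [hS.apply]; ring
    have e2 : ∑ i, ∑ j, S i j * (A * δ) i j = ∑ i, ∑ j, δ i j * (Aᵀ * S) i j := by
      simp only [Matrix.mul_apply, Matrix.transpose_apply, Finset.mul_sum]
      rw [Finset.sum_comm_cycle]
      refine Finset.sum_congr rfl fun a _ => ?_
      rw [Finset.sum_comm]
      exact Finset.sum_congr rfl fun b _ => Finset.sum_congr rfl fun c _ => by ring
    rw [h1, ← sum_mul_eq_sum_up S _ hS] at h0
    simp only [Matrix.add_apply, Matrix.smul_apply, smul_eq_mul, mul_add, Finset.sum_add_distrib, e1, e2] at h0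
    rw [← h0, Finset.mul_sum]
    simp only [Finset.mul_sum, Matrix.add_mul, Matrix.add_apply, mul_add, Finset.sum_add_distrib]
    congr 1
    exact Finset.sum_congr rfl fun i _ => Finset.sum_congr rfl fun j _ => by ring
  have hS0 : S = 0 := hA S hS (Matrix.ext fun i j => by
      have := hfS 0 (Matrix.single i j 1)
      simpa [Matrix.single_apply, ite_and] using this)
    (by simpa using hfS 1 0)
  apply hf0
  refine LinearMap.ext fun w => ?_
  rw [hfc, LinearMap.zero_apply]
  refine Finset.sum_eq_zero fun p _ => ?_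
  have := congrFun (congrFun hS0 p.1.1) p.1.2
  simp only [S, Matrix.of_apply, dif_pos p.2, Matrix.zero_apply] at this
  rw [this, zero_mul]

open MvPolynomial in
/-- The Morse lemma. -/
theorem exists_mulVec_zero [HenselianLocalRing R] {a : Fin N → Fin N → R}
    (hA : Good ((upper a).map (residue R))) (r : Matrix (Fin N) (Fin N) R) (hr : ∀ i j, r i j ∈ maximalIdeal R)
    (x : Fin N → R) (hx : VanCyc.quadEval a x = x ⬝ᵥ r *ᵥ x) :
    ∃ g : Matrix (Fin N) (Fin N) R, (∀ i j, (g - 1) i j ∈ maximalIdeal R) ∧ VanCyc.quadEval a (g *ᵥ x) = 0 := by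
  classical
  let Pair := {p : Fin N × Fin N // p.1 ≤ p.2}
  set K := Fintype.card Pair
  let ix : Fin K ≃ Pair := (Fintype.equivFin Pair).symm
  have hsurj := fun q : Fin K => surjective_differential hA (Pi.single (ix q) 1)
  choose ε δ hεδ using hsurj
  choose ε₀ hε₀ using fun q => residue_surjective (ε q)
  choose δ₀ hδ₀ using fun q => show ∃ d : Matrix (Fin N) (Fin N) R, d.map (residue R) = δ q from
    ⟨Matrix.of fun i j => (residue_surjective (δ q i j)).choose,
      Matrix.ext fun i j => (residue_surjective (δ q i j)).choose_spec⟩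
  let A := upper a
  let u : MvPolynomial (Fin K) R := 1 + ∑ q, C (ε₀ q) * X q
  let G : Matrix (Fin N) (Fin N) (MvPolynomial (Fin K) R) := fun i j => C ((1 : Matrix (Fin N) (Fin N) R) i j) + ∑ q, C (δ₀ q i j) * X q
  let P : Fin K → MvPolynomial (Fin K) R := fun q => u * up (Gᵀ * A.map (C : R →+* MvPolynomial (Fin K) R) * G) (ix q) - C (up (A - r) (ix q))
  have hu0 : eval (fun _ => (0 : R)) u = 1 := by simp [u]
  have hG0 : G.map (eval (fun _ => (0 : R))) = 1 := by ext i j; simp [G]
  have hev : ∀ (t : Fin K → R) q, eval t (P q) =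
      eval t u * up ((G.map (eval t))ᵀ * A * G.map (eval t)) (ix q) - up (A - r) (ix q) := by
    intro t q
    simp only [P, map_sub, map_mul, eval_C]
    rw [up_map]
    congr 3
    rw [Matrix.map_mul, Matrix.map_mul, Matrix.transpose_map]
    congr 2
    ext i j; simp
  have h₀ : ∀ q, eval (fun _ => (0 : R)) (P q) ∈ maximalIdeal R := by
    intro q
    rw [hev, hu0, hG0, transpose_one, one_mul, Matrix.one_mul, Matrix.mul_one]
    have : up A (ix q) - up (A - r) (ix q) = up r (ix q) := by
      simp only [up, Matrix.sub_apply]; split_ifs <;> ring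
    rw [this, up]
    split_ifs
    · exact hr _ _
    · exact Ideal.add_mem _ (hr _ _) (hr _ _)
  have hder : ∀ q l, eval (fun _ => (0 : R)) (pderiv l (P q)) =
      up (ε₀ l • A + ((δ₀ l)ᵀ * A + A * δ₀ l)) (ix q) := by
    intro q l
    have hG : ∀ i j, eval (fun _ => (0 : R)) (pderiv l (G i j)) = δ₀ l i j := fun i j => by
      simp [G, Pi.single_apply, apply_ite (eval (fun _ => (0 : R)))]
    have hu : eval (fun _ => (0 : R)) (pderiv l u) = ε₀ l := by
      simp [u, Pi.single_apply, apply_ite (eval (fun _ => (0 : R)))]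
    let e : MvPolynomial (Fin K) R → R := fun f => eval (fun _ => (0 : R)) f
    let D : MvPolynomial (Fin K) R → R := fun f => eval (fun _ => (0 : R)) (pderiv l f)
    have hmul : ∀ M' N' : Matrix (Fin N) (Fin N) (MvPolynomial (Fin K) R),
        (M' * N').map D = M'.map D * N'.map e + M'.map e * N'.map D := fun M' N' => by
      ext i j
      simp only [D, e, Matrix.map_apply, Matrix.mul_apply, Matrix.add_apply, map_sum, pderiv_mul, map_add, map_mul,
        Finset.sum_add_distrib]
    have hemul : ∀ M' N' : Matrix (Fin N) (Fin N) (MvPolynomial (Fin K) R),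
        (M' * N').map e = M'.map e * N'.map e := fun M' N' => Matrix.map_mul
    have hGD : G.map D = δ₀ l := Matrix.ext fun i j => hG i j
    have hGe : G.map e = 1 := hG0
    have hAD : (A.map (C : R →+* MvPolynomial (Fin K) R)).map D = 0 := by ext i j; simp [D]
    have hAe : (A.map (C : R →+* MvPolynomial (Fin K) R)).map e = A := by ext i j; simp [e]
    have hprod : ∀ i j, eval (fun _ => (0 : R)) (pderiv l ((Gᵀ * A.map (C : R →+* MvPolynomial (Fin K) R) * G :
        Matrix (Fin N) (Fin N) (MvPolynomial (Fin K) R)) i j)) = ((δ₀ l)ᵀ * A + A * δ₀ l) i j := by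
      intro i j
      have key : (Gᵀ * A.map (C : R →+* MvPolynomial (Fin K) R) * G).map D = (δ₀ l)ᵀ * A + A * δ₀ l := by
        rw [hmul, hmul, hemul, hAD, hAe, hGe, hGD, Matrix.transpose_map, hGD, Matrix.transpose_map, hGe,
          transpose_one, Matrix.mul_zero, add_zero, Matrix.mul_one, Matrix.one_mul]
      exact congrFun (congrFun key i) j
    simp only [P, map_sub, pderiv_C, map_zero, sub_zero, pderiv_mul, map_add, map_mul, hu, hu0, one_mul]
    rw [up_add_smul, up_map]
    congr 1
    · congr 1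
      rw [Matrix.map_mul, Matrix.map_mul, Matrix.transpose_map, hG0, transpose_one, Matrix.one_mul, Matrix.mul_one]
      have hA' : (A.map (C : R →+* MvPolynomial (Fin K) R)).map (eval (fun _ => (0 : R))) = A := by ext i j; simp
      exact congrArg (fun U => up U (ix q)) hA'
    · simp only [up]
      split_ifs <;> simp only [map_add, hprod]
  have hJ : IsUnit (Ideal.Quotient.mk (maximalIdeal R)
      (Matrix.of fun q l => eval (fun _ => (0 : R)) (pderiv l (P q))).det) := by
    rw [RingHom.map_det]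
    have : (Ideal.Quotient.mk (maximalIdeal R)).mapMatrix
        (Matrix.of fun q l => eval (fun _ => (0 : R)) (pderiv l (P q))) = 1 := by
      ext q l
      simp only [RingHom.mapMatrix_apply, Matrix.map_apply, Matrix.of_apply, hder]
      change residue R (up (ε₀ l • A + ((δ₀ l)ᵀ * A + A * δ₀ l)) (ix q)) = _
      rw [up_map]
      have e : (ε₀ l • A + ((δ₀ l)ᵀ * A + A * δ₀ l)).map (residue R) =
          ε l • A.map (residue R) + ((δ l)ᵀ * A.map (residue R) + A.map (residue R) * δ l) := by
        rw [← hδ₀ l, ← hε₀ l, ← Matrix.transpose_map, ← Matrix.map_mul, ← Matrix.map_mul]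
        ext i j; simp only [Matrix.map_apply, Matrix.add_apply, Matrix.smul_apply, map_add, map_mul, smul_eq_mul]
      rw [e]
      refine (congrFun (hεδ l) (ix q)).trans ?_
      simp [Pi.single_apply, Matrix.one_apply]
      rfl
    rw [this, Matrix.det_one]
    exact isUnit_one
  obtain ⟨t, ht, htm⟩ := H9Hens.exists_zero_of_jacobian P _ h₀ hJ
  let g := G.map (eval t)
  have hsmall : ∀ i j, (g - 1) i j ∈ maximalIdeal R := by
    intro i j
    have : (g - 1) i j = ∑ q, δ₀ q i j * t q := by simp [g, G]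
    rw [this]
    exact Ideal.sum_mem _ fun q _ => Ideal.mul_mem_left _ _ (by simpa using htm q)
  have hu : IsUnit (eval t u) := by
    have : eval t u = 1 + ∑ q, ε₀ q * t q := by simp [u]
    rw [this]
    have h' := IsLocalRing.isUnit_one_sub_self_of_mem_nonunits (-(∑ q, ε₀ q * t q))
      (Submodule.neg_mem _ (Ideal.sum_mem (maximalIdeal R) fun q _ => Ideal.mul_mem_left _ _ (by simpa using htm q)))
    rwa [sub_neg_eq_add] at h'
  refine ⟨g, hsmall, ?_⟩
  have hU : ∀ p : Pair, eval t u * up (gᵀ * A * g) p = up (A - r) p := fun p => by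
    have := hev t (ix.symm p)
    rw [ht, ix.apply_symm_apply] at this
    exact sub_eq_zero.1 this.symm
  apply hu.mul_right_eq_zero.1
  have hq : VanCyc.quadEval a (g *ᵥ x) = x ⬝ᵥ (gᵀ * A * g) *ᵥ x := by
    rw [quadEval_eq, ← mulVec_mulVec, ← mulVec_mulVec, dotProduct_mulVec x gᵀ, vecMul_transpose]
  rw [hq, dotProduct_mulVec_self, Finset.mul_sum]
  calc _ = ∑ p : Pair, x p.1.1 * x p.1.2 * up (A - r) p :=
        Finset.sum_congr rfl fun p _ => by rw [← hU]; ring
    _ = 0 := by
        rw [← dotProduct_mulVec_self, sub_mulVec, dotProduct_sub, ← quadEval_eq, hx, sub_self]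

end Groth.Agent.H9Quad
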