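import Groth.Agent.H9Quad.Series
import Groth.Agent.H9Quad.Solve
import Groth.Agent.H9Quad.Surj
import Groth.Agent.S0511

/-!
The henselization of an ordinary quadratic singularity over an algebraically closed field is the
henselization of the quadratic cone.
-/

universe u

open IsLocalRing Finsupp

namespace Groth.Agent.H9Quad

theorem good_map {K L : Type u} [CommRing K] [CommRing L] {N : ℕ} {A : Matrix (Fin N) (Fin N) K} (hA : Good A)
    (ι : K →+* L) (hι : Function.Bijective ι) : Good (A.map ι) := by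
  intro S hS hM hc
  obtain ⟨S', rfl⟩ : ∃ S' : Matrix (Fin N) (Fin N) K, S'.map ι = S :=
    ⟨Matrix.of fun i j => (hι.2 (S i j)).choose, Matrix.ext fun i j => (hι.2 (S i j)).choose_spec⟩
  have h0 := Matrix.map_injective (m := Fin N) (n := Fin N) hι.1
  have hS' : S'.IsSymm := h0 (show S'.transpose.map ι = S'.map ι by rw [Matrix.transpose_map]; exact hS)
  rw [hA S' hS' ?_ ?_]
  · exact Matrix.map_zero ι (map_zero ι)
  · apply h0
    have : (A.map ι).transpose = A.transpose.map ι := Matrix.transpose_map.symm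
    rw [this, ← Matrix.map_add ι (map_add ι)] at hM
    show ((A + A.transpose) * S').map ι = Matrix.map 0 ι
    rw [Matrix.map_mul, hM, Matrix.map_zero ι (map_zero ι)]
  · apply hι.1
    simpa [map_sum] using hc

theorem quadEval_sub_mem {R : Type u} [CommRing R] {N : ℕ} (I : Ideal R) (a : Fin N → Fin N → R) {v w : Fin N → R}
    (hv : ∀ i, v i ∈ I) (hw : ∀ i, w i ∈ I) (hvw : ∀ i, v i - w i ∈ I ^ 2) :
    VanCyc.quadEval a v - VanCyc.quadEval a w ∈ I ^ 3 := by
  simp only [VanCyc.quadEval, ← Finset.sum_sub_distrib]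
  refine Ideal.sum_mem _ fun i _ => Ideal.sum_mem _ fun j _ => ?_
  split_ifs
  · have e : a i j * v i * v j - a i j * w i * w j =
        a i j * ((v i - w i) * v j) + a i j * ((v j - w j) * w i) := by ring
    rw [e, pow_succ]
    exact add_mem (Ideal.mul_mem_left _ _ (Ideal.mul_mem_mul (hvw i) (hv j)))
      (Ideal.mul_mem_left _ _ (Ideal.mul_mem_mul (hvw j) (hw i)))
  · simp

/-- The map of a noetherian local algebra to a ring isomorphic to its completion. -/
theorem exists_theta {k O T : Type u} [CommRing k] [CommRing O] [IsLocalRing O] [IsNoetherianRing O] [Algebra k O]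
    [CommRing T] [IsLocalRing T] [Algebra k T] (e : AdicCompletion (maximalIdeal O) O ≃ₐ[k] T) :
    ∃ θ : O →ₐ[k] T, (∀ o, θ o = e (algebraMap O _ o)) ∧ (∀ r, (maximalIdeal T ^ r).comap θ = maximalIdeal O ^ r) ∧
      ∀ r (t : T), ∃ o, θ o - t ∈ maximalIdeal T ^ r := by
  let I := maximalIdeal O
  have hfg : I.FG := IsNoetherian.noetherian I
  let ι : O →ₐ[k] AdicCompletion I O := { algebraMap O (AdicCompletion I O) with commutes' := fun _ => rfl }
  refine ⟨e.toAlgHom.comp ι, fun o => rfl, ?_⟩
  have he : (maximalIdeal T).comap e.toRingEquiv.toRingHom = maximalIdeal (AdicCompletion I O) := by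
    haveI := Ideal.comap_isMaximal_of_surjective (K := maximalIdeal T) e.toRingEquiv.toRingHom e.surjective
    exact eq_maximalIdeal inferInstance
  have hpow : ∀ r (z : AdicCompletion I O), e z ∈ maximalIdeal T ^ r ↔ z.val r = 0 := by
    intro r z
    have hmap : (maximalIdeal (AdicCompletion I O)).map e.toRingEquiv.toRingHom = maximalIdeal T := by
      rw [← he]
      exact Ideal.map_comap_of_surjective e.toRingEquiv.toRingHom e.surjective _
    rw [← hmap, ← Ideal.map_pow]
    have : z ∈ maximalIdeal (AdicCompletion I O) ^ r ↔ z.val r = 0 := by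
      rw [AdicCompletion.maximalIdeal_eq_map, ← Ideal.map_pow,
        ← Submodule.restrictScalars_mem O ((I ^ r).map (algebraMap O (AdicCompletion I O))),
        ← Ideal.smul_top_eq_map, AdicCompletion.pow_smul_top_eq_ker_eval hfg]
      rfl
    rw [← this]
    refine ⟨fun h => ?_, fun h => Ideal.mem_map_of_mem _ h⟩
    obtain ⟨w, hw, hwz⟩ := (Ideal.mem_map_iff_of_surjective _ e.surjective).1 h
    exact (e.injective hwz) ▸ hw
  refine ⟨fun r => Ideal.ext fun o => ?_, fun r t => ?_⟩
  · rw [Ideal.mem_comap]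
    show e (algebraMap O _ o) ∈ _ ↔ _
    rw [hpow, AdicCompletion.algebraMap_apply]
    show Submodule.Quotient.mk o = 0 ↔ _
    rw [Submodule.Quotient.mk_eq_zero, smul_eq_mul, Ideal.mul_top]
  · obtain ⟨z, rfl⟩ := e.surjective t
    obtain ⟨o, ho⟩ := Submodule.Quotient.mk_surjective _ (z.val r)
    refine ⟨o, ?_⟩
    show e (algebraMap O _ o) - e z ∈ _
    rw [← map_sub, hpow]
    show Submodule.Quotient.mk o - z.val r = 0
    rw [ho, sub_self]

open H02CA.PS in
theorem henselization_iso_cone (k : Type u) [Field k] [IsAlgClosed k]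
    (O : Type u) [CommRing O] [IsLocalRing O] [Algebra k O] [Algebra.EssFiniteType k O]
    (hk : ∀ y : O, ∃ c : k, y - algebraMap k O c ∈ maximalIdeal O) {N : ℕ} [NeZero N]
    (f : MvPowerSeries (Fin N) k) (hf : VanCyc.OrdQuadSeries f)
    (e : AdicCompletion (maximalIdeal O) O ≃ₐ[k] (MvPowerSeries (Fin N) k ⧸ Ideal.span {f}))
    (Oh : Type u) [CommRing Oh] [IsLocalRing Oh] [Algebra O Oh] [IsLocalHom (algebraMap O Oh)]
    [hOh : Hensel.IsHenselization O Oh] [Algebra k Oh] [IsScalarTower k O Oh]
    [hP : (VanCyc.originQuot k (VanCyc.quadPart f) 0).IsPrime] (C : Type u) [CommRing C] [IsLocalRing C]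
    [Algebra (Localization.AtPrime (VanCyc.originQuot k (VanCyc.quadPart f) 0)) C]
    [IsLocalHom (algebraMap (Localization.AtPrime (VanCyc.originQuot k (VanCyc.quadPart f) 0)) C)]
    [hC : Hensel.IsHenselization (Localization.AtPrime (VanCyc.originQuot k (VanCyc.quadPart f) 0)) C]
    [Algebra k C] [IsScalarTower k (Localization.AtPrime (VanCyc.originQuot k (VanCyc.quadPart f) 0)) C] :
    Nonempty (Oh ≃ₐ[k] C) := by
  classical
  haveI : IsNoetherianRing O := Algebra.EssFiniteType.isNoetherianRing k O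
  set a := VanCyc.quadPart f with ha
  let M := MvPowerSeries (Fin N) k
  let T := M ⧸ Ideal.span {f}
  haveI : IsLocalRing T := e.toRingEquiv.isLocalRing
  let mk : M →+* T := Ideal.Quotient.mk (Ideal.span {f})
  have hmksurj : Function.Surjective mk := Ideal.Quotient.mk_surjective
  let V := vars (Fin N) k
  have hVM : maximalIdeal M = V := maximalIdeal_eq_vars
  have hf2 : f ∈ V ^ 2 := mem_pow_of_coeff fun d hd => by
    rcases degree_lt_two hd with rfl | ⟨l, rfl⟩
    · rw [MvPowerSeries.coeff_zero_eq_constantCoeff_apply, hf.1.1]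
    · exact hf.1.2 l
  have hfle : Ideal.span {f} ≤ V ^ 2 := (Ideal.span_singleton_le_iff_mem _).2 hf2
  have hker : RingHom.ker mk = Ideal.span {f} := Ideal.mk_ker
  have hmT : maximalIdeal T = V.map mk := by
    rcases Ideal.map_eq_top_or_isMaximal_of_surjective mk hmksurj (I := V)
        (H := hVM ▸ maximalIdeal.isMaximal M) with h | h
    · exfalso
      have h1 : (1 : M) ∈ (V.map mk).comap mk := by rw [h]; simp
      rw [Ideal.comap_map_of_surjective mk hmksurj, ← RingHom.ker_eq_comap_bot, hker,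
        sup_eq_left.2 (hfle.trans (Ideal.pow_le_self two_ne_zero)), mem_vars_iff] at h1
      simp at h1
    · exact (eq_maximalIdeal h).symm
  let Xb : Fin N → T := fun i => mk (MvPowerSeries.X i)
  have hXb : ∀ i, Xb i ∈ maximalIdeal T := fun i =>
    hmT ▸ Ideal.mem_map_of_mem mk (Ideal.subset_span ⟨i, rfl⟩)
  have hmTspan : maximalIdeal T = Ideal.span (Set.range Xb) := by
    rw [hmT, Ideal.map_span, ← Set.range_comp]; rfl
  have hmem : ∀ r (w : M), mk w ∈ maximalIdeal T ^ r ↔ w ∈ V ^ r ⊔ Ideal.span {f} := fun r w => by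
    rw [hmT, ← Ideal.map_pow, ← Ideal.mem_comap, Ideal.comap_map_of_surjective mk hmksurj,
      ← RingHom.ker_eq_comap_bot, hker]
  obtain ⟨θ, hθ, hθcomap, hθsurj⟩ := exists_theta e
  -- lifts of the variables
  choose x hx using fun i => hθsurj 2 (Xb i)
  have hθx : ∀ i, θ (x i) ∈ maximalIdeal T := fun i => by
    have := add_mem (Ideal.pow_le_self two_ne_zero (hx i)) (hXb i)
    simpa only [sub_add_cancel] using this
  have hxm : ∀ i, x i ∈ maximalIdeal O := fun i => by
    rw [← pow_one (maximalIdeal O), ← hθcomap, Ideal.mem_comap, pow_one]; exact hθx i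
  have hmx : maximalIdeal O = Ideal.span (Set.range x) := by
    refine le_antisymm (Submodule.le_of_le_smul_of_le_jacobson_bot (I := maximalIdeal O) (IsNoetherian.noetherian _)
      (maximalIdeal_le_jacobson _) fun o ho => ?_) (Ideal.span_le.2 (by rintro _ ⟨i, rfl⟩; exact hxm i))
    have hθo : θ o ∈ maximalIdeal T := by
      rw [← pow_one (maximalIdeal O), ← hθcomap, Ideal.mem_comap, pow_one] at ho; exact ho
    rw [hmTspan, Ideal.mem_span_range_iff_exists_fun] at hθo
    obtain ⟨t, ht⟩ := hθo
    choose o' ho' using fun i => hθsurj 1 (t i)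
    rw [Submodule.mem_sup]
    refine ⟨∑ i, o' i * x i, Ideal.sum_mem _ fun i _ => Ideal.mul_mem_left _ _ (Ideal.subset_span ⟨i, rfl⟩),
      o - ∑ i, o' i * x i, ?_, by ring⟩
    rw [smul_eq_mul, ← pow_two, ← hθcomap, Ideal.mem_comap, map_sub, map_sum, ← ht, ← Finset.sum_sub_distrib]
    refine Ideal.sum_mem _ fun i _ => ?_
    have e' : t i * Xb i - θ (o' i * x i) = -((θ (o' i) - t i) * Xb i) - θ (o' i) * (θ (x i) - Xb i) := by
      rw [map_mul]; ring
    rw [e']
    refine sub_mem (neg_mem ?_) (Ideal.mul_mem_left _ _ (hx i))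
    rw [pow_two]
    exact Ideal.mul_mem_mul (by simpa using ho' i) (hXb i)
  -- the relation
  have hcoe : ∀ z : MvPolynomial (Fin N) k, MvPolynomial.aeval Xb z = mk z := fun z => by
    have : MvPolynomial.aeval Xb = (Ideal.Quotient.mkₐ k (Ideal.span {f})).comp
        (MvPolynomial.coeToMvPowerSeries.algHom k) := MvPolynomial.algHom_ext fun i => by simp [Xb, mk]
    rw [this]
    simp [mk]
  obtain ⟨rel, hrel, hrelx⟩ := exists_matrix_of_mem_cube x
    (w := VanCyc.quadEval (fun i j => algebraMap k O (a i j)) x) (by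
      rw [← hmx, ← hθcomap, Ideal.mem_comap]
      show θ.toRingHom _ ∈ _
      rw [map_quadEval]
      simp only [AlgHom.toRingHom_eq_coe, RingHom.coe_coe, AlgHom.commutes]
      have h1 := quadEval_sub_mem (maximalIdeal T) (fun i j => algebraMap k T (a i j)) hθx hXb hx
      have h2 : VanCyc.quadEval (fun i j => algebraMap k T (a i j)) Xb ∈ maximalIdeal T ^ 3 := by
        rw [← aeval_quadPoly, hcoe, hmem]
        have e' : (VanCyc.quadPoly a : M) = -(f - (VanCyc.quadPoly a : M)) + f := by ring
        rw [e']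
        exact Submodule.add_mem_sup (neg_mem (sub_quadPoly_mem hf.1)) (Ideal.mem_span_singleton_self f)
      simpa using add_mem h1 h2)
  -- in the henselization
  haveI : HenselianLocalRing Oh := hOh.henselian
  haveI : IsNoetherianRing Oh := (S0511.result O Oh).1 inferInstance
  let xh : Fin N → Oh := fun i => algebraMap O Oh (x i)
  have hmOh : maximalIdeal Oh = Ideal.span (Set.range xh) := by
    rw [← S0507.result O Oh, hmx, Ideal.map_span, ← Set.range_comp]; rfl
  have hresO : Function.Surjective ((residue Oh).comp (algebraMap k Oh)) := fun w => by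
    obtain ⟨v, hv⟩ := (S0508.result O Oh).2 w
    obtain ⟨o, rfl⟩ := residue_surjective v
    obtain ⟨c, hc⟩ := hk o
    refine ⟨c, ?_⟩
    rw [← hv, ResidueField.map_residue, RingHom.comp_apply, IsScalarTower.algebraMap_apply k O Oh]
    refine (Ideal.Quotient.eq.2 ?_).symm
    rw [← map_sub]
    exact map_nonunit _ _ hc
  have hbij : Function.Bijective ((residue Oh).comp (algebraMap k Oh)) := ⟨RingHom.injective _, hresO⟩
  have hgood : Good ((upper fun i j => algebraMap k Oh (a i j)).map (residue Oh)) := by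
    have e' : (upper fun i j => algebraMap k Oh (a i j)).map (residue Oh) =
        (upper a).map ((residue Oh).comp (algebraMap k Oh)) := by
      ext i j; simp [upper, apply_ite (residue Oh), apply_ite (algebraMap k Oh)]
    rw [e']
    exact good_map (good_of_quadOrd hf.2) _ hbij
  obtain ⟨g, hg, hgy⟩ := exists_mulVec_zero hgood (rel.map (algebraMap O Oh))
    (fun i j => map_nonunit _ _ (by rw [hmx]; exact hrel i j)) xh (by
      have := congrArg (algebraMap O Oh) hrelx
      rw [map_quadEval] at this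
      simp only [← IsScalarTower.algebraMap_apply k O Oh] at this
      refine this.trans ?_
      simp [dotProduct, Matrix.mulVec, map_sum, xh])
  let y : Fin N → Oh := g.mulVec xh
  have hxh : ∀ i, xh i ∈ maximalIdeal Oh := fun i => hmOh.symm.le (Ideal.subset_span ⟨i, rfl⟩)
  have hyx : ∀ i, y i - xh i ∈ maximalIdeal Oh ^ 2 := fun i => by
    have : y i - xh i = ((g - 1).mulVec xh) i := by simp [y, Matrix.sub_mulVec]
    rw [this, pow_two]
    exact Ideal.sum_mem _ (t := Finset.univ) fun j _ => Ideal.mul_mem_mul (hg i j) (hxh j)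
  have hy : ∀ i, y i ∈ maximalIdeal Oh := fun i => by
    simpa using add_mem (Ideal.pow_le_self two_ne_zero (hyx i)) (hxh i)
  have hgen : maximalIdeal Oh ≤ Ideal.span (Set.range y) := by
    refine Submodule.le_of_le_smul_of_le_jacobson_bot (I := maximalIdeal Oh) (IsNoetherian.noetherian _)
      (maximalIdeal_le_jacobson _) ?_
    conv_lhs => rw [hmOh]
    refine Ideal.span_le.2 ?_
    rintro _ ⟨i, rfl⟩
    rw [SetLike.mem_coe, Submodule.mem_sup]
    refine ⟨y i, Ideal.subset_span ⟨i, rfl⟩, -(y i - xh i), ?_, by ring⟩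
    rw [smul_eq_mul, ← pow_two]
    exact neg_mem (hyx i)
  -- the map from the model
  let P := VanCyc.originQuot k a 0
  let S := Localization.AtPrime P
  have hqy : MvPolynomial.aeval y (VanCyc.quadPoly a) = 0 := by rw [aeval_quadPoly]; exact hgy
  let ψ0 : VanCyc.quadRing k a 0 →ₐ[k] Oh := Ideal.Quotient.liftₐ _ (MvPolynomial.aeval y) fun z hz => by
    obtain ⟨w, rfl⟩ := Ideal.mem_span_singleton'.1 hz
    rw [map_mul, map_sub, MvPolynomial.C_0, map_zero, sub_zero, hqy, mul_zero]
  let qm : MvPolynomial (Fin N) k →ₐ[k] VanCyc.quadRing k a 0 := Ideal.Quotient.mkₐ k _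
  have hψ0 : ∀ z, ψ0 (qm z) = MvPolynomial.aeval y z := fun z => rfl
  have hPspan : P = Ideal.span (Set.range fun i => qm (MvPolynomial.X i)) := by
    show ((maximalIdeal k).map MvPolynomial.C ⊔ Ideal.span (Set.range MvPolynomial.X)).map _ = _
    rw [(maximalIdeal_eq_bot : maximalIdeal k = ⊥), Ideal.map_bot, bot_sup_eq, Ideal.map_span, ← Set.range_comp]
    rfl
  have hconst : ∀ s : VanCyc.quadRing k a 0, ∃ l : k, s - algebraMap k _ l ∈ P := fun s => by
    obtain ⟨z, rfl⟩ := Ideal.Quotient.mk_surjective s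
    induction z using MvPolynomial.induction_on with
    | C l =>
      refine ⟨l, ?_⟩
      show qm (MvPolynomial.C l) - algebraMap k _ l ∈ P
      have h : qm (MvPolynomial.C l) = algebraMap k _ l := qm.commutes l
      rw [h, sub_self]
      exact zero_mem _
    | add z z' h h' =>
      obtain ⟨l, hl⟩ := h; obtain ⟨l', hl'⟩ := h'
      exact ⟨l + l', by rw [map_add, map_add, add_sub_add_comm]; exact add_mem hl hl'⟩
    | mul_X z i _ =>
      refine ⟨0, ?_⟩
      rw [map_zero (algebraMap k (VanCyc.quadRing k a 0)), sub_zero, map_mul, hPspan]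
      exact Ideal.mul_mem_left _ _ (Ideal.subset_span ⟨i, rfl⟩)
  have hψP : ∀ s ∈ P, ψ0 s ∈ maximalIdeal Oh := by
    show P ≤ (maximalIdeal Oh).comap ψ0
    rw [hPspan, Ideal.span_le]
    rintro _ ⟨i, rfl⟩
    rw [SetLike.mem_coe, Ideal.mem_comap, hψ0, MvPolynomial.aeval_X]
    exact hy i
  have hψu : ∀ s : P.primeCompl, IsUnit (ψ0.toRingHom s) := by
    rintro ⟨s, hs⟩
    obtain ⟨l, hl⟩ := hconst s
    by_contra h
    apply hs
    have hl0 : l = 0 := by
      by_contra hne
      have h1 : algebraMap k Oh l ∈ maximalIdeal Oh := by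
        have := sub_mem ((mem_maximalIdeal _).2 h : ψ0 s ∈ maximalIdeal Oh) (hψP _ hl)
        simpa [map_sub] using this
      exact (mem_maximalIdeal _).1 h1 ((isUnit_iff_ne_zero.2 hne).map _)
    simpa [hl0] using hl
  let L : S →+* Oh := IsLocalization.lift (M := P.primeCompl) (g := ψ0.toRingHom) hψu
  have hLl : IsLocalHom L := ⟨fun z hz => by
    obtain ⟨s, t, rfl⟩ := IsLocalization.exists_mk'_eq P.primeCompl z
    rw [IsLocalization.AtPrime.isUnit_mk'_iff]
    intro hs
    have h2 : L (algebraMap _ S s) ∈ maximalIdeal Oh := by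
      rw [IsLocalization.lift_eq]; exact hψP s hs
    rw [← IsLocalization.mk'_spec S s t, map_mul] at h2
    exact (mem_maximalIdeal _).1 h2 (hz.mul ((IsLocalization.map_units _ t).map L))⟩
  obtain ⟨gC, hgC, -⟩ := hC.universal Oh L hLl
  let ψ : C →ₐ[k] Oh := { gC with
    commutes' := fun l => by
      show gC (algebraMap k C l) = algebraMap k Oh l
      rw [IsScalarTower.algebraMap_apply k S C]
      refine (RingHom.congr_fun hgC _).trans ?_
      rw [IsScalarTower.algebraMap_apply k (VanCyc.quadRing k a 0) S, IsLocalization.lift_eq]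
      exact ψ0.commutes l }
  let κ : VanCyc.quadRing k a 0 →ₐ[k] C :=
    ((IsScalarTower.toAlgHom k S C).comp (IsScalarTower.toAlgHom k (VanCyc.quadRing k a 0) S))
  let c : Fin N → C := fun i => κ (qm (MvPolynomial.X i))
  have hκ : ∀ z, κ (qm z) = MvPolynomial.aeval c z := fun z => by
    have : MvPolynomial.aeval c = κ.comp qm := MvPolynomial.algHom_ext fun i => by simp [c]
    rw [this]; rfl
  have hψκ : ∀ s, ψ (κ s) = ψ0 s := fun s => by
    show gC (algebraMap S C (algebraMap _ S s)) = _
    exact (RingHom.congr_fun hgC _).trans (IsLocalization.lift_eq _ _)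
  have hc : ∀ i, ψ (c i) = y i := fun i => by rw [hψκ, hψ0, MvPolynomial.aeval_X]
  haveI : HenselianLocalRing C := hC.henselian
  haveI : IsNoetherianRing C := (S0511.result S C).1 inferInstance
  have hmC : maximalIdeal C = Ideal.span (Set.range c) := by
    rw [← S0507.result S C, ← Localization.AtPrime.map_eq_maximalIdeal, Ideal.map_map]
    refine (congrArg (Ideal.map ((algebraMap S C).comp (algebraMap (VanCyc.quadRing k a 0) S))) hPspan).trans ?_
    rw [Ideal.map_span, ← Set.range_comp]
    rfl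
  haveI hψl : IsLocalHom ψ.toRingHom := ((local_hom_TFAE _).out 0 2).mpr (by
    rw [hmC, Ideal.map_span, Ideal.span_le]
    rintro _ ⟨_, ⟨i, rfl⟩, rfl⟩
    exact (hc i).symm ▸ hy i)
  have hsurj : Function.Surjective ψ := surjective_of_generators (isHensEFT_of_essFiniteType k O Oh) hresO y hy
    (le_sup_of_le_right hgen) ψ c hc
  have hresC : Function.Surjective ((residue C).comp (algebraMap k C)) := fun w => by
    obtain ⟨w, rfl⟩ := residue_surjective w
    obtain ⟨l, hl⟩ := hresO (residue Oh (ψ w))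
    refine ⟨l, ?_⟩
    apply RingHom.injective (ResidueField.map ψ.toRingHom)
    rw [RingHom.comp_apply, ResidueField.map_residue, ResidueField.map_residue]
    refine Eq.trans ?_ hl
    exact congrArg (residue Oh) (ψ.commutes l)
  -- injectivity
  haveI : HenselianLocalRing (AdicCompletion (maximalIdeal O) O) := H9Hens.henselianLocalRing_cpl O
  haveI : IsLocalHom (algebraMap O (AdicCompletion (maximalIdeal O) O)) := H9Hens.isLocalHom_cpl O
  obtain ⟨g0, hg0, -⟩ := hOh.universal (AdicCompletion (maximalIdeal O) O) (algebraMap O _) inferInstance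
  let Λ : Oh →ₐ[k] T := { e.toRingEquiv.toRingHom.comp g0 with
    commutes' := fun l => by
      show e (g0 (algebraMap k Oh l)) = _
      rw [IsScalarTower.algebraMap_apply k O Oh, ← RingHom.comp_apply g0, hg0]
      exact e.commutes l }
  have hΛ : ∀ o, Λ (algebraMap O Oh o) = θ o := fun o => by
    show e (g0 (algebraMap O Oh o)) = _
    rw [← RingHom.comp_apply g0, hg0, hθ]
  have hΛm : ∀ r, ∀ w ∈ maximalIdeal Oh ^ r, Λ w ∈ maximalIdeal T ^ r := by
    intro r w hw
    have h1 : (maximalIdeal Oh).map Λ ≤ maximalIdeal T := by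
      rw [hmOh, Ideal.map_span, Ideal.span_le]
      rintro _ ⟨_, ⟨i, rfl⟩, rfl⟩
      exact (hΛ (x i)).symm ▸ hθx i
    have := Ideal.mem_map_of_mem Λ hw
    rw [Ideal.map_pow] at this
    exact Ideal.pow_right_mono h1 r this
  choose Y hY using fun i => hmksurj (Λ (y i))
  have hYX : ∀ i, Y i - MvPowerSeries.X i ∈ V ^ 2 := fun i => by
    have h1 : mk (Y i - MvPowerSeries.X i) ∈ maximalIdeal T ^ 2 := by
      rw [map_sub, hY]
      have e' : Λ (y i) - Xb i = Λ (y i - xh i) + (θ (x i) - Xb i) := by rw [map_sub, hΛ]; ring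
      show Λ (y i) - Xb i ∈ _
      rw [e']
      exact add_mem (hΛm 2 _ (hyx i)) (hx i)
    rw [hmem, sup_eq_left.2 hfle] at h1
    exact h1
  have hYV : ∀ i, Y i ∈ V := fun i => by
    simpa using add_mem (Ideal.pow_le_self two_ne_zero (hYX i)) (Ideal.subset_span ⟨i, rfl⟩ : MvPowerSeries.X i ∈ V)
  obtain ⟨φ, hφb, hφX, hφV⟩ := exists_subst hYX
  have hφz : ∀ z : MvPolynomial (Fin N) k, φ z = MvPolynomial.aeval Y z := fun z => by
    have : MvPolynomial.aeval Y = φ.comp (MvPolynomial.coeToMvPowerSeries.algHom k) :=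
      MvPolynomial.algHom_ext fun i => by simp [hφX]
    rw [this]; simp
  have hmkY : ∀ z : MvPolynomial (Fin N) k, mk (MvPolynomial.aeval Y z) = Λ (MvPolynomial.aeval y z) := fun z => by
    have : (Ideal.Quotient.mkₐ k (Ideal.span {f})).comp (MvPolynomial.aeval Y) = Λ.comp (MvPolynomial.aeval y) :=
      MvPolynomial.algHom_ext fun i => by simp [← hY, mk]
    exact AlgHom.congr_fun this z
  obtain ⟨h, hh⟩ : ∃ h, h * f = MvPolynomial.aeval Y (VanCyc.quadPoly a) := by
    refine Ideal.mem_span_singleton'.1 ?_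
    rw [← Ideal.Quotient.eq_zero_iff_mem]
    exact (hmkY _).trans (by rw [hqy, map_zero])
  have hhu : IsUnit h := by
    by_contra hnu
    have h1 : h * f ∈ V ^ 3 := by
      rw [pow_succ']
      exact Ideal.mul_mem_mul (hVM.le ((mem_maximalIdeal h).2 hnu)) hf2
    have hX1 : MvPolynomial.aeval (fun i => (MvPowerSeries.X i : M)) (VanCyc.quadPoly a) = (VanCyc.quadPoly a : M) := by
      have : MvPolynomial.aeval (R := k) (fun i => (MvPowerSeries.X i : M)) = MvPolynomial.coeToMvPowerSeries.algHom k :=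
        MvPolynomial.algHom_ext fun i => by simp
      rw [this]; simp
    have h2 : MvPolynomial.aeval Y (VanCyc.quadPoly a) - (VanCyc.quadPoly a : M) ∈ V ^ 3 := by
      rw [← hX1, aeval_quadPoly, aeval_quadPoly]
      exact quadEval_sub_mem V _ hYV (fun i => Ideal.subset_span ⟨i, rfl⟩) hYX
    refine not_mem_cube hf ?_
    have e' : f = h * f - (MvPolynomial.aeval Y (VanCyc.quadPoly a) - (VanCyc.quadPoly a : M)) +
        (f - (VanCyc.quadPoly a : M)) := by rw [hh]; ring
    rw [e']
    exact add_mem (sub_mem h1 h2) (sub_quadPoly_mem hf.1)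
  have key : ∀ r (z : MvPolynomial (Fin N) k), MvPolynomial.aeval y z ∈ maximalIdeal Oh ^ r →
      MvPolynomial.aeval c z ∈ maximalIdeal C ^ r := by
    intro r z hz
    have h1 := hΛm r _ hz
    rw [← hmkY, hmem, Submodule.mem_sup] at h1
    obtain ⟨v, hv, w, hw, hvw⟩ := h1
    obtain ⟨t, rfl⟩ := Ideal.mem_span_singleton'.1 hw
    obtain ⟨hinv, hinv1⟩ := hhu.exists_left_inv
    obtain ⟨s, hs⟩ := hφb.2 (t * hinv)
    have h3 : φ ((z : M) - s * (VanCyc.quadPoly a : M)) ∈ V ^ r := by
      rw [map_sub, map_mul, hφz, hφz, hs, ← hh, ← hvw]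
      have e' : v + t * f - t * hinv * (h * f) = v := by linear_combination -(t * f) * hinv1
      rwa [e']
    rw [hφV] at h3
    let s' := MvPowerSeries.truncTotal r s
    have h4 : z - s' * VanCyc.quadPoly a ∈ MvPolynomial.idealOfVars (Fin N) k ^ r := by
      rw [MvPolynomial.mem_pow_idealOfVars_iff']
      intro d hd
      have h5 : ((z - s' * VanCyc.quadPoly a : MvPolynomial (Fin N) k) : M) ∈ V ^ r := by
        have e' : ((z - s' * VanCyc.quadPoly a : MvPolynomial (Fin N) k) : M) =
            ((z : M) - s * (VanCyc.quadPoly a : M)) + (s - (s' : M)) * (VanCyc.quadPoly a : M) := by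
          rw [← MvPolynomial.coeToMvPowerSeries.ringHom_apply, map_sub, map_mul]
          simp only [MvPolynomial.coeToMvPowerSeries.ringHom_apply]
          ring
        rw [e']
        exact add_mem h3 (Ideal.mul_mem_right _ _ (sub_truncTotal_mem r s))
      have := coeff_eq_zero_of_mem_pow h5 hd
      rwa [MvPolynomial.coeff_coe] at this
    have hle : (MvPolynomial.idealOfVars (Fin N) k).map (MvPolynomial.aeval (R := k) c) ≤ maximalIdeal C := by
      rw [Ideal.map_span, Ideal.span_le]
      rintro _ ⟨_, ⟨i, rfl⟩, rfl⟩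
      rw [SetLike.mem_coe, MvPolynomial.aeval_X, hmC]
      exact Ideal.subset_span ⟨i, rfl⟩
    have h6 : MvPolynomial.aeval c (z - s' * VanCyc.quadPoly a) ∈ maximalIdeal C ^ r := by
      have := Ideal.mem_map_of_mem (MvPolynomial.aeval (R := k) c) h4
      rw [Ideal.map_pow] at this
      exact Ideal.pow_right_mono hle r this
    have h7 : MvPolynomial.aeval c (VanCyc.quadPoly a) = 0 := by
      rw [← hκ]
      have : qm (VanCyc.quadPoly a) = 0 := Ideal.Quotient.eq_zero_iff_mem.2
        (Ideal.subset_span (by simp))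
      rw [this, map_zero]
    rwa [map_sub, map_mul, h7, mul_zero, sub_zero] at h6
  have hinj : Function.Injective ψ := by
    rw [injective_iff_map_eq_zero]
    intro w hw
    have hall : ∀ r, w ∈ maximalIdeal C ^ r := fun r => by
      obtain ⟨z, hz⟩ := exists_aeval_sub_mem_pow hresC c hmC r w
      have h1 : ψ (w - MvPolynomial.aeval c z) ∈ maximalIdeal Oh ^ r := by
        have h2 : (maximalIdeal C).map ψ ≤ maximalIdeal Oh := by
          rw [hmC, Ideal.map_span, Ideal.span_le]
          rintro _ ⟨_, ⟨i, rfl⟩, rfl⟩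
          exact (hc i).symm ▸ hy i
        have := Ideal.mem_map_of_mem ψ hz
        rw [Ideal.map_pow] at this
        exact Ideal.pow_right_mono h2 r this
      rw [map_sub, hw, zero_sub, neg_mem_iff, ← hκ, hψκ, hψ0] at h1
      have := add_mem hz (key r z h1)
      simpa using this
    have : w ∈ ⨅ r, maximalIdeal C ^ r := (Submodule.mem_iInf _).2 hall
    rw [Ideal.iInf_pow_eq_bot_of_isLocalRing _ (maximalIdeal.isMaximal C).ne_top] at this
    simpa using this
  exact ⟨(AlgEquiv.ofBijective ψ ⟨hinj, hsurj⟩).symm⟩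

end Groth.Agent.H9Quad
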