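import Groth.Agent.H9Quad.PolyHens

/-!
Presentations of henselizations of flat finitely presented algebras as quotients of the henselized
polynomial ring.
-/

universe u

open IsLocalRing MvPolynomial

namespace Groth.Agent.H9Quad

/-- The kernel of a surjection onto a flat algebra meets `I R` in `I · ker`. -/
theorem mem_mul_ker_of_flat {A R H : Type u} [CommRing A] [CommRing R] [CommRing H] [Algebra A R] [Algebra A H]
    [Module.Flat A H] (ψ : R →ₐ[A] H) (hψ : Function.Surjective ψ) (I : Ideal A) {z : R}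
    (hz : z ∈ RingHom.ker ψ) (hzI : z ∈ I.map (algebraMap A R)) :
    z ∈ I.map (algebraMap A R) * RingHom.ker ψ := by
  classical
  obtain ⟨l, c, μ, rfl⟩ := Submodule.mem_span_set'.1 hzI
  choose a ha hμa using fun i => (μ i).2
  have hsum : ∑ i, a i • ψ (c i) = 0 := by
    rw [RingHom.mem_ker, map_sum] at hz
    refine Eq.trans ?_ hz
    refine Finset.sum_congr rfl fun i _ => ?_
    rw [smul_eq_mul, map_mul, ← hμa i, AlgHom.commutes, Algebra.smul_def, mul_comm]
  obtain ⟨m, e, w, hw, hcancel⟩ := Module.Flat.isTrivialRelation_of_sum_smul_eq_zero (R := A) (M := H) hsum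
  choose W hW using fun j => hψ (w j)
  have hker : ∀ i, c i - ∑ j, e i j • W j ∈ RingHom.ker ψ := fun i => by
    rw [RingHom.mem_ker, map_sub, map_sum, sub_eq_zero, show ψ (c i) = _ from hw i]
    simp [hW]
  have hz' : ∑ i, c i • (μ i : R) = ∑ i, algebraMap A R (a i) * (c i - ∑ j, e i j • W j) := by
    simp only [mul_sub, Finset.sum_sub_distrib, Finset.mul_sum]
    rw [Finset.sum_comm]
    have h0 : ∀ j, ∑ i, algebraMap A R (a i) * (e i j • W j) = 0 := fun j => by
      simp only [Algebra.smul_def, ← mul_assoc, ← map_mul, ← Finset.sum_mul, ← map_sum, hcancel j, map_zero, zero_mul]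
    simp only [h0, Finset.sum_const_zero, sub_zero, smul_eq_mul, ← hμa]
    exact Finset.sum_congr rfl fun i _ => mul_comm _ _
  rw [hz']
  exact Ideal.sum_mem _ fun i _ => Ideal.mul_mem_mul (Ideal.mem_map_of_mem _ (ha i)) (hker i)

variable {A : Type u} [CommRing A] [HenselianLocalRing A] {B₀ : Type u} [CommRing B₀] [Algebra A B₀]
  (P : Ideal B₀) [P.IsPrime] (H : Type u) [CommRing H] [IsLocalRing H] [Algebra (Localization.AtPrime P) H]
  [IsLocalHom (algebraMap (Localization.AtPrime P) H)] [hH : Hensel.IsHenselization (Localization.AtPrime P) H]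
  [Algebra A H] [IsScalarTower A (Localization.AtPrime P) H]

include hH in
theorem isLocalHom_hens (hP : (maximalIdeal A).map (algebraMap A B₀) ≤ P) : IsLocalHom (algebraMap A H) :=
  ((local_hom_TFAE _).out 0 2).mpr (Ideal.map_le_iff_le_comap.2 fun a ha => by
    rw [Ideal.mem_comap, IsScalarTower.algebraMap_apply A (Localization.AtPrime P) H]
    refine map_nonunit _ _ ?_
    rw [IsScalarTower.algebraMap_apply A B₀ (Localization.AtPrime P), IsLocalization.AtPrime.to_map_mem_maximal_iff _ P]
    exact hP (Ideal.mem_map_of_mem _ ha))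

include hH in
theorem flat_hens [Module.Flat A (Localization.AtPrime P)] : Module.Flat A H := by
  haveI := S0509.result (Localization.AtPrime P) H
  exact Module.Flat.trans A (Localization.AtPrime P) H

include hH in
/-- The henselization is a quotient of the henselized polynomial ring by a finitely generated ideal. -/
theorem exists_presentation [Algebra.FinitePresentation A B₀] (hP : (maximalIdeal A).map (algebraMap A B₀) ≤ P)
    (hres : Function.Surjective ((residue H).comp (algebraMap A H))) {N : ℕ} (b : Fin N → Localization.AtPrime P)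
    (hb : ∀ i, b i ∈ maximalIdeal (Localization.AtPrime P))
    (hgen : maximalIdeal H ≤ (maximalIdeal A).map (algebraMap A H) ⊔
      Ideal.span (Set.range fun i => algebraMap (Localization.AtPrime P) H (b i)))
    {R : Type u} [CommRing R] [IsLocalRing R] [Algebra A R] {X : Fin N → R} (hR : IsPolyHens A R X) :
    ∃ ψ : R →ₐ[A] H, (∀ i, ψ (X i) = algebraMap (Localization.AtPrime P) H (b i)) ∧
      Function.Surjective ψ ∧ (RingHom.ker ψ).FG := by
  classical
  haveI := hR.henselian
  haveI := hR.local_hom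
  haveI := isLocalHom_hens P H hP
  haveI : HenselianLocalRing H := hH.henselian
  let S := Localization.AtPrime P
  let κ : B₀ →ₐ[A] H := (IsScalarTower.toAlgHom A S H).comp (IsScalarTower.toAlgHom A B₀ S)
  have hκ : ∀ x, x ∈ P ↔ κ x ∈ maximalIdeal H := fun x => by
    show _ ↔ algebraMap S H (algebraMap B₀ S x) ∈ maximalIdeal H
    rw [mem_maximalIdeal, map_mem_nonunits_iff (algebraMap S H), ← mem_maximalIdeal,
      IsLocalization.AtPrime.to_map_mem_maximal_iff S P]
  let y : Fin N → H := fun i => algebraMap S H (b i)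
  have hy : ∀ i, y i ∈ maximalIdeal H := fun i => map_nonunit _ _ (hb i)
  obtain ⟨ψ, hψ, -⟩ := hR.univ H y hy
  have hψm : ∀ i, ψ (X i) ∈ maximalIdeal H := fun i => (hψ i).symm ▸ hy i
  haveI := hR.isLocalHom_of_mem ψ hψm
  have hcomap : (maximalIdeal H).comap (algebraMap A H) = maximalIdeal A :=
    ((local_hom_TFAE _).out 0 4).mp (isLocalHom_hens P H hP)
  have hsurj : Function.Surjective ψ := surjective_of_generators
    ⟨B₀, inferInstance, inferInstance, inferInstance, P, inferInstance, inferInstance, inferInstance, inferInstance, hH⟩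
    hres y hy (by rw [hcomap]; exact hgen) ψ X hψ
  refine ⟨ψ, hψ, hsurj, ?_⟩
  obtain ⟨M, π, hπ, hK⟩ := Algebra.FinitePresentation.out (R := A) (A := B₀)
  choose z hz using fun l => hsurj (κ (π (MvPolynomial.X l)))
  choose w s hws using fun i => IsLocalization.exists_mk'_eq P.primeCompl (b i)
  choose p hp using fun i => hπ (w i)
  choose d hd using fun i => hπ (s i : B₀)
  have hyw : ∀ i, κ (s i : B₀) * y i = κ (w i) := fun i => by
    show algebraMap S H (algebraMap B₀ S _) * algebraMap S H (b i) = algebraMap S H (algebraMap B₀ S _)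
    rw [← map_mul, ← hws i, IsLocalization.mk'_spec']
  let ρ : MvPolynomial (Fin M) A →ₐ[A] R := aeval z
  have hρ : ∀ q, ψ (ρ q) = κ (π q) := fun q => by
    have : ψ.comp ρ = κ.comp π := MvPolynomial.algHom_ext fun l => by simp [ρ, hz]
    exact AlgHom.congr_fun this q
  let J : Ideal R := (RingHom.ker π.toRingHom).map ρ.toRingHom ⊔ Ideal.span (Set.range fun i => ρ (p i) - ρ (d i) * X i)
  have hJle : J ≤ RingHom.ker ψ := by
    refine sup_le (Ideal.map_le_iff_le_comap.2 fun q hq => ?_) (Ideal.span_le.2 ?_)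
    · show ψ (ρ q) = 0
      rw [hρ, show π q = 0 from hq, map_zero]
    · rintro _ ⟨i, rfl⟩
      show ψ (ρ (p i) - ρ (d i) * X i) = 0
      rw [map_sub, map_mul, hρ, hρ, hp, hd, hψ, hyw, sub_self]
  suffices hle : RingHom.ker ψ ≤ J by
    rw [le_antisymm hle hJle]
    refine Submodule.FG.sup (hK.map _) ?_
    exact ⟨(Set.finite_range _).toFinset, by rw [Set.Finite.coe_toFinset]⟩
  haveI : Nontrivial (R ⧸ J) := by
    rw [Ideal.Quotient.nontrivial_iff]
    intro h
    have h1 : (1 : R) ∈ RingHom.ker ψ := hJle (h.symm ▸ Submodule.mem_top)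
    simp at h1
  haveI : IsLocalRing (R ⧸ J) := IsLocalRing.of_surjective' _ Ideal.Quotient.mk_surjective
  haveI : HenselianLocalRing (R ⧸ J) := H9Hens.henselianLocalRing_quotient J
  have hmkm : ∀ r ∈ maximalIdeal R, Ideal.Quotient.mk J r ∈ maximalIdeal (R ⧸ J) := fun r hr => by
    rw [← IsLocalRing.map_maximalIdeal_of_surjective (Ideal.Quotient.mk J) Ideal.Quotient.mk_surjective]
    exact Ideal.mem_map_of_mem _ hr
  let ψb : R ⧸ J →ₐ[A] H := Ideal.Quotient.liftₐ J ψ fun r hr => hJle hr
  haveI : IsLocalHom (algebraMap A (R ⧸ J)) := ((local_hom_TFAE _).out 0 2).mpr (Ideal.map_le_iff_le_comap.2 fun a ha => by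
    rw [Ideal.mem_comap, ← Ideal.Quotient.mk_algebraMap]
    exact hmkm _ (hR.algebraMap_mem ha))
  let ρb : B₀ →ₐ[A] R ⧸ J := (Ideal.Quotient.liftₐ (RingHom.ker π.toRingHom) ((Ideal.Quotient.mkₐ A J).comp ρ)
    fun q hq => Ideal.Quotient.eq_zero_iff_mem.2 (Ideal.mem_sup_left (Ideal.mem_map_of_mem _ hq))).comp
      (Ideal.quotientKerAlgEquivOfSurjective hπ).symm.toAlgHom
  have hρb : ∀ q, ρb (π q) = Ideal.Quotient.mk J (ρ q) := fun q => by
    have h1 : (Ideal.quotientKerAlgEquivOfSurjective hπ).symm (π q) = Ideal.Quotient.mk _ q := by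
      rw [AlgEquiv.symm_apply_eq]; rfl
    simp only [ρb, AlgHom.comp_apply]
    erw [h1]
    rfl
  have hψρ : ∀ x, ψb (ρb x) = κ x := fun x => by
    obtain ⟨q, rfl⟩ := hπ x
    rw [hρb]
    exact hρ q
  have hloc : ∀ x, x ∈ P ↔ ρb x ∈ maximalIdeal (R ⧸ J) := fun x => by
    rw [hκ, ← hψρ]
    obtain ⟨r, hr⟩ := Ideal.Quotient.mk_surjective (ρb x)
    rw [← hr]
    constructor
    · intro h
      refine hmkm _ ?_
      rw [mem_maximalIdeal, mem_nonunits_iff] at h ⊢
      exact fun hu => h (hu.map ψ)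
    · intro h
      refine hR.map_mem ψ hψm ?_
      rw [mem_maximalIdeal, mem_nonunits_iff] at h ⊢
      exact fun hu => h (hu.map _)
  have hu : ∀ s : P.primeCompl, IsUnit (ρb.toRingHom s) := fun s => by
    by_contra h
    exact s.2 ((hloc _).2 ((mem_maximalIdeal _).2 h))
  let L : S →+* R ⧸ J := IsLocalization.lift (M := P.primeCompl) (g := ρb.toRingHom) hu
  have hL : IsLocalHom L := ⟨fun w hw => by
    obtain ⟨x, s, rfl⟩ := IsLocalization.exists_mk'_eq P.primeCompl w
    rw [IsLocalization.AtPrime.isUnit_mk'_iff]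
    intro hx
    have h2 : L (algebraMap _ S x) ∈ maximalIdeal (R ⧸ J) := by
      rw [IsLocalization.lift_eq]; exact (hloc x).1 hx
    rw [← IsLocalization.mk'_spec S x s, map_mul] at h2
    exact (mem_maximalIdeal _).1 h2 (hw.mul ((IsLocalization.map_units _ s).map L))⟩
  obtain ⟨g, hg, -⟩ := hH.universal (R ⧸ J) L hL
  have hgκ : ∀ x, g (κ x) = ρb x := fun x => by
    show g (algebraMap S H (algebraMap B₀ S x)) = _
    exact (RingHom.congr_fun hg _).trans (IsLocalization.lift_eq _ _)
  let gA : H →ₐ[A] R ⧸ J := { g with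
    commutes' := fun a => by
      show g (algebraMap A H a) = _
      rw [← κ.commutes, hgκ, ρb.commutes] }
  have he : gA.comp ψ = Ideal.Quotient.mkₐ A J := by
    refine (hR.hom_ext (φ := Ideal.Quotient.mkₐ A J) (fun i => hmkm _ (hR.X_mem i)) fun i => ?_).symm
    show Ideal.Quotient.mk J (X i) = g (ψ (X i))
    rw [hψ]
    have h1 : g (κ (s i : B₀)) * g (y i) = g (κ (w i)) := by rw [← map_mul, hyw]
    have hu' : IsUnit (g (κ (s i : B₀))) := by rw [hgκ]; exact hu (s i)
    apply hu'.mul_right_injective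
    show g (κ (s i : B₀)) * Ideal.Quotient.mk J (X i) = g (κ (s i : B₀)) * g (y i)
    rw [h1, hgκ, hgκ, ← hp i, ← hd i, hρb, hρb, ← map_mul, eq_comm, Ideal.Quotient.eq]
    exact Ideal.mem_sup_right (Ideal.subset_span ⟨i, rfl⟩)
  intro x hx
  rw [← Ideal.Quotient.eq_zero_iff_mem]
  have := AlgHom.congr_fun he x
  rw [AlgHom.comp_apply, show ψ x = 0 from hx, map_zero] at this
  exact this.symm

/-- A finitely generated kernel onto a flat algebra is generated by an element generating it modulo `m_A`. -/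
theorem ker_eq_span {R : Type u} [CommRing R] [IsLocalRing R] [Algebra A R] [IsLocalHom (algebraMap A R)]
    {H : Type u} [CommRing H] [Algebra A H] [Module.Flat A H] (ψ : R →ₐ[A] H) (hψ : Function.Surjective ψ)
    (hfg : (RingHom.ker ψ).FG) {F : R} (hF : F ∈ RingHom.ker ψ)
    (hmod : RingHom.ker ψ ≤ Ideal.span {F} ⊔ (maximalIdeal A).map (algebraMap A R)) :
    RingHom.ker ψ = Ideal.span {F} := by
  refine le_antisymm (Submodule.le_of_le_smul_of_le_jacobson_bot (I := (maximalIdeal A).map (algebraMap A R)) hfg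
    ((IsLocalRing.map_maximalIdeal_le _).trans (maximalIdeal_le_jacobson _)) fun z hz => ?_)
    ((Ideal.span_singleton_le_iff_mem _).2 hF)
  obtain ⟨v, hv, w, hw, rfl⟩ := Submodule.mem_sup.1 (hmod hz)
  refine Submodule.add_mem_sup hv ?_
  rw [smul_eq_mul]
  refine mem_mul_ker_of_flat ψ hψ _ ?_ hw
  have hv' : v ∈ RingHom.ker ψ := (Ideal.span_singleton_le_iff_mem _).2 hF hv
  simpa using sub_mem hz hv'

end Groth.Agent.H9Quad
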