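import Groth.Agent.H9Quad.Series
import Groth.Agent.H9Quad.Main
import Groth.Agent.H9Quad.Present

/-!
The relation of a quadratic singularity in the henselized polynomial ring: read off from a point over an
extension field.
-/

universe u

open IsLocalRing

namespace Groth.Agent.H9Quad

open H02CA.PS MvPowerSeries in
/-- Descent of a divisibility modulo a power of the maximal ideal along a field extension. -/
theorem exists_sub_mul_mem_of_field {k K : Type u} [Field k] [Field K] (ι : k →+* K) {N : ℕ}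
    (p q : MvPolynomial (Fin N) k) (w : MvPowerSeries (Fin N) K) (r : ℕ)
    (h : (MvPolynomial.map ι p : MvPowerSeries (Fin N) K) - w * (MvPolynomial.map ι q : MvPowerSeries (Fin N) K) ∈
      vars (Fin N) K ^ r) :
    ∃ s : MvPolynomial (Fin N) k, p - s * q ∈ MvPolynomial.idealOfVars (Fin N) k ^ r := by
  classical
  letI := ι.toAlgebra
  obtain ⟨π, hπ⟩ := (Algebra.linearMap k K).exists_leftInverse_of_injective (LinearMap.ker_eq_bot.2 ι.injective)
  have hπ' : ∀ x : k, π (ι x) = x := fun x => LinearMap.congr_fun hπ x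
  have hmul : ∀ (x : K) (c : k), π (x * ι c) = π x * c := fun x c => by
    rw [show x * ι c = c • x from (mul_comm _ _).trans (Algebra.smul_def c x).symm, map_smul, smul_eq_mul, mul_comm]
  let wk : MvPowerSeries (Fin N) k := fun e => π (coeff e w)
  have hwk : ∀ e, coeff e wk = π (coeff e w) := fun e => rfl
  refine ⟨truncTotal r wk, ?_⟩
  rw [MvPolynomial.mem_pow_idealOfVars_iff']
  intro d hd
  have h1 := coeff_eq_zero_of_mem_pow h hd
  rw [map_sub, sub_eq_zero, MvPolynomial.coeff_coe, MvPolynomial.coeff_map, coeff_mul] at h1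
  have h2 := congrArg π h1
  rw [hπ', map_sum] at h2
  simp only [MvPolynomial.coeff_coe, MvPolynomial.coeff_map, hmul, ← hwk] at h2
  rw [MvPolynomial.coeff_sub, sub_eq_zero, h2, MvPolynomial.coeff_mul]
  refine Finset.sum_congr rfl fun x hx => ?_
  rw [coeff_truncTotal]
  have := Finset.HasAntidiagonal.mem_antidiagonal.1 hx
  rw [← this, map_add] at hd
  omega

/-- The data read off from a geometric quadratic point: a map to a hypersurface in power series with
prescribed values on the generators, detecting the filtration. -/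
structure IsQuadPtMap {A : Type u} [CommRing A] [IsLocalRing A] {kb : Type u} [Field kb] (ι : ResidueField A →+* kb)
    {H : Type u} [CommRing H] [IsLocalRing H] [Algebra A H] {N : ℕ} (y : Fin N → H) (f : MvPowerSeries (Fin N) kb)
    (Θ : H →+* MvPowerSeries (Fin N) kb ⧸ Ideal.span {f}) : Prop where
  noLow : VanCyc.NoLowTerms f
  quad_ne : VanCyc.quadPart f ≠ 0
  map_algebraMap : ∀ a, Θ (algebraMap A H a) = Ideal.Quotient.mk _ (MvPowerSeries.C (ι (residue A a)))
  map_y : ∀ i, Θ (y i) = Ideal.Quotient.mk _ (MvPowerSeries.X i)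
  functional : ∀ (r : ℕ) (lam : H →+ ResidueField A), (∀ a x, lam (algebraMap A H a * x) = residue A a * lam x) →
    (∀ x ∈ maximalIdeal H ^ r, lam x = 0) → ∃ lamb : (MvPowerSeries (Fin N) kb ⧸ Ideal.span {f}) →+ kb,
      (∀ c t, lamb (Ideal.Quotient.mk _ (MvPowerSeries.C c) * t) = c * lamb t) ∧
      (∀ t ∈ ((H02CA.PS.vars (Fin N) kb).map (Ideal.Quotient.mk (Ideal.span {f}))) ^ r, lamb t = 0) ∧
      ∀ x, lamb (Θ x) = ι (lam x)

open H02CA.PS in
theorem exists_relation {A : Type u} [CommRing A] [HenselianLocalRing A] {kb : Type u} [Field kb]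
    {ι : ResidueField A →+* kb} {H : Type u} [CommRing H] [IsLocalRing H] [Algebra A H] {N : ℕ} {y : Fin N → H}
    {f : MvPowerSeries (Fin N) kb} {Θ : H →+* MvPowerSeries (Fin N) kb ⧸ Ideal.span {f}}
    (hΘ : IsQuadPtMap ι y f Θ)
    {R : Type u} [CommRing R] [IsLocalRing R] [Algebra A R] {X : Fin N → R} (hR : IsPolyHens A R X)
    (ψ : R →ₐ[A] H) (hψy : ∀ i, ψ (X i) = y i) (hψ : Function.Surjective ψ) :
    ∃ (a : Fin N → Fin N → A) (c : kb) (F : R), c ≠ 0 ∧
      (∀ i j, i ≤ j → ι (residue A (a i j)) = c * VanCyc.quadPart f i j) ∧ F ∈ RingHom.ker ψ ∧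
      F - VanCyc.quadEval (fun i j => algebraMap A R (a i j)) X ∈
        maximalIdeal R ^ 3 ⊔ (maximalIdeal A).map (algebraMap A R) ∧
      RingHom.ker ψ ≤ Ideal.span {F} ⊔ (maximalIdeal A).map (algebraMap A R) := by
  classical
  haveI := hR.henselian
  haveI := hR.local_hom
  let k := ResidueField A
  let S := MvPowerSeries (Fin N) kb
  let V := vars (Fin N) kb
  have hVS : maximalIdeal S = V := maximalIdeal_eq_vars
  haveI hSh : HenselianLocalRing S := by
    haveI hc : IsAdicComplete V S := inferInstanceAs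
      (IsAdicComplete (Ideal.span (Set.range (MvPowerSeries.X : Fin N → S))) S)
    haveI : HenselianRing S (maximalIdeal S) := by rw [hVS]; infer_instance
    exact H9Hens.henselianLocalRing_of_henselianRing
  letI algAS : Algebra A S := ((MvPowerSeries.C (σ := Fin N)).comp (ι.comp (residue A))).toAlgebra
  haveI : IsLocalHom (algebraMap A S) := ⟨fun a ha => by
    have h1 : IsUnit (ι (residue A a)) := by
      simpa [RingHom.algebraMap_toAlgebra, MvPowerSeries.isUnit_iff_constantCoeff] using ha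
    exact isUnit_of_map_unit (residue A) a (isUnit_of_map_unit ι _ h1)⟩
  have hXV : ∀ i, (MvPowerSeries.X i : S) ∈ maximalIdeal S := fun i => hVS.symm.le (Ideal.subset_span ⟨i, rfl⟩)
  obtain ⟨Sg, hSg, -⟩ := hR.univ S (fun i => MvPowerSeries.X i) hXV
  let mk : S →+* S ⧸ Ideal.span {f} := Ideal.Quotient.mk _
  have hfV : f ∈ V ^ 2 := mem_pow_of_coeff fun d hd => by
    rcases degree_lt_two hd with rfl | ⟨l, rfl⟩
    · rw [MvPowerSeries.coeff_zero_eq_constantCoeff_apply, hΘ.noLow.1]
    · exact hΘ.noLow.2 l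
  have hfle : Ideal.span {f} ≤ maximalIdeal S :=
    hVS ▸ (Ideal.span_singleton_le_iff_mem _).2 (Ideal.pow_le_self two_ne_zero hfV)
  haveI : Nontrivial (S ⧸ Ideal.span {f}) := by
    rw [Ideal.Quotient.nontrivial_iff]
    exact (hfle.trans_lt (maximalIdeal.isMaximal S).ne_top.lt_top).ne
  haveI : IsLocalRing (S ⧸ Ideal.span {f}) := IsLocalRing.of_surjective' _ Ideal.Quotient.mk_surjective
  haveI : HenselianLocalRing (S ⧸ Ideal.span {f}) := H9Hens.henselianLocalRing_quotient _
  have hmT : maximalIdeal (S ⧸ Ideal.span {f}) = V.map mk := by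
    rw [← hVS, IsLocalRing.map_maximalIdeal_of_surjective mk Ideal.Quotient.mk_surjective]
  haveI : IsLocalHom (algebraMap A (S ⧸ Ideal.span {f})) := ((local_hom_TFAE _).out 0 2).mpr
    (Ideal.map_le_iff_le_comap.2 fun a ha => by
      rw [Ideal.mem_comap, hmT, ← Ideal.Quotient.mk_algebraMap, ← hVS]
      exact Ideal.mem_map_of_mem _ (map_nonunit _ _ ha))
  let ΘA : H →ₐ[A] S ⧸ Ideal.span {f} := { Θ with commutes' := fun a => hΘ.map_algebraMap a }
  have hcomm : ΘA.comp ψ = (Ideal.Quotient.mkₐ A (Ideal.span {f})).comp Sg := (hR.hom_ext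
    (φ := (Ideal.Quotient.mkₐ A (Ideal.span {f})).comp Sg)
    (fun i => by
      rw [AlgHom.comp_apply, hSg, hmT]
      exact Ideal.mem_map_of_mem mk (Ideal.subset_span ⟨i, rfl⟩))
    fun i => by
      rw [AlgHom.comp_apply, AlgHom.comp_apply, hSg, hψy]
      exact (hΘ.map_y i).symm).symm
  have hSgm : ∀ z ∈ maximalIdeal R, Sg z ∈ V := fun z hz =>
    hVS.le (hR.map_mem Sg (fun i => (hSg i).symm ▸ hXV i) hz)
  have hSgI : ∀ z ∈ (maximalIdeal A).map (algebraMap A R), Sg z = 0 := fun z hz => by
    have : (maximalIdeal A).map (algebraMap A R) ≤ RingHom.ker Sg := Ideal.map_le_iff_le_comap.2 fun a ha => by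
      rw [Ideal.mem_comap, RingHom.mem_ker, AlgHom.commutes]
      show MvPowerSeries.C (ι (residue A a)) = 0
      rw [(residue_eq_zero_iff a).2 ha, map_zero, map_zero]
    exact this hz
  have hSg3 : ∀ r, ∀ z ∈ maximalIdeal R ^ r ⊔ (maximalIdeal A).map (algebraMap A R), Sg z ∈ V ^ r := fun r z hz => by
    obtain ⟨u, hu, v, hv, rfl⟩ := Submodule.mem_sup.1 hz
    rw [map_add, hSgI v hv, add_zero]
    have h1 : (maximalIdeal R).map Sg ≤ V := Ideal.map_le_iff_le_comap.2 hSgm
    have := Ideal.mem_map_of_mem Sg hu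
    rw [Ideal.map_pow] at this
    exact Ideal.pow_right_mono h1 r this
  -- the quadratic relation over the residue field
  let Pr := {p : Fin N × Fin N // p.1 ≤ p.2}
  let M3 : Ideal H := (maximalIdeal A).map (algebraMap A H) ⊔ maximalIdeal H ^ 3
  letI : Algebra k (H ⧸ M3) := (Ideal.Quotient.lift (maximalIdeal A) ((Ideal.Quotient.mk M3).comp (algebraMap A H))
    fun a ha => Ideal.Quotient.eq_zero_iff_mem.2 (Ideal.mem_sup_left (Ideal.mem_map_of_mem _ ha))).toAlgebra
  have hsmul : ∀ (a : A) (x : H), Ideal.Quotient.mk M3 (algebraMap A H a * x) = residue A a • Ideal.Quotient.mk M3 x :=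
    fun a x => by rw [Algebra.smul_def, map_mul]; rfl
  let Φ : (Pr → k) →ₗ[k] H ⧸ M3 := Fintype.linearCombination k fun p => Ideal.Quotient.mk M3 (y p.1.1 * y p.1.2)
  have hker : ¬ Function.Injective Φ := by
    intro hinj
    obtain ⟨Γ, hΓ⟩ := Φ.exists_leftInverse_of_injective (LinearMap.ker_eq_bot.2 hinj)
    refine hΘ.quad_ne ?_
    have hzero : ∀ p : Pr, VanCyc.quadPart f p.1.1 p.1.2 = 0 := fun p => by
      let lam : H →+ k := AddMonoidHom.mk' (fun x => Γ (Ideal.Quotient.mk M3 x) p) fun x x' => by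
        rw [map_add, map_add]; rfl
      obtain ⟨lamb, hl1, hl2, hl3⟩ := hΘ.functional 3 lam
        (fun a x => by show Γ _ p = _ * Γ _ p; rw [hsmul, map_smul]; rfl)
        (fun x hx => by
          show Γ (Ideal.Quotient.mk M3 x) p = 0
          rw [Ideal.Quotient.eq_zero_iff_mem.2 (Ideal.mem_sup_right hx), map_zero]; rfl)
      have hyy : ∀ q : Pr, lamb (mk (MvPowerSeries.X q.1.1 * MvPowerSeries.X q.1.2)) = if q = p then 1 else 0 := fun q => by
        rw [map_mul, ← hΘ.map_y, ← hΘ.map_y, ← map_mul, hl3]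
        show ι (Γ (Ideal.Quotient.mk M3 (y q.1.1 * y q.1.2)) p) = _
        have h1 : Φ (Pi.single q 1) = Ideal.Quotient.mk M3 (y q.1.1 * y q.1.2) := by
          simp [Φ, Fintype.linearCombination_apply_single]
        have h2 : Γ (Φ (Pi.single q 1)) = Pi.single q 1 := LinearMap.congr_fun hΓ _
        rw [← h1, h2, Pi.single_apply]
        rcases eq_or_ne q p with rfl | hqp
        · simp
        · simp [hqp, hqp.symm]
      have h0 : mk (VanCyc.quadPoly (VanCyc.quadPart f) : S) ∈ (V.map mk) ^ 3 := by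
        rw [← Ideal.map_pow]
        have e : mk (VanCyc.quadPoly (VanCyc.quadPart f) : S) = -mk (f - (VanCyc.quadPoly (VanCyc.quadPart f) : S)) := by
          rw [map_sub, Ideal.Quotient.eq_zero_iff_mem.2 (Ideal.mem_span_singleton_self f), zero_sub, neg_neg]
        rw [e]
        exact neg_mem (Ideal.mem_map_of_mem _ (sub_quadPoly_mem hΘ.noLow))
      have h3 := hl2 _ h0
      have e : mk (VanCyc.quadPoly (VanCyc.quadPart f) : S) = ∑ i, ∑ j, if i ≤ j then
          mk (MvPowerSeries.C (VanCyc.quadPart f i j)) * mk (MvPowerSeries.X i * MvPowerSeries.X j) else 0 := by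
        simp only [VanCyc.quadPoly, ← MvPolynomial.coeToMvPowerSeries.ringHom_apply, map_sum]
        refine Finset.sum_congr rfl fun i _ => Finset.sum_congr rfl fun j _ => ?_
        split_ifs <;> simp [mul_assoc]
      rw [e] at h3
      simp only [map_sum, apply_ite lamb, map_zero] at h3
      rw [← h3, Finset.sum_eq_single p.1.1, Finset.sum_eq_single p.1.2, if_pos p.2]
      · have := hyy p
        rw [if_pos rfl] at this
        rw [hl1, this, mul_one]
      · intro j _ hj
        split_ifs with h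
        · have hne : (⟨(p.1.1, j), h⟩ : Pr) ≠ p := fun e => hj (congrArg (fun t : Pr => t.1.2) e)
          have := hyy ⟨(p.1.1, j), h⟩
          rw [if_neg hne] at this
          rw [hl1, this, mul_zero]
        · rfl
      · simp
      · intro i _ hi
        refine Finset.sum_eq_zero fun j _ => ?_
        split_ifs with h
        · have hne : (⟨(i, j), h⟩ : Pr) ≠ p := fun e => hi (congrArg (fun t : Pr => t.1.1) e)
          have := hyy ⟨(i, j), h⟩
          rw [if_neg hne] at this
          rw [hl1, this, mul_zero]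
        · rfl
      · simp
    ext i j
    rcases le_or_gt i j with h | h
    · exact hzero ⟨(i, j), h⟩
    · simp [VanCyc.quadPart, h.ne', h.not_gt]
  rw [← LinearMap.ker_eq_bot, Submodule.eq_bot_iff] at hker
  push Not at hker
  obtain ⟨v, hv, hv0⟩ := hker
  choose lift hlift using residue_surjective (R := A)
  let a : Fin N → Fin N → A := fun i j => if h : i ≤ j then lift (v ⟨(i, j), h⟩) else 0
  have hay : VanCyc.quadEval (fun i j => algebraMap A H (a i j)) y ∈ M3 := by
    rw [← Ideal.Quotient.eq_zero_iff_mem]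
    rw [LinearMap.mem_ker, Fintype.linearCombination_apply] at hv
    refine Eq.trans ?_ hv
    simp only [VanCyc.quadEval, map_sum]
    rw [← Fintype.sum_prod_type' (f := fun i j =>
      Ideal.Quotient.mk M3 (if i ≤ j then algebraMap A H (a i j) * y i * y j else 0))]
    simp only [apply_ite (Ideal.Quotient.mk M3), map_zero]
    rw [← Finset.sum_filter]
    refine (Finset.sum_subtype (p := fun x : Fin N × Fin N => x.1 ≤ x.2) (F := (inferInstance : Fintype Pr)) _ (by simp) _).trans ?_
    refine Finset.sum_congr rfl fun q _ => ?_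
    rw [mul_assoc, hsmul]
    simp only [a, dif_pos q.2, hlift]
  have hmH : maximalIdeal H ≤ (maximalIdeal R).map ψ := fun x hx => by
    obtain ⟨z, rfl⟩ := hψ x
    refine Ideal.mem_map_of_mem _ ?_
    rw [mem_maximalIdeal, mem_nonunits_iff] at hx ⊢
    exact fun hu => hx (hu.map ψ)
  obtain ⟨W, hW, hWeq⟩ : ∃ W ∈ maximalIdeal R ^ 3 ⊔ (maximalIdeal A).map (algebraMap A R),
      ψ W = VanCyc.quadEval (fun i j => algebraMap A H (a i j)) y := by
    refine (Ideal.mem_map_iff_of_surjective ψ hψ).1 ?_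
    have e : ((maximalIdeal A).map (algebraMap A R)).map ψ = (maximalIdeal A).map (algebraMap A H) := by
      rw [← Ideal.map_coe ψ, Ideal.map_map, AlgHom.comp_algebraMap]
    rw [Ideal.map_sup, Ideal.map_pow, e, sup_comm]
    exact sup_le_sup le_rfl (Ideal.pow_right_mono hmH 3) hay
  let F := VanCyc.quadEval (fun i j => algebraMap A R (a i j)) X - W
  have hFker : F ∈ RingHom.ker ψ := by
    rw [RingHom.mem_ker, map_sub, hWeq, sub_eq_zero]
    show ψ.toRingHom _ = _
    rw [map_quadEval]
    simp [hψy]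
  have hSgF : ∀ z ∈ RingHom.ker ψ, ∃ w, w * f = Sg z := fun z hz => by
    refine Ideal.mem_span_singleton'.1 ?_
    rw [← Ideal.Quotient.eq_zero_iff_mem]
    refine (AlgHom.congr_fun hcomm z).symm.trans ?_
    rw [AlgHom.comp_apply, show ψ z = 0 from hz, map_zero]
  obtain ⟨u, hu⟩ := hSgF F hFker
  have hquad : ∀ i j, i ≤ j → ι (residue A (a i j)) = MvPowerSeries.constantCoeff u * VanCyc.quadPart f i j := by
    intro i j hij
    have h1 : Sg (VanCyc.quadEval (fun i j => algebraMap A R (a i j)) X) =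
        (VanCyc.quadPoly (fun i j => ι (residue A (a i j))) : S) := by
      show Sg.toRingHom _ = _
      rw [map_quadEval]
      simp only [VanCyc.quadEval, VanCyc.quadPoly, AlgHom.toRingHom_eq_coe, RingHom.coe_coe, AlgHom.commutes, hSg]
      rw [← MvPolynomial.coeToMvPowerSeries.ringHom_apply, map_sum]
      refine Finset.sum_congr rfl fun i _ => ?_
      rw [map_sum]
      refine Finset.sum_congr rfl fun j _ => ?_
      split_ifs <;> simp [RingHom.algebraMap_toAlgebra]
    have h2 : u * f - MvPowerSeries.C (MvPowerSeries.constantCoeff u) * f ∈ V ^ 3 := by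
      rw [← sub_mul, pow_succ']
      exact Ideal.mul_mem_mul (mem_vars_iff.2 (by simp)) hfV
    have h3 : (VanCyc.quadPoly (fun i j => ι (residue A (a i j))) : S) -
        MvPowerSeries.C (MvPowerSeries.constantCoeff u) * f ∈ V ^ 3 := by
      rw [← h1]
      have e : Sg (VanCyc.quadEval (fun i j => algebraMap A R (a i j)) X) = u * f + Sg W := by
        rw [hu, map_sub, sub_add_cancel]
      rw [e, add_sub_right_comm]
      exact add_mem h2 (hSg3 3 W hW)
    have h4 := coeff_eq_zero_of_mem_pow h3 (d := Finsupp.single i 1 + Finsupp.single j 1) (by simp)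
    rw [map_sub, sub_eq_zero, MvPolynomial.coeff_coe, coeff_quadPoly _ _ _ hij, MvPowerSeries.coeff_C_mul,
      ← quadPart_apply f hij] at h4
    exact h4
  have hu0 : MvPowerSeries.constantCoeff u ≠ 0 := by
    intro h0
    apply hv0
    funext q
    have := hquad _ _ q.2
    rw [h0, zero_mul, ← map_zero ι] at this
    have h' := ι.injective this
    simpa [a, dif_pos q.2, hlift] using h'
  have huu : IsUnit u := MvPowerSeries.isUnit_iff_constantCoeff.2 (isUnit_iff_ne_zero.2 hu0)
  refine ⟨a, MvPowerSeries.constantCoeff u, F, hu0, hquad, hFker, ?_, ?_⟩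
  · show VanCyc.quadEval (fun i j => algebraMap A R (a i j)) X - W - _ ∈ _
    rw [sub_sub_cancel_left]
    exact neg_mem hW
  intro z hz
  obtain ⟨w, hw⟩ := hSgF z hz
  obtain ⟨ui, hui⟩ := huu.exists_left_inv
  have hzF : Sg z = (w * ui) * Sg F := by
    rw [← hw, ← hu]; linear_combination -(w * f) * hui
  let I := (maximalIdeal A).map (algebraMap A R)
  haveI := hR.isNoetherianRing_fibre
  have hIle : I ≤ maximalIdeal R := (sup_le_iff.1 hR.maximal_eq.symm.le).1
  haveI : Nontrivial (R ⧸ I) := by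
    rw [Ideal.Quotient.nontrivial_iff]
    exact (hIle.trans_lt (maximalIdeal.isMaximal R).ne_top.lt_top).ne
  haveI : IsLocalRing (R ⧸ I) := IsLocalRing.of_surjective' _ Ideal.Quotient.mk_surjective
  letI : Algebra k (R ⧸ I) := (Ideal.Quotient.lift (maximalIdeal A) ((Ideal.Quotient.mk I).comp (algebraMap A R))
    fun b hb => Ideal.Quotient.eq_zero_iff_mem.2 (Ideal.mem_map_of_mem _ hb)).toAlgebra
  let Xb : Fin N → R ⧸ I := fun i => Ideal.Quotient.mk I (X i)
  have hmb : maximalIdeal (R ⧸ I) = (maximalIdeal R).map (Ideal.Quotient.mk I) :=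
    (IsLocalRing.map_maximalIdeal_of_surjective (Ideal.Quotient.mk I) Ideal.Quotient.mk_surjective).symm
  have hspan : maximalIdeal (R ⧸ I) = Ideal.span (Set.range Xb) := by
    rw [hmb, hR.maximal_eq, Ideal.map_sup, Ideal.map_quotient_self, bot_sup_eq, Ideal.map_span, ← Set.range_comp]
    rfl
  have hresb : Function.Surjective ((residue (R ⧸ I)).comp (algebraMap k (R ⧸ I))) := fun q => by
    obtain ⟨q, rfl⟩ := residue_surjective q
    obtain ⟨q, rfl⟩ := Ideal.Quotient.mk_surjective q
    obtain ⟨b, hb⟩ := hR.res_surj (residue R q)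
    refine ⟨residue A b, ?_⟩
    refine Ideal.Quotient.eq.2 ?_
    show Ideal.Quotient.mk I (algebraMap A R b) - Ideal.Quotient.mk I q ∈ maximalIdeal (R ⧸ I)
    rw [← map_sub, hmb]
    exact Ideal.mem_map_of_mem _ (Ideal.Quotient.eq.1 hb)
  have hSgp : ∀ (p : MvPolynomial (Fin N) k) (q : R), Ideal.Quotient.mk I q = MvPolynomial.aeval Xb p →
      Sg q = (MvPolynomial.map ι p : S) := by
    intro p q hpq
    let Sb : R ⧸ I →+* S := Ideal.Quotient.lift I Sg.toRingHom hSgI
    have h1 : Sg q = Sb (Ideal.Quotient.mk I q) := rfl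
    rw [h1, hpq]
    have h2 : Sb.comp (MvPolynomial.aeval Xb).toRingHom =
        (MvPolynomial.coeToMvPowerSeries.ringHom (σ := Fin N) (R := kb)).comp (MvPolynomial.map ι) :=
      MvPolynomial.ringHom_ext (fun c => by
        obtain ⟨b, rfl⟩ := residue_surjective c
        simp only [RingHom.comp_apply, AlgHom.toRingHom_eq_coe, RingHom.coe_coe, MvPolynomial.aeval_C,
          MvPolynomial.map_C, MvPolynomial.coeToMvPowerSeries.ringHom_apply, MvPolynomial.coe_C]
        show Sg (algebraMap A R b) = _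
        rw [AlgHom.commutes]; rfl) fun i => by
        simp only [RingHom.comp_apply, AlgHom.toRingHom_eq_coe, RingHom.coe_coe, MvPolynomial.aeval_X,
          MvPolynomial.map_X, MvPolynomial.coeToMvPowerSeries.ringHom_apply, MvPolynomial.coe_X]
        exact hSg i
    exact RingHom.congr_fun h2 p
  suffices hr : ∀ r, Ideal.Quotient.mk I z ∈ Ideal.span {Ideal.Quotient.mk I F} ⊔ maximalIdeal (R ⧸ I) ^ r by
    let K := Ideal.span {Ideal.Quotient.mk I F}
    have hK : Ideal.Quotient.mk I z ∈ K := by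
      by_cases hKtop : K = ⊤
      · rw [hKtop]; exact Submodule.mem_top
      haveI : Nontrivial ((R ⧸ I) ⧸ K) := Ideal.Quotient.nontrivial_iff.2 hKtop
      haveI : IsLocalRing ((R ⧸ I) ⧸ K) := IsLocalRing.of_surjective' _ Ideal.Quotient.mk_surjective
      rw [← Ideal.Quotient.eq_zero_iff_mem]
      have hall : Ideal.Quotient.mk K (Ideal.Quotient.mk I z) ∈ ⨅ r, maximalIdeal ((R ⧸ I) ⧸ K) ^ r := by
        refine (Submodule.mem_iInf _).2 fun r => ?_
        rw [← IsLocalRing.map_maximalIdeal_of_surjective (Ideal.Quotient.mk K) Ideal.Quotient.mk_surjective,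
          ← Ideal.map_pow]
        have := Ideal.mem_map_of_mem (Ideal.Quotient.mk K) (hr r)
        rwa [Ideal.map_sup, Ideal.map_quotient_self, bot_sup_eq] at this
      rw [Ideal.iInf_pow_eq_bot_of_isLocalRing _ (maximalIdeal.isMaximal _).ne_top] at hall
      simpa using hall
    have h1 : z ∈ (K : Ideal (R ⧸ I)).comap (Ideal.Quotient.mk I) := hK
    rw [show K = (Ideal.span {F}).map (Ideal.Quotient.mk I) by rw [Ideal.map_span, Set.image_singleton],
      Ideal.comap_map_of_surjective _ Ideal.Quotient.mk_surjective, ← RingHom.ker_eq_comap_bot, Ideal.mk_ker] at h1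
    exact h1
  intro r
  obtain ⟨p, hp⟩ := exists_aeval_sub_mem_pow hresb Xb hspan r (Ideal.Quotient.mk I z)
  obtain ⟨q, hq⟩ := exists_aeval_sub_mem_pow hresb Xb hspan r (Ideal.Quotient.mk I F)
  have happ : ∀ (t : R) (p : MvPolynomial (Fin N) k),
      Ideal.Quotient.mk I t - MvPolynomial.aeval Xb p ∈ maximalIdeal (R ⧸ I) ^ r →
      Sg t - (MvPolynomial.map ι p : S) ∈ V ^ r := fun t p ht => by
    obtain ⟨t', ht'⟩ := Ideal.Quotient.mk_surjective (MvPolynomial.aeval Xb p)
    rw [← hSgp p t' ht', ← map_sub]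
    refine hSg3 r _ ?_
    rw [← ht', ← map_sub, hmb, ← Ideal.map_pow, ← Ideal.mem_comap,
      Ideal.comap_map_of_surjective _ Ideal.Quotient.mk_surjective, ← RingHom.ker_eq_comap_bot, Ideal.mk_ker] at ht
    exact ht
  obtain ⟨s, hs⟩ := exists_sub_mul_mem_of_field ι p q (w * ui) r (by
    have h1 := happ z p hp
    have h2 := Ideal.mul_mem_left _ (w * ui) (happ F q hq)
    have e : (MvPolynomial.map ι p : S) - w * ui * (MvPolynomial.map ι q : S) =
        w * ui * (Sg F - (MvPolynomial.map ι q : S)) - (Sg z - (MvPolynomial.map ι p : S)) := by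
      rw [hzF]; ring
    rw [e]
    exact sub_mem h2 h1)
  have hs' : MvPolynomial.aeval Xb (p - s * q) ∈ maximalIdeal (R ⧸ I) ^ r := by
    have hle : (MvPolynomial.idealOfVars (Fin N) k).map (MvPolynomial.aeval (R := k) Xb) ≤ maximalIdeal (R ⧸ I) := by
      rw [Ideal.map_span, Ideal.span_le]
      rintro _ ⟨_, ⟨i, rfl⟩, rfl⟩
      rw [SetLike.mem_coe, MvPolynomial.aeval_X, hspan]
      exact Ideal.subset_span ⟨i, rfl⟩
    have := Ideal.mem_map_of_mem (MvPolynomial.aeval (R := k) Xb) hs
    rw [Ideal.map_pow] at this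
    exact Ideal.pow_right_mono hle r this
  rw [map_sub, map_mul] at hs'
  have key : Ideal.Quotient.mk I z = MvPolynomial.aeval Xb s * Ideal.Quotient.mk I F +
      ((Ideal.Quotient.mk I z - MvPolynomial.aeval Xb p) + (MvPolynomial.aeval Xb p -
        MvPolynomial.aeval Xb s * MvPolynomial.aeval Xb q) -
        MvPolynomial.aeval Xb s * (Ideal.Quotient.mk I F - MvPolynomial.aeval Xb q)) := by ring
  rw [key]
  exact Submodule.add_mem_sup (Ideal.mul_mem_left _ _ (Ideal.mem_span_singleton_self _))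
    (sub_mem (add_mem hp hs') (Ideal.mul_mem_left _ _ hq))

end Groth.Agent.H9Quad
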