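import Mathlib
import Groth.Prelude.Def_Hensel
import Groth.Agent.H9Hens.TensorHensFinite
import Groth.Agent.H8Props.HensEFT.Stage
import Groth.Agent.S0506
import Groth.Agent.S0507
import Groth.Agent.S0509

/-!
A henselian algebra mapping onto a system of parameters of the henselization of an algebra
essentially of finite type makes it a finite module, with explicit generators.
-/

universe u

open IsLocalRing

namespace Groth.Agent.H9Quad

theorem exists_combination_of_parameters {A : Type u} [CommRing A] {H : Type u} [CommRing H] [IsLocalRing H]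
    [Algebra A H] (hH : H8Props.HensEFT.IsHensEFT A H) {N : ℕ} (y : Fin N → H) (hy : ∀ i, y i ∈ maximalIdeal H)
    {ι : Type} [Fintype ι] (es : ι → H)
    (hspan : ∀ w : H, ∃ a : ι → A, w - ∑ s, algebraMap A H (a s) * es s ∈
      ((maximalIdeal H).comap (algebraMap A H)).map (algebraMap A H) ⊔ Ideal.span (Set.range y))
    {C : Type u} [CommRing C] [HenselianLocalRing C] [Algebra A C] (ψ : C →ₐ[A] H) [IsLocalHom ψ.toRingHom]
    (c : Fin N → C) (hc : ∀ i, ψ (c i) = y i) (w : H) : ∃ b : ι → C, w = ∑ s, ψ (b s) * es s := by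
  classical
  obtain ⟨E, _, _, hEft, e, _, _, _, _, hEH, hz⟩ :=
    H8Props.HensEFT.exists_stage hH (Finset.univ.image y ∪ Finset.univ.image es)
  choose z hz' using fun i => hz (y i) (Finset.mem_union_left _ (Finset.mem_image_of_mem _ (Finset.mem_univ i)))
  choose ez hez using fun s => hz (es s) (Finset.mem_union_right _ (Finset.mem_image_of_mem _ (Finset.mem_univ s)))
  letI : HenselianLocalRing H := hEH.henselian
  letI algEH : Algebra E H := ((algebraMap (Localization.AtPrime e) H).comp (algebraMap E _)).toAlgebra
  haveI : IsScalarTower E (Localization.AtPrime e) H := IsScalarTower.of_algebraMap_eq fun _ => rfl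
  haveI : IsScalarTower A E H := IsScalarTower.of_algebraMap_eq fun a => by
    rw [IsScalarTower.algebraMap_apply A (Localization.AtPrime e) H, IsScalarTower.algebraMap_apply A E (Localization.AtPrime e)]
    rfl
  let R := MvPolynomial (Fin N) A
  let φE : R →ₐ[A] E := MvPolynomial.aeval z
  letI : Algebra R E := φE.toRingHom.toAlgebra
  haveI : IsScalarTower A R E := IsScalarTower.of_algebraMap_eq fun a => (φE.commutes a).symm
  haveI : Algebra.FiniteType R E := Algebra.FiniteType.of_restrictScalars_finiteType A R E
  let p : Ideal R := e.comap (algebraMap R E)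
  haveI : e.LiesOver p := ⟨rfl⟩
  let Ee := Localization.AtPrime e
  letI algRH : Algebra R H := ((algebraMap E H).comp (algebraMap R E)).toAlgebra
  haveI : IsScalarTower R E H := IsScalarTower.of_algebraMap_eq fun _ => rfl
  haveI : IsScalarTower R Ee H := IsScalarTower.of_algebraMap_eq fun r => by
    rw [IsScalarTower.algebraMap_apply R E Ee, ← IsScalarTower.algebraMap_apply E Ee H]
    rfl
  haveI : IsScalarTower A R H := IsScalarTower.of_algebraMap_eq fun a => by
    rw [IsScalarTower.algebraMap_apply A E H, IsScalarTower.algebraMap_apply A R E]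
    rfl
  have hX : ∀ i, algebraMap R H (MvPolynomial.X i) = y i := fun i => by
    show algebraMap E H (φE (MvPolynomial.X i)) = y i
    rw [MvPolynomial.aeval_X]
    exact hz' i
  have hes : ∀ s, algebraMap Ee H (algebraMap E Ee (ez s)) = es s := hez
  have hpm : ∀ r : R, r ∈ p ↔ algebraMap R H r ∈ maximalIdeal H := fun r => by
    show algebraMap R E r ∈ e ↔ algebraMap E H (algebraMap R E r) ∈ maximalIdeal H
    rw [IsScalarTower.algebraMap_apply E Ee H, mem_maximalIdeal, map_mem_nonunits_iff (algebraMap Ee H),
      ← mem_maximalIdeal, IsLocalization.AtPrime.to_map_mem_maximal_iff Ee e]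
  haveI := S0509.result Ee H
  have hJ : ((maximalIdeal H).comap (algebraMap A H)).map (algebraMap A H) ⊔ Ideal.span (Set.range y) ≤
      p.map (algebraMap R H) := by
    refine sup_le (Ideal.map_le_iff_le_comap.2 fun a ha => ?_) (Ideal.span_le.2 ?_)
    · rw [Ideal.mem_comap, IsScalarTower.algebraMap_apply A R H]
      refine Ideal.mem_map_of_mem _ ((hpm _).2 ?_)
      rwa [← IsScalarTower.algebraMap_apply]
    · rintro _ ⟨i, rfl⟩
      rw [← hX i]
      exact Ideal.mem_map_of_mem _ ((hpm _).2 (by rw [hX]; exact hy i))
  haveI : Algebra.WeaklyQuasiFiniteAt R e := by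
    rw [Algebra.weaklyQuasiFiniteAt_iff]
    haveI : Module.Finite R (Ee ⧸ (e.under R).map (algebraMap R Ee)) := by
      refine Module.Finite.of_surjective (Fintype.linearCombination R
        fun s => (Ideal.Quotient.mk ((e.under R).map (algebraMap R Ee)) (algebraMap E Ee (ez s)))) fun q => ?_
      obtain ⟨v, rfl⟩ := Ideal.Quotient.mk_surjective q
      obtain ⟨a, ha⟩ := hspan (algebraMap Ee H v)
      refine ⟨fun s => algebraMap A R (a s), ?_⟩
      have e1 : v - ∑ s, algebraMap R Ee (algebraMap A R (a s)) * algebraMap E Ee (ez s) ∈ p.map (algebraMap R Ee) := by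
        rw [← Ideal.comap_map_eq_self_of_faithfullyFlat (B := H) (p.map (algebraMap R Ee)), Ideal.mem_comap,
          Ideal.map_map, ← IsScalarTower.algebraMap_eq, map_sub, map_sum]
        simp only [map_mul, ← IsScalarTower.algebraMap_apply R Ee H, ← IsScalarTower.algebraMap_apply A R H, hes]
        exact hJ ha
      rw [← neg_sub, neg_mem_iff, ← Ideal.Quotient.eq, map_sum] at e1
      rw [Fintype.linearCombination_apply, ← e1]
      refine Finset.sum_congr rfl fun s _ => ?_
      rw [map_mul]
      exact Algebra.smul_def (R := R) (A := Ee ⧸ p.map (algebraMap R Ee)) (algebraMap A R (a s)) _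
    infer_instance
  haveI := Algebra.QuasiFiniteAt.of_weaklyQuasiFiniteAt (R := R) e
  obtain ⟨Rh, _, _, _, _, hRh⟩ := S0506.result (Localization.AtPrime p)
  haveI := hRh.henselian
  let f : Localization.AtPrime p →+* H := IsLocalization.lift (M := p.primeCompl) (g := algebraMap R H) fun s => by
    by_contra h
    exact s.2 ((hpm _).2 ((mem_maximalIdeal _).2 h))
  have hfl : IsLocalHom f := ⟨fun x hx => by
    obtain ⟨a, s, rfl⟩ := IsLocalization.exists_mk'_eq p.primeCompl x
    rw [IsLocalization.AtPrime.isUnit_mk'_iff]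
    intro ha
    have h2 : f (algebraMap R _ a) ∈ maximalIdeal H := by
      rw [IsLocalization.lift_eq]; exact (hpm a).1 ha
    rw [← IsLocalization.mk'_spec (Localization.AtPrime p) a s, map_mul] at h2
    exact (mem_maximalIdeal _).1 h2 (hx.mul ((IsLocalization.map_units _ s).map f))⟩
  obtain ⟨g, hg, hguniq⟩ := hRh.universal H f hfl
  letI algRhH : Algebra Rh H := g.toAlgebra
  letI : Algebra R Rh := ((algebraMap (Localization.AtPrime p) Rh).comp (algebraMap R _)).toAlgebra
  haveI : IsScalarTower R (Localization.AtPrime p) Rh := IsScalarTower.of_algebraMap_eq fun _ => rfl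
  haveI : IsScalarTower R Rh H := IsScalarTower.of_algebraMap_eq fun r => by
    show algebraMap R H r = g (algebraMap (Localization.AtPrime p) Rh (algebraMap R _ r))
    rw [← RingHom.comp_apply g, hg, IsLocalization.lift_eq]
  haveI hfin : Module.Finite Rh H := H9Hens.finite_henselization (R := R) (S := E) (p := p) (q := e)
  have hm : p.map (algebraMap R H) ≤ (maximalIdeal Rh).map (algebraMap Rh H) := by
    refine Ideal.map_le_iff_le_comap.2 fun r hr => ?_
    rw [Ideal.mem_comap, IsScalarTower.algebraMap_apply R Rh H, IsScalarTower.algebraMap_apply R (Localization.AtPrime p) Rh]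
    refine Ideal.mem_map_of_mem _ (map_nonunit _ _ ?_)
    rwa [IsLocalization.AtPrime.to_map_mem_maximal_iff _ p]
  have htop : LinearMap.range (Fintype.linearCombination Rh es) = ⊤ := by
    refine top_le_iff.1 (Submodule.le_of_le_smul_of_le_jacobson_bot (I := maximalIdeal Rh) Module.Finite.fg_top
      (maximalIdeal_le_jacobson _) fun v _ => ?_)
    obtain ⟨a, ha⟩ := hspan v
    rw [Submodule.mem_sup]
    refine ⟨∑ s, algebraMap A H (a s) * es s, ⟨fun s => algebraMap R Rh (algebraMap A R (a s)), ?_⟩,
      v - ∑ s, algebraMap A H (a s) * es s, ?_, by ring⟩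
    · rw [Fintype.linearCombination_apply]
      refine Finset.sum_congr rfl fun s _ => ?_
      rw [Algebra.smul_def, ← IsScalarTower.algebraMap_apply R Rh H, ← IsScalarTower.algebraMap_apply A R H]
    · rw [Ideal.smul_top_eq_map, Submodule.restrictScalars_mem]
      exact hm (hJ ha)
  obtain ⟨b, hb⟩ := (htop ▸ Submodule.mem_top : w ∈ LinearMap.range (Fintype.linearCombination Rh es))
  -- `g` factors through `ψ`
  let fC : Localization.AtPrime p →+* C := IsLocalization.lift (M := p.primeCompl)
    (g := (MvPolynomial.aeval c).toRingHom) fun s => by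
    have : ψ.toRingHom ((MvPolynomial.aeval c) (s : R)) = algebraMap R H (s : R) := by
      have h2 : ψ.comp (MvPolynomial.aeval c) = IsScalarTower.toAlgHom A R H :=
        MvPolynomial.algHom_ext fun i => by
          rw [AlgHom.comp_apply, MvPolynomial.aeval_X, hc, IsScalarTower.toAlgHom_apply, hX]
      exact AlgHom.congr_fun h2 _
    refine isUnit_of_map_unit ψ.toRingHom _ ?_
    show IsUnit (ψ.toRingHom ((MvPolynomial.aeval c) (s : R)))
    rw [this]
    by_contra h
    exact s.2 ((hpm _).2 ((mem_maximalIdeal _).2 h))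
  have hψf : ψ.toRingHom.comp fC = f := IsLocalization.ringHom_ext p.primeCompl <| by
    ext r
    · simp [fC, f, IsScalarTower.algebraMap_apply A R H]
      rw [MvPolynomial.aeval_C, ← MvPolynomial.algebraMap_eq]
      exact (ψ.commutes r).trans (IsScalarTower.algebraMap_apply A R H r)
    · simp [fC, f]
      rw [MvPolynomial.aeval_X, hc, hX]
  have hfCl : IsLocalHom fC := by
    refine ⟨fun x hx => ?_⟩
    refine hfl.map_nonunit x ?_
    rw [← hψf]
    exact hx.map ψ.toRingHom
  obtain ⟨gC, hgC, -⟩ := hRh.universal C fC hfCl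
  have hgg : ψ.toRingHom.comp gC = g := hguniq _ (by
    show (ψ.toRingHom.comp gC).comp _ = f
    rw [RingHom.comp_assoc, hgC, hψf])
  refine ⟨fun s => gC (b s), ?_⟩
  rw [← hb, Fintype.linearCombination_apply]
  refine Finset.sum_congr rfl fun s _ => ?_
  rw [Algebra.smul_def]
  congr 1
  exact (RingHom.congr_fun hgg (b s)).symm

end Groth.Agent.H9Quad
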