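import Groth.Agent.H9Quad.Series
import Groth.Agent.H9Quad.Main

/-!
Geometric quadratic points: the completion of a base change at a maximal ideal as a hypersurface in
power series; rationality of non-degenerate critical points.
-/

universe u

open IsLocalRing TensorProduct

namespace Groth.Agent.H9Quad

theorem exists_mul_sub_one_mem {P : Type u} [CommRing P] (M : Ideal P) [M.IsMaximal] {s : P} (hs : s ∉ M) (r : ℕ) :
    ∃ v, v * s - 1 ∈ M ^ r := by
  have h : IsUnit (Ideal.Quotient.mk (M ^ r) s) := by
    rcases Nat.eq_zero_or_pos r with rfl | hr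
    · rw [pow_zero, Ideal.one_eq_top]
      haveI : Subsingleton (P ⧸ (⊤ : Ideal P)) := Ideal.Quotient.subsingleton_iff.2 rfl
      exact isUnit_of_subsingleton _
    · by_contra h
      obtain ⟨K, hK, hsK⟩ := exists_max_ideal_of_mem_nonunits h
      have hM : M ≤ K.comap (Ideal.Quotient.mk (M ^ r)) := fun x hx => by
        refine hK.isPrime.mem_of_pow_mem r ?_
        rw [← map_pow, Ideal.Quotient.eq_zero_iff_mem.2 (Ideal.pow_mem_pow hx r)]
        exact zero_mem _
      haveI := Ideal.comap_isMaximal_of_surjective (Ideal.Quotient.mk (M ^ r)) Ideal.Quotient.mk_surjective (K := K)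
      have := (‹M.IsMaximal›.eq_of_le this.ne_top hM)
      exact hs (this ▸ hsK)
  obtain ⟨v, hv⟩ := h.exists_left_inv
  obtain ⟨v, rfl⟩ := Ideal.Quotient.mk_surjective v
  exact ⟨v, by rw [← Ideal.Quotient.eq, map_mul, map_one, hv]⟩

/-- The map of a noetherian algebra to the completion at a maximal ideal. -/
theorem exists_theta_at {k P T : Type u} [CommRing k] [CommRing P] [IsNoetherianRing P] [Algebra k P]
    (M : Ideal P) [M.IsMaximal] [CommRing T] [IsLocalRing T] [Algebra k T]
    (e : AdicCompletion (maximalIdeal (Localization.AtPrime M)) (Localization.AtPrime M) ≃ₐ[k] T) :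
    ∃ θ : P →ₐ[k] T, (∀ r, (maximalIdeal T ^ r).comap θ = M ^ r) ∧ ∀ r (t : T), ∃ z, θ z - t ∈ maximalIdeal T ^ r := by
  haveI : IsNoetherianRing (Localization.AtPrime M) := IsLocalization.isNoetherianRing M.primeCompl _ inferInstance
  obtain ⟨θ, -, hcomap, hsurj⟩ := exists_theta e
  refine ⟨θ.comp (IsScalarTower.toAlgHom k P (Localization.AtPrime M)), fun r => ?_, fun r t => ?_⟩
  · ext z
    rw [Ideal.mem_comap, AlgHom.comp_apply, ← Ideal.mem_comap, hcomap, ← Localization.AtPrime.map_eq_maximalIdeal,
      ← Ideal.map_pow]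
    refine ⟨fun h => ?_, fun h => Ideal.mem_map_of_mem _ h⟩
    obtain ⟨⟨⟨w, hw⟩, s⟩, hws⟩ := (IsLocalization.mem_map_algebraMap_iff M.primeCompl _).1 h
    simp only [IsScalarTower.coe_toAlgHom', ← map_mul] at hws
    obtain ⟨c, hc⟩ := (IsLocalization.eq_iff_exists M.primeCompl (Localization.AtPrime M)).1 hws
    have hcs : (c : P) * s ∉ M := fun h' =>
      (Ideal.IsPrime.mem_or_mem inferInstance h').elim c.2 s.2
    obtain ⟨v, hv⟩ := exists_mul_sub_one_mem M hcs r
    have e1 : z = v * ((c : P) * w) - (v * ((c : P) * s) - 1) * z := by linear_combination (-v) * hc.symm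
    rw [e1]
    exact sub_mem (Ideal.mul_mem_left _ _ (Ideal.mul_mem_left _ _ hw)) (Ideal.mul_mem_right _ _ hv)
  · obtain ⟨o, ho⟩ := hsurj r t
    obtain ⟨w, s, rfl⟩ := IsLocalization.exists_mk'_eq M.primeCompl o
    obtain ⟨v, hv⟩ := exists_mul_sub_one_mem M s.2 r
    refine ⟨w * v, ?_⟩
    rw [AlgHom.comp_apply]
    have e1 : θ (IsScalarTower.toAlgHom k P (Localization.AtPrime M) (w * v)) - t =
        θ (IsLocalization.mk' _ w s) * θ (algebraMap P _ (v * s - 1)) + (θ (IsLocalization.mk' _ w s) - t) := by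
      rw [← add_sub_assoc, sub_left_inj, map_sub, map_one, map_sub, map_one, mul_sub, mul_one, sub_add_cancel,
        ← map_mul, IsScalarTower.coe_toAlgHom', map_mul, map_mul, ← IsLocalization.mk'_spec (Localization.AtPrime M) w s]
      simp only [map_mul]
      ring
    rw [e1]
    refine add_mem (Ideal.mul_mem_left _ _ ?_) ho
    rw [← Ideal.mem_comap, hcomap, ← Localization.AtPrime.map_eq_maximalIdeal, ← Ideal.map_pow]
    exact Ideal.mem_map_of_mem _ hv

open H02CA.PS in
theorem maximalIdeal_quot_eq {K : Type u} [Field K] {N : ℕ} {f : MvPowerSeries (Fin N) K} (hf : f ∈ vars (Fin N) K)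
    [IsLocalRing (MvPowerSeries (Fin N) K ⧸ Ideal.span {f})] :
    maximalIdeal (MvPowerSeries (Fin N) K ⧸ Ideal.span {f}) = (vars (Fin N) K).map (Ideal.Quotient.mk _) := by
  rw [← maximalIdeal_eq_vars, IsLocalRing.map_maximalIdeal_of_surjective _ Ideal.Quotient.mk_surjective]

/-- The first order jet along a vector. -/
noncomputable def jet {K : Type u} [Field K] {N : ℕ} (w : Fin N → K) :
    MvPowerSeries (Fin N) K →ₐ[K] DualNumber K := by
  refine AlgHom.ofLinearMap
    { toFun := fun F => TrivSqZeroExt.inl (MvPowerSeries.constantCoeff F) +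
        TrivSqZeroExt.inr (∑ i, w i * MvPowerSeries.coeff (Finsupp.single i 1) F)
      map_add' := fun F G => ?_
      map_smul' := fun c F => ?_ } ?_ ?_
  · ext <;> simp [mul_add, Finset.sum_add_distrib]
  · ext <;> simp [Finset.mul_sum, mul_left_comm]
  · ext <;> simp [MvPowerSeries.coeff_one, Finsupp.single_eq_zero]
  · intro F G
    have key : ∀ j, MvPowerSeries.coeff (Finsupp.single j 1) (F * G) =
        MvPowerSeries.constantCoeff F * MvPowerSeries.coeff (Finsupp.single j 1) G +
          MvPowerSeries.coeff (Finsupp.single j 1) F * MvPowerSeries.constantCoeff G := by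
      intro j
      have h := H02CA.PS.coeff_single_mul F (G - MvPowerSeries.C (MvPowerSeries.constantCoeff G)) (by simp) j
      rw [mul_sub, map_sub, map_sub, mul_comm F (MvPowerSeries.C _), MvPowerSeries.coeff_C_mul,
        MvPowerSeries.coeff_C, if_neg (by simp), sub_zero] at h
      linear_combination h
    ext
    · simp
    · simp [key, mul_add, Finset.sum_add_distrib, Finset.mul_sum, Finset.sum_mul, mul_assoc, mul_left_comm, mul_comm]
      abel

theorem jet_fst {K : Type u} [Field K] {N : ℕ} (w : Fin N → K) (F : MvPowerSeries (Fin N) K) :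
    (jet w F).fst = MvPowerSeries.constantCoeff F := by
  simp [jet]

theorem jet_snd {K : Type u} [Field K] {N : ℕ} (w : Fin N → K) (F : MvPowerSeries (Fin N) K) :
    (jet w F).snd = ∑ i, w i * MvPowerSeries.coeff (Finsupp.single i 1) F := by
  simp [jet]

open H02CA.PS in
theorem jet_eq_zero_of_mem {K : Type u} [Field K] {N : ℕ} (w : Fin N → K) {F : MvPowerSeries (Fin N) K}
    (hF : F ∈ vars (Fin N) K ^ 2) : jet w F = 0 := by
  ext
  · rw [jet_fst, ← MvPowerSeries.coeff_zero_eq_constantCoeff_apply, coeff_eq_zero_of_mem_pow hF (by simp)]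
    simp
  · rw [jet_snd]
    refine Finset.sum_eq_zero fun i _ => ?_
    rw [coeff_eq_zero_of_mem_pow hF (by simp), mul_zero]

open H02CA.PS in
/-- At a non-degenerate critical point no tangent vector is annihilated by the maximal ideal below. -/
theorem jet_injective_of_nondeg {k kb : Type u} [Field k] [Field kb] [Algebra k kb] [Algebra.IsAlgebraic k kb]
    {O : Type u} [CommRing O] [IsLocalRing O] [Algebra k O] (M : Ideal (kb ⊗[k] O)) [M.IsMaximal] {N : ℕ}
    {f : MvPowerSeries (Fin N) kb} (hf : VanCyc.NoLowTerms f) (hfq : VanCyc.QuadNondeg (VanCyc.quadPart f))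
    [IsLocalRing (MvPowerSeries (Fin N) kb ⧸ Ideal.span {f})]
    (θ : kb ⊗[k] O →ₐ[kb] MvPowerSeries (Fin N) kb ⧸ Ideal.span {f})
    (hcomap : ∀ r, (maximalIdeal (MvPowerSeries (Fin N) kb ⧸ Ideal.span {f}) ^ r).comap θ = M ^ r)
    (hsurj : ∀ r t, ∃ z, θ z - t ∈ maximalIdeal (MvPowerSeries (Fin N) kb ⧸ Ideal.span {f}) ^ r)
    (w : Fin N → kb) (hw : ∀ x ∈ maximalIdeal O, ∀ F, Ideal.Quotient.mk _ F = θ (1 ⊗ₜ x) → jet w F = 0) :
    w = 0 := by
  classical
  let mk := Ideal.Quotient.mk (Ideal.span {f})
  have hf2 : f ∈ vars (Fin N) kb ^ 2 := mem_pow_of_coeff fun d hd => by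
    rcases degree_lt_two hd with rfl | ⟨l, rfl⟩
    · rw [MvPowerSeries.coeff_zero_eq_constantCoeff_apply, hf.1]
    · exact hf.2 l
  have hmT := maximalIdeal_quot_eq (Ideal.pow_le_self two_ne_zero hf2)
  have hjf : ∀ (w' : Fin N → kb) (F : MvPowerSeries (Fin N) kb), F ∈ Ideal.span {f} → jet w' F = 0 := fun w' F hF => by
    obtain ⟨u, rfl⟩ := Ideal.mem_span_singleton'.1 hF
    rw [map_mul, jet_eq_zero_of_mem w' hf2, mul_zero]
  let J : (Fin N → kb) → (MvPowerSeries (Fin N) kb ⧸ Ideal.span {f}) →ₐ[kb] DualNumber kb := fun w' =>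
    Ideal.Quotient.liftₐ _ (jet w') (hjf w')
  let ι : O →ₐ[k] DualNumber kb := ((J w).comp θ).restrictScalars k |>.comp Algebra.TensorProduct.includeRight
  have hι : ∀ x ∈ maximalIdeal O, ι x = 0 := fun x hx => by
    obtain ⟨F, hF⟩ := Ideal.Quotient.mk_surjective (θ (1 ⊗ₜ x))
    show J w (θ (1 ⊗ₜ x)) = 0
    rw [← hF]
    exact hw x hx F hF
  let K := ResidueField O
  let ιK : K →ₐ[k] DualNumber kb := Ideal.Quotient.liftₐ (maximalIdeal O) ι hι
  let U := K ⊗[O] Ω[O⁄k]
  let b := Module.Basis.ofVectorSpace K U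
  let δ : (Module.Basis.ofVectorSpaceIndex K U) → O → K := fun l x => b.repr (1 ⊗ₜ KaehlerDifferential.D k O x) l
  have hres : ∀ (x : O) (u : U), x • u = residue O x • u := fun x u => by
    rw [← IsLocalRing.ResidueField.algebraMap_eq, algebraMap_smul]
  have hδmul : ∀ l x y, δ l (x * y) = residue O x * δ l y + residue O y * δ l x := fun l x y => by
    simp only [δ, Derivation.leibniz, tmul_add, tmul_smul, hres, map_add, map_smul, Finsupp.add_apply,
      Finsupp.smul_apply, smul_eq_mul]
  have hδk : ∀ l c, δ l (algebraMap k O c) = 0 := fun l c => by simp [δ]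
  have hδadd : ∀ l x y, δ l (x + y) = δ l x + δ l y := fun l x y => by simp [δ, tmul_add]
  have hιK : ∀ x, ιK (residue O x) = ι x := fun x => rfl
  let Φ0 : Module.Basis.ofVectorSpaceIndex K U → (O →ₐ[k] TrivSqZeroExt (DualNumber kb) (DualNumber kb)) := fun l =>
    { toFun := fun x => TrivSqZeroExt.inl (ι x) + TrivSqZeroExt.inr (ιK (δ l x))
      map_one' := by
        have : δ l 1 = 0 := by simp [δ]
        ext : 1 <;> simp [this]
      map_mul' := fun x y => by
        ext : 1
        · simp
        · simp [hδmul, map_add, map_mul, hιK, mul_comm, add_comm]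
      map_zero' := by
        have : δ l 0 = 0 := by simp [δ]
        ext : 1 <;> simp [this]
      map_add' := fun x y => by ext : 1 <;> simp [hδadd]
      commutes' := fun c => by
        ext : 1
        · simp [TrivSqZeroExt.algebraMap_eq_inl']
        · simp [hδk, TrivSqZeroExt.algebraMap_eq_inl'] }
  let Φ := fun l => Algebra.TensorProduct.lift (Algebra.ofId kb (TrivSqZeroExt (DualNumber kb) (DualNumber kb)))
    (Φ0 l) fun x y => Algebra.commutes x _
  have hΦfst : ∀ l z, (Φ l z).fst = J w (θ z) := fun l z => by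
    induction z using TensorProduct.induction_on with
    | zero => simp
    | tmul c x =>
      have e : θ (c ⊗ₜ x) = algebraMap kb _ c * θ (1 ⊗ₜ x) := by
        rw [← θ.commutes, ← map_mul]; simp [Algebra.TensorProduct.algebraMap_apply]
      rw [e, map_mul, AlgHom.commutes]
      simp [Φ, Φ0, ι, TrivSqZeroExt.algebraMap_eq_inl']
    | add z z' h h' => simp [h, h']
  have hJfst : ∀ z ∈ M, ((J w) (θ z)).fst = 0 := fun z hz => by
    rw [← pow_one M, ← hcomap, Ideal.mem_comap, pow_one, hmT] at hz
    obtain ⟨F, hF, hFz⟩ := (Ideal.mem_map_iff_of_surjective _ Ideal.Quotient.mk_surjective).1 hz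
    rw [← hFz]
    show (jet w F).fst = 0
    rw [jet_fst, mem_vars_iff.1 hF]
  have hΦ3 : ∀ l, ∀ z ∈ M ^ 3, Φ l z = 0 := by
    intro l z hz
    rw [pow_succ] at hz
    induction hz using Submodule.mul_induction_on' with
    | mem_mul_mem p hp q hq =>
      rw [pow_two] at hp
      induction hp using Submodule.mul_induction_on' with
      | mem_mul_mem p₁ hp₁ p₂ hp₂ =>
        have h1 := hJfst p₁ hp₁; have h2 := hJfst p₂ hp₂; have h3 := hJfst q hq
        rw [← hΦfst l] at h1 h2 h3
        rw [map_mul, map_mul]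
        ext <;> simp [h1, h2, h3]
      | add p₁ _ p₂ _ h₁ h₂ => rw [add_mul, map_add, h₁, h₂, add_zero]
    | add p _ q _ hp hq => rw [map_add, hp, hq, add_zero]
  choose Z hZ using fun i => hsurj 3 (mk (MvPowerSeries.X i))
  have hθq : θ (VanCyc.quadEval (fun i j => algebraMap kb (kb ⊗[k] O) (VanCyc.quadPart f i j)) Z) ∈
      maximalIdeal (MvPowerSeries (Fin N) kb ⧸ Ideal.span {f}) ^ 3 := by
    show θ.toRingHom _ ∈ _
    rw [map_quadEval]
    simp only [AlgHom.toRingHom_eq_coe, RingHom.coe_coe, AlgHom.commutes]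
    have hX : ∀ i, mk (MvPowerSeries.X i) ∈ maximalIdeal (MvPowerSeries (Fin N) kb ⧸ Ideal.span {f}) := fun i =>
      hmT.symm.le (Ideal.mem_map_of_mem _ (Ideal.subset_span ⟨i, rfl⟩))
    have hZm : ∀ i, θ (Z i) ∈ maximalIdeal (MvPowerSeries (Fin N) kb ⧸ Ideal.span {f}) := fun i => by
      simpa only [sub_add_cancel] using add_mem (Ideal.pow_le_self (by norm_num) (hZ i)) (hX i)
    have h1 := quadEval_sub_mem _ (fun i j => algebraMap kb (MvPowerSeries (Fin N) kb ⧸ Ideal.span {f})
      (VanCyc.quadPart f i j)) hZm hX (fun i => Ideal.pow_le_pow_right (by norm_num) (hZ i))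
    have h2 : VanCyc.quadEval (fun i j => algebraMap kb (MvPowerSeries (Fin N) kb ⧸ Ideal.span {f})
        (VanCyc.quadPart f i j)) (fun i => mk (MvPowerSeries.X i)) ∈
        maximalIdeal (MvPowerSeries (Fin N) kb ⧸ Ideal.span {f}) ^ 3 := by
      rw [← aeval_quadPoly, hmT, ← Ideal.map_pow]
      have : MvPolynomial.aeval (fun i => mk (MvPowerSeries.X i)) = (Ideal.Quotient.mkₐ kb (Ideal.span {f})).comp
          (MvPolynomial.coeToMvPowerSeries.algHom kb) := MvPolynomial.algHom_ext fun i => by simp [mk]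
      rw [this]
      have e : mk (VanCyc.quadPoly (VanCyc.quadPart f) : MvPowerSeries (Fin N) kb) =
          -mk (f - (VanCyc.quadPoly (VanCyc.quadPart f) : MvPowerSeries (Fin N) kb)) := by
        rw [map_sub, Ideal.Quotient.eq_zero_iff_mem.2 (Ideal.mem_span_singleton_self f), zero_sub, neg_neg]
      simp only [AlgHom.comp_apply, Ideal.Quotient.mkₐ_eq_mk, MvPolynomial.coeToMvPowerSeries.algHom_apply]
      simp only [Algebra.algebraMap_self, MvPowerSeries.map_id, RingHom.id_apply]
      show mk _ ∈ _
      rw [e]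
      exact neg_mem (Ideal.mem_map_of_mem _ (sub_quadPoly_mem hf))
    simpa using add_mem h1 h2
  let P := VanCyc.polarMatrix (VanCyc.quadPart f)
  let v : Fin N → kb := P.mulVec w
  have hjX : ∀ i, J w (θ (Z i)) = TrivSqZeroExt.inr (w i) := fun i => by
    have h := hZ i
    rw [hmT, ← Ideal.map_pow] at h
    obtain ⟨F, hF, hFz⟩ := (Ideal.mem_map_iff_of_surjective _ Ideal.Quotient.mk_surjective).1 h
    have hz : θ (Z i) = mk (F + MvPowerSeries.X i) := by
      rw [map_add]; show _ = Ideal.Quotient.mk _ F + _; rw [hFz, sub_add_cancel]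
    rw [hz]
    show jet w (F + MvPowerSeries.X i) = _
    rw [map_add, jet_eq_zero_of_mem w (Ideal.pow_le_pow_right (by norm_num) hF), zero_add]
    ext
    · simp [jet_fst]
    · rw [jet_snd]
      simp [MvPowerSeries.coeff_index_single_X]
  let D0 : Module.Basis.ofVectorSpaceIndex K U → kb ⊗[k] O → kb := fun l z => (Φ l z).snd.fst
  have hv : ∀ l, ∑ i, v i * D0 l (Z i) = 0 := by
    intro l
    have h := hΦ3 l _ ((hcomap 3).le (Ideal.mem_comap.2 hθq))
    simp only [VanCyc.quadEval, map_sum, apply_ite (Φ l), map_mul, map_zero, AlgHom.commutes] at h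
    have h2 := congrArg (fun t => t.snd.snd) h
    have hf0 : ∀ i, (Φ l (Z i)).fst = TrivSqZeroExt.inr (w i) := fun i => by rw [hΦfst, hjX]
    simp only [TrivSqZeroExt.snd_sum, apply_ite TrivSqZeroExt.snd, TrivSqZeroExt.snd_zero,
      TrivSqZeroExt.snd_mul, TrivSqZeroExt.fst_mul, TrivSqZeroExt.algebraMap_eq_inl', TrivSqZeroExt.fst_inl,
      TrivSqZeroExt.snd_inl, hf0, smul_zero, MulOpposite.smul_eq_mul_unop, MulOpposite.unop_op, zero_mul,
      add_zero, smul_eq_mul, TrivSqZeroExt.snd_add, TrivSqZeroExt.fst_inr, TrivSqZeroExt.snd_inr, mul_zero, zero_add]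
      at h2
    rw [← h2]
    simp only [v, P, polarMatrix_eq, Matrix.add_mulVec, Pi.add_apply, Matrix.mulVec, dotProduct, Matrix.transpose_apply,
      upper, Matrix.of_apply, add_mul, Finset.sum_add_distrib, Finset.sum_mul]
    rw [Finset.sum_comm (f := fun i j => (if j ≤ i then VanCyc.quadPart f j i else 0) * w j * D0 l (Z i)),
      ← Finset.sum_add_distrib]
    refine Finset.sum_congr rfl fun i _ => ?_
    rw [← Finset.sum_add_distrib]
    refine Finset.sum_congr rfl fun j _ => ?_
    split_ifs
    · simp [D0]; ring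
    · simp
  -- every linear coefficient factors through the differentials
  let dlin : Fin N → kb ⊗[k] O → kb := fun j z => (J (Pi.single j 1) (θ z)).snd
  have hdlin : ∀ (j : Fin N) z, (∀ l, D0 l z = 0) → dlin j z = 0 := by
    intro j
    let dj : O → kb := fun x => dlin j (1 ⊗ₜ x)
    let ρ : O →ₐ[k] kb := ((TrivSqZeroExt.fstHom kb kb kb).restrictScalars k).comp ι
    letI : Algebra O kb := ρ.toRingHom.toAlgebra
    letI : Algebra K kb := (((TrivSqZeroExt.fstHom kb kb kb).restrictScalars k).comp ιK).toRingHom.toAlgebra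
    haveI : IsScalarTower O K kb := IsScalarTower.of_algebraMap_eq fun _ => rfl
    haveI : IsScalarTower k O kb := IsScalarTower.of_algebraMap_eq fun c => (ρ.commutes c).symm
    have hρ : ∀ x, ρ x = (J (Pi.single j 1) (θ (1 ⊗ₜ x))).fst := fun x => by
      obtain ⟨F, hF⟩ := Ideal.Quotient.mk_surjective (θ (1 ⊗ₜ x))
      show ((J w) (θ (1 ⊗ₜ x))).fst = _
      rw [← hF]
      show (jet w F).fst = (jet (Pi.single j 1) F).fst
      rw [jet_fst, jet_fst]
    let der : Derivation k O kb := Derivation.mk'
      ({ toFun := dj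
         map_add' := fun x y => by simp [dj, dlin, tmul_add]
         map_smul' := fun c x => by
           simp only [dj, dlin, RingHom.id_apply, tmul_smul]
           rw [← algebraMap_smul kb c, map_smul, map_smul]
           simp [Algebra.smul_def, TrivSqZeroExt.algebraMap_eq_inl'] } : O →ₗ[k] kb) fun x y => by
        show dj (x * y) = ρ x * dj y + ρ y * dj x
        have : (1 : kb) ⊗ₜ[k] (x * y) = (1 ⊗ₜ x) * (1 ⊗ₜ y) := by simp
        simp only [dj, dlin, this, map_mul, DualNumber.snd_mul, hρ]
        ring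
    let et : U →ₗ[K] kb := LinearMap.liftBaseChange K der.liftKaehlerDifferential
    let e : Module.Basis.ofVectorSpaceIndex K U → kb := fun l => et (b l)
    let D0L : O →ₗ[k] (Module.Basis.ofVectorSpaceIndex K U →₀ kb) :=
      { toFun := fun x => (b.repr (1 ⊗ₜ KaehlerDifferential.D k O x)).mapRange (algebraMap K kb) (map_zero _)
        map_add' := fun x y => by ext l; simp [tmul_add]
        map_smul' := fun c x => by
          ext l
          simp only [Derivation.map_smul, RingHom.id_apply, Finsupp.mapRange_apply, Finsupp.smul_apply]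
          rw [← algebraMap_smul O c (KaehlerDifferential.D k O x), tmul_smul, hres, map_smul, Finsupp.smul_apply,
            smul_eq_mul, map_mul, Algebra.smul_def]
          congr 1
          exact ρ.commutes c }
    have hD0L : ∀ z l, LinearMap.liftBaseChange kb D0L z l = D0 l z := fun z l => by
      induction z using TensorProduct.induction_on with
      | zero => simp [D0]
      | tmul c x =>
        simp [D0, D0L, Φ, Φ0, δ, TrivSqZeroExt.algebraMap_eq_inl', RingHom.algebraMap_toAlgebra]
      | add z z' h h' => simp only [D0] at h h' ⊢; simp [h, h']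
    have hd : ∀ z, dlin j z = Finsupp.linearCombination kb e (LinearMap.liftBaseChange kb D0L z) := fun z => by
      induction z using TensorProduct.induction_on with
      | zero => simp [dlin]
      | tmul c x =>
        rw [LinearMap.liftBaseChange_tmul, map_smul, smul_eq_mul]
        have e1 : dlin j (c ⊗ₜ x) = c * dj x := by
          have : c ⊗ₜ[k] x = c • ((1 : kb) ⊗ₜ[k] x) := by simp [smul_tmul']
          simp only [dlin, dj]
          rw [this, map_smul, map_smul]
          simp
        rw [e1]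
        congr 1
        have h1 : et (1 ⊗ₜ KaehlerDifferential.D k O x) = dj x := by
          show LinearMap.liftBaseChange K der.liftKaehlerDifferential _ = _
          rw [LinearMap.liftBaseChange_tmul, one_smul]
          exact der.liftKaehlerDifferential_comp_D x
        rw [← h1]
        conv_lhs => rw [← b.linearCombination_repr (1 ⊗ₜ KaehlerDifferential.D k O x)]
        rw [Finsupp.apply_linearCombination, Finsupp.linearCombination_apply, Finsupp.linearCombination_apply]
        show _ = Finsupp.sum (Finsupp.mapRange (algebraMap K kb) (map_zero _) _) _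
        rw [Finsupp.sum_mapRange_index (fun a => by simp)]
        refine Finsupp.sum_congr fun l _ => ?_
        rw [Algebra.smul_def, smul_eq_mul]
        rfl
      | add z z' h h' =>
        simp only [dlin] at h h' ⊢
        simp [h, h']
    intro z hz
    rw [hd, show LinearMap.liftBaseChange kb D0L z = 0 from Finsupp.ext fun l => by rw [hD0L, hz]; rfl, map_zero]
  have hv0 : v = 0 := by
    funext j
    have hz : ∀ l, D0 l (∑ i, v i • Z i) = 0 := fun l => by
      rw [← hv l]
      simp only [D0, map_sum, map_smul, TrivSqZeroExt.snd_sum, TrivSqZeroExt.snd_smul, TrivSqZeroExt.fst_sum,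
        TrivSqZeroExt.fst_smul, smul_eq_mul]
    have h := hdlin j _ hz
    simp only [dlin, map_sum, map_smul, TrivSqZeroExt.snd_sum, TrivSqZeroExt.snd_smul] at h
    have hJX : ∀ i, (J (Pi.single j 1) (θ (Z i))).snd = if i = j then 1 else 0 := fun i => by
      have h' := hZ i
      rw [hmT, ← Ideal.map_pow] at h'
      obtain ⟨F, hF, hFz⟩ := (Ideal.mem_map_iff_of_surjective _ Ideal.Quotient.mk_surjective).1 h'
      have hz : θ (Z i) = mk (F + MvPowerSeries.X i) := by
        rw [map_add]; show _ = Ideal.Quotient.mk _ F + _; rw [hFz, sub_add_cancel]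
      rw [hz]
      show (jet (Pi.single j 1) (F + MvPowerSeries.X i)).snd = _
      rw [map_add, jet_eq_zero_of_mem _ (Ideal.pow_le_pow_right (by norm_num) hF), zero_add, jet_snd]
      simp [MvPowerSeries.coeff_index_single_X, Pi.single_apply, eq_comm]
    simpa [hJX] using h
  have := congrArg P⁻¹.mulVec hv0
  rwa [Matrix.mulVec_mulVec, Matrix.nonsing_inv_mul _ hfq, Matrix.one_mulVec, Matrix.mulVec_zero] at this

end Groth.Agent.H9Quad
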