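import Groth.Agent.H9Quad.Geometric

/-!
Rationality of non-degenerate quadratic points and coordinates adapted to the base field.
-/

universe u

open IsLocalRing TensorProduct Matrix

namespace Groth.Agent.H9Quad

variable {k kb : Type u} [Field k] [Field kb] [Algebra k kb] {O : Type u} [CommRing O] [IsLocalRing O]
  [Algebra k O]

/-- The ideal of the base change generated by the maximal ideal. -/
noncomputable abbrev baseIdeal (k kb O : Type u) [Field k] [Field kb] [Algebra k kb] [CommRing O] [IsLocalRing O]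
    [Algebra k O] : Ideal (kb ⊗[k] O) :=
  (maximalIdeal O).map (Algebra.TensorProduct.includeRight : O →ₐ[k] kb ⊗[k] O)

theorem comap_includeRight_eq [Algebra.IsAlgebraic k kb] (M : Ideal (kb ⊗[k] O)) [M.IsMaximal] :
    M.comap (Algebra.TensorProduct.includeRight : O →ₐ[k] kb ⊗[k] O) = maximalIdeal O := by
  let e := Algebra.TensorProduct.comm k O kb
  haveI : (M.comap e.toRingEquiv.toRingHom).IsMaximal :=
    Ideal.comap_isMaximal_of_surjective _ e.surjective
  have := Ideal.isMaximal_comap_of_isIntegral_of_isMaximal (R := O) (M.comap e.toRingEquiv.toRingHom)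
  rw [← eq_maximalIdeal this, Ideal.comap_comap]
  rfl

theorem baseIdeal_le [Algebra.IsAlgebraic k kb] (M : Ideal (kb ⊗[k] O)) [M.IsMaximal] : baseIdeal k kb O ≤ M :=
  Ideal.map_le_iff_le_comap.2 (comap_includeRight_eq M).ge

/-- Extension of a functional killing a power of the maximal ideal kills that power of the base ideal. -/
theorem liftBaseChange_eq_zero (lam : O →ₗ[k] kb) (r : ℕ) (hlam : ∀ x ∈ maximalIdeal O ^ r, lam x = 0)
    {z : kb ⊗[k] O} (hz : z ∈ baseIdeal k kb O ^ r) : LinearMap.liftBaseChange kb lam z = 0 := by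
  rw [baseIdeal, ← Ideal.map_pow] at hz
  induction hz using Submodule.span_induction with
  | mem y hy =>
    obtain ⟨x, hx, rfl⟩ := hy
    simp [hlam x hx]
  | zero => simp
  | add y y' _ _ h h' => rw [map_add, h, h', add_zero]
  | smul a y hy _ =>
    induction a using TensorProduct.induction_on with
    | zero => simp
    | tmul c o =>
      clear * - hy hlam
      induction hy using Submodule.span_induction generalizing c o with
      | mem y hy =>
        obtain ⟨x, hx, rfl⟩ := hy
        simp [hlam _ (Ideal.mul_mem_left _ o hx)]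
      | zero => simp
      | add y y' _ _ h h' => rw [smul_add, map_add, h, h', add_zero]
      | smul b y hy h =>
        induction b using TensorProduct.induction_on with
        | zero => simp
        | tmul c' o' =>
          rw [← smul_assoc, smul_eq_mul (c ⊗ₜ[k] o), Algebra.TensorProduct.tmul_mul_tmul]
          exact h _ _
        | add b b' hb hb' => rw [add_smul, smul_add, map_add, hb, hb', add_zero]
    | add a a' ha ha' => rw [add_smul, map_add, ha, ha', add_zero]

section lin

variable {N : ℕ}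

open H02CA.PS

/-- The linear coefficients of a power series. -/
noncomputable def lin (F : MvPowerSeries (Fin N) kb) : Fin N → kb :=
  fun i => MvPowerSeries.coeff (Finsupp.single i 1) F

theorem lin_add (F G : MvPowerSeries (Fin N) kb) : lin (F + G) = lin F + lin G := by ext i; simp [lin]

theorem lin_mul (F G : MvPowerSeries (Fin N) kb) (hG : MvPowerSeries.constantCoeff G = 0) :
    lin (F * G) = MvPowerSeries.constantCoeff F • lin G := by
  ext i; simp [lin, coeff_single_mul F G hG i]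

theorem mem_sq_of_lin {F : MvPowerSeries (Fin N) kb} (h0 : MvPowerSeries.constantCoeff F = 0) (h1 : lin F = 0) :
    F ∈ vars (Fin N) kb ^ 2 := mem_pow_of_coeff fun d hd => by
  rcases degree_lt_two hd with rfl | ⟨l, rfl⟩
  · rw [MvPowerSeries.coeff_zero_eq_constantCoeff_apply, h0]
  · exact congrFun h1 l

theorem lin_eq_zero_of_mem {F : MvPowerSeries (Fin N) kb} (h : F ∈ vars (Fin N) kb ^ 2) : lin F = 0 :=
  funext fun i => coeff_eq_zero_of_mem_pow h (by simp)

theorem mem_sq_of_noLow {f : MvPowerSeries (Fin N) kb} (hf : VanCyc.NoLowTerms f) : f ∈ vars (Fin N) kb ^ 2 :=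
  mem_sq_of_lin hf.1 (funext hf.2)

variable {f : MvPowerSeries (Fin N) kb}


/-- Coordinates of an element of `kb ⊗ m` through the linear terms. -/
theorem exists_lin_of_mem_span [IsLocalRing (MvPowerSeries (Fin N) kb ⧸ Ideal.span {f})] (hf : VanCyc.NoLowTerms f) (θ : kb ⊗[k] O →ₐ[kb] (MvPowerSeries (Fin N) kb ⧸ Ideal.span {f}))
    (hle : ∀ x ∈ maximalIdeal O, θ (1 ⊗ₜ x) ∈ maximalIdeal (MvPowerSeries (Fin N) kb ⧸ Ideal.span {f})) {z : kb ⊗[k] O} (hz : z ∈ baseIdeal k kb O) :
    ∃ F, Ideal.Quotient.mk (Ideal.span {f}) F = θ z ∧ MvPowerSeries.constantCoeff F = 0 ∧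
      lin F ∈ Submodule.span kb {c | ∃ x ∈ maximalIdeal O, ∃ G, Ideal.Quotient.mk (Ideal.span {f}) G = θ (1 ⊗ₜ x) ∧
        MvPowerSeries.constantCoeff G = 0 ∧ lin G = c} := by
  induction hz using Submodule.span_induction with
  | mem y hy =>
    obtain ⟨x, hx, rfl⟩ := hy
    have h := hle x hx
    rw [maximalIdeal_quot_eq (Ideal.pow_le_self two_ne_zero (mem_sq_of_noLow hf))] at h
    obtain ⟨G, hG, hGx⟩ := (Ideal.mem_map_iff_of_surjective _ Ideal.Quotient.mk_surjective).1 h
    exact ⟨G, hGx, mem_vars_iff.1 hG, Submodule.subset_span ⟨x, hx, G, hGx, mem_vars_iff.1 hG, rfl⟩⟩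
  | zero => exact ⟨0, by simp, by simp, by rw [show lin (0 : MvPowerSeries (Fin N) kb) = 0 from funext fun _ => by simp [lin]]; exact zero_mem _⟩
  | add y y' _ _ h h' =>
    obtain ⟨F, h1, h2, h3⟩ := h
    obtain ⟨F', h1', h2', h3'⟩ := h'
    exact ⟨F + F', by rw [map_add, map_add, h1, h1'], by rw [map_add, h2, h2', add_zero],
      by rw [lin_add]; exact add_mem h3 h3'⟩
  | smul a y _ h =>
    obtain ⟨F, h1, h2, h3⟩ := h
    obtain ⟨A, hA⟩ := Ideal.Quotient.mk_surjective (θ a)
    exact ⟨A * F, by rw [smul_eq_mul, map_mul, map_mul, hA, h1], by rw [map_mul, h2, mul_zero],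
      by rw [lin_mul _ _ h2]; exact Submodule.smul_mem _ _ h3⟩

/-- A non-degenerate quadratic point with purely inseparable residue field is rational. -/
theorem residue_trivial_of_nondeg [Algebra.IsAlgebraic k kb] [IsNoetherianRing (kb ⊗[k] O)]
    (hpi : ∀ y : O, ∃ (e : ℕ) (c : k), y ^ ringExpChar k ^ e - algebraMap k O c ∈ maximalIdeal O)
    (M : Ideal (kb ⊗[k] O)) [M.IsMaximal] (hf : VanCyc.NoLowTerms f) (hfq : VanCyc.QuadNondeg (VanCyc.quadPart f))
    (e : AdicCompletion (maximalIdeal (Localization.AtPrime M)) (Localization.AtPrime M) ≃ₐ[kb] (MvPowerSeries (Fin N) kb ⧸ Ideal.span {f})) (y : O) :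
    ∃ c : k, y - algebraMap k O c ∈ maximalIdeal O := by
  classical
  haveI : IsNoetherianRing (Localization.AtPrime M) := IsLocalization.isNoetherianRing M.primeCompl _ inferInstance
  haveI : IsLocalRing (MvPowerSeries (Fin N) kb ⧸ Ideal.span {f}) := e.toRingEquiv.isLocalRing
  obtain ⟨θ, hcomap, hsurj⟩ := exists_theta_at M e
  have hmT := maximalIdeal_quot_eq (Ideal.pow_le_self two_ne_zero (mem_sq_of_noLow hf))
  have hMiff : ∀ z, z ∈ M ↔ θ z ∈ maximalIdeal (MvPowerSeries (Fin N) kb ⧸ Ideal.span {f}) := fun z => by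
    conv_lhs => rw [← pow_one M, ← hcomap, Ideal.mem_comap, pow_one]
  have hle : ∀ x ∈ maximalIdeal O, θ (1 ⊗ₜ x) ∈ maximalIdeal (MvPowerSeries (Fin N) kb ⧸ Ideal.span {f}) := fun x hx =>
    (hMiff _).1 (baseIdeal_le M (Ideal.mem_map_of_mem _ hx))
  set S := Submodule.span kb {c : Fin N → kb | ∃ x ∈ maximalIdeal O, ∃ G,
    Ideal.Quotient.mk (Ideal.span {f}) G = θ (1 ⊗ₜ x) ∧ MvPowerSeries.constantCoeff G = 0 ∧ lin G = c} with hS
  have hStop : S = ⊤ := by
    by_contra h
    obtain ⟨g, hg0, hg⟩ := Submodule.exists_le_ker_of_lt_top _ (lt_top_iff_ne_top.2 h)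
    apply hg0
    have hgc : ∀ c : Fin N → kb, g c = ∑ i, g (Pi.single i 1) * c i := fun c => by
      conv_lhs => rw [← Finset.univ_sum_single c, map_sum]
      refine Finset.sum_congr rfl fun i _ => ?_
      rw [mul_comm, ← smul_eq_mul, ← map_smul]
      congr 1
      ext j
      simp [Pi.single_apply]
    have hw := jet_injective_of_nondeg M hf hfq θ hcomap hsurj (fun i => g (Pi.single i 1)) (fun x hx F hF => by
      have h1 := hle x hx
      rw [← hF] at h1
      have hF0 : MvPowerSeries.constantCoeff F = 0 := by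
        rw [hmT, ← Ideal.mem_comap, Ideal.comap_map_of_surjective _ Ideal.Quotient.mk_surjective,
          ← RingHom.ker_eq_comap_bot, Ideal.mk_ker, sup_eq_left.2 ((Ideal.span_singleton_le_iff_mem _).2
            (Ideal.pow_le_self two_ne_zero (mem_sq_of_noLow hf))), mem_vars_iff] at h1
        exact h1
      ext
      · rw [jet_fst, hF0]; simp
      · rw [jet_snd]
        simp only [TrivSqZeroExt.snd_zero]
        refine (hgc (lin F)).symm.trans ?_
        exact hg (Submodule.subset_span ⟨x, hx, F, hF, hF0, rfl⟩))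
    refine LinearMap.ext fun c => ?_
    rw [hgc, LinearMap.zero_apply]
    exact Finset.sum_eq_zero fun i _ => by rw [show g (Pi.single i 1) = 0 from congrFun hw i, zero_mul]
  let M0 := baseIdeal k kb O
  have hM : M ≤ M0 ⊔ M ^ 2 := fun z hz => by
    have h1 := (hMiff z).1 hz
    rw [hmT] at h1
    obtain ⟨F, hF, hFz⟩ := (Ideal.mem_map_iff_of_surjective _ Ideal.Quotient.mk_surjective).1 h1
    have key : ∀ c ∈ S, ∃ z0 ∈ M0, ∃ G, Ideal.Quotient.mk (Ideal.span {f}) G = θ z0 ∧
        MvPowerSeries.constantCoeff G = 0 ∧ lin G = c := fun c hc => by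
      induction hc using Submodule.span_induction with
      | mem c hc =>
        obtain ⟨x, hx, G, h⟩ := hc
        exact ⟨1 ⊗ₜ x, Ideal.mem_map_of_mem _ hx, G, h⟩
      | zero => exact ⟨0, zero_mem _, 0, by simp, by simp, funext fun i => by simp [lin]⟩
      | add c c' _ _ h h' =>
        obtain ⟨z, hz, G, a1, a2, a3⟩ := h
        obtain ⟨z', hz', G', b1, b2, b3⟩ := h'
        exact ⟨z + z', add_mem hz hz', G + G', by rw [map_add, map_add, a1, b1], by rw [map_add, a2, b2, add_zero],
          by rw [lin_add, a3, b3]⟩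
      | smul a c _ h =>
        obtain ⟨z, hz, G, a1, a2, a3⟩ := h
        refine ⟨algebraMap kb (kb ⊗[k] O) a * z, Ideal.mul_mem_left _ _ hz, MvPowerSeries.C a * G, ?_, ?_, ?_⟩
        · rw [map_mul, map_mul, a1, θ.commutes]; rfl
        · rw [map_mul, a2, mul_zero]
        · rw [lin_mul _ _ a2, a3, MvPowerSeries.constantCoeff_C]
    obtain ⟨z0, hz0, G, hG, hG0, hGl⟩ := key (lin F) (hStop ▸ Submodule.mem_top)
    rw [show z = z0 + (z - z0) by ring]
    refine Submodule.add_mem_sup hz0 ?_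
    rw [← hcomap, Ideal.mem_comap, map_sub, ← hFz, ← hG, ← map_sub, hmT, ← Ideal.map_pow]
    refine Ideal.mem_map_of_mem _ (mem_sq_of_lin (by rw [map_sub, hG0, mem_vars_iff.1 hF, sub_zero]) ?_)
    funext i
    have := congrFun hGl i
    simp only [lin] at this
    simp [lin, this]
  let L := Localization.AtPrime M
  have hmaxL : maximalIdeal L = M0.map (algebraMap _ L) := by
    refine le_antisymm (Submodule.le_of_le_smul_of_le_jacobson_bot (I := maximalIdeal L) (IsNoetherian.noetherian _)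
      (maximalIdeal_le_jacobson _) ?_) ?_
    · conv_lhs => rw [← Localization.AtPrime.map_eq_maximalIdeal]
      refine (Ideal.map_mono hM).trans ?_
      rw [Ideal.map_sup, Ideal.map_pow, Localization.AtPrime.map_eq_maximalIdeal, smul_eq_mul, ← pow_two]
    · rw [← Localization.AtPrime.map_eq_maximalIdeal]
      exact Ideal.map_mono (baseIdeal_le M)
  -- the residue of `y`
  obtain ⟨Fy, hFy⟩ := Ideal.Quotient.mk_surjective (θ (1 ⊗ₜ y))
  let c0 := MvPowerSeries.constantCoeff Fy
  let t := (1 : kb) ⊗ₜ[k] y - algebraMap kb (kb ⊗[k] O) c0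
  have ht : t ∈ M := by
    rw [hMiff, map_sub, θ.commutes, ← hFy, hmT,
      show algebraMap kb (MvPowerSeries (Fin N) kb ⧸ Ideal.span {f}) c0 = Ideal.Quotient.mk _ (MvPowerSeries.C c0) from rfl, ← map_sub]
    exact Ideal.mem_map_of_mem _ (mem_vars_iff.2 (by simp [c0]))
  have htL : algebraMap _ L t ∈ M0.map (algebraMap _ L) := by
    rw [← hmaxL, ← Localization.AtPrime.map_eq_maximalIdeal]
    exact Ideal.mem_map_of_mem _ ht
  obtain ⟨⟨⟨w, hwm⟩, u⟩, hwu⟩ := (IsLocalization.mem_map_algebraMap_iff M.primeCompl L).1 htL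
  simp only [← map_mul] at hwu
  obtain ⟨v, hv⟩ := (IsLocalization.eq_iff_exists M.primeCompl L).1 hwu
  have hvu : (v : kb ⊗[k] O) * u ∉ M := fun h => (Ideal.IsPrime.mem_or_mem inferInstance h).elim v.2 u.2
  have hvut : (v : kb ⊗[k] O) * u * t ∈ M0 := by
    rw [show (v : kb ⊗[k] O) * u * t = v * w by rw [← hv]; ring]
    exact Ideal.mul_mem_left _ _ hwm
  let K := ResidueField O
  let π : kb ⊗[k] O →ₐ[kb] kb ⊗[k] K :=
    Algebra.TensorProduct.map (AlgHom.id kb kb) (IsScalarTower.toAlgHom k O K)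
  have hπ0 : ∀ z ∈ M0, π z = 0 := fun z hz => by
    have : M0 ≤ RingHom.ker π := Ideal.map_le_iff_le_comap.2 fun x hx => by
      rw [Ideal.mem_comap, RingHom.mem_ker]
      show π (1 ⊗ₜ x) = 0
      simp [π, K, ResidueField.algebraMap_eq, (residue_eq_zero_iff x).2 hx]
    exact this hz
  let ev : (MvPowerSeries (Fin N) kb ⧸ Ideal.span {f}) →ₐ[kb] kb := Ideal.Quotient.liftₐ _
    (AlgHom.mk (MvPowerSeries.constantCoeff (σ := Fin N) (R := kb)) fun c => by simp [MvPowerSeries.algebraMap_apply])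
    fun F hF => by
      obtain ⟨a, rfl⟩ := Ideal.mem_span_singleton'.1 hF
      simp [hf.1]
  have hev : ∀ z, ev (θ z) = 0 → z ∈ M := fun z hz => by
    obtain ⟨F, hF⟩ := Ideal.Quotient.mk_surjective (θ z)
    rw [hMiff, ← hF, hmT]
    rw [← hF] at hz
    exact Ideal.mem_map_of_mem _ (mem_vars_iff.2 hz)
  have hevm : ∀ x ∈ maximalIdeal O, ev (θ (1 ⊗ₜ x)) = 0 := fun x hx => by
    have := hle x hx
    rw [hmT] at this
    obtain ⟨F, hF, hFx⟩ := (Ideal.mem_map_iff_of_surjective _ Ideal.Quotient.mk_surjective).1 this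
    rw [← hFx]
    exact mem_vars_iff.1 hF
  let ρK : K →ₐ[k] kb := Ideal.Quotient.liftₐ (maximalIdeal O)
    (((ev.comp θ).restrictScalars k).comp Algebra.TensorProduct.includeRight) hevm
  let π2 : kb ⊗[k] K →ₐ[kb] kb := Algebra.TensorProduct.lift (AlgHom.id kb kb) ρK fun _ _ => Commute.all _ _
  have hπ2 : ∀ z, π2 (π z) = ev (θ z) := fun z => by
    induction z using TensorProduct.induction_on with
    | zero => simp
    | tmul c x =>
      have e1 : c ⊗ₜ[k] x = c • ((1 : kb) ⊗ₜ[k] x) := by simp [smul_tmul']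
      rw [e1, map_smul, map_smul, map_smul, map_smul]
      congr 1
      simp [π, π2, ρK, K, ResidueField.algebraMap_eq]
      rfl
    | add z z' h h' => simp [h, h']
  haveI : Nontrivial (kb ⊗[k] K) := π2.toRingHom.domain_nontrivial
  let q := ringExpChar k
  haveI : ExpChar k q := inferInstanceAs (ExpChar k (ringExpChar k))
  haveI : ExpChar (kb ⊗[k] K) q := expChar_of_injective_algebraMap (algebraMap k (kb ⊗[k] K)).injective q
  have hpow : ∀ z : kb ⊗[k] K, ∃ (e : ℕ) (c : kb), z ^ q ^ e = algebraMap kb _ c := by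
    intro z
    induction z using TensorProduct.induction_on with
    | zero => exact ⟨0, 0, by simp⟩
    | tmul c x =>
      obtain ⟨x, rfl⟩ := residue_surjective x
      obtain ⟨e, d, hd⟩ := hpi x
      refine ⟨e, c ^ q ^ e * algebraMap k kb d, ?_⟩
      have hd' : residue O (x ^ q ^ e) = residue O (algebraMap k O d) := Ideal.Quotient.eq.2 hd
      rw [Algebra.TensorProduct.tmul_pow, ← map_pow, hd',
        Algebra.TensorProduct.algebraMap_apply, Algebra.algebraMap_self, RingHom.id_apply]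
      show (c ^ q ^ e) ⊗ₜ[k] algebraMap k K d = _
      rw [Algebra.algebraMap_eq_smul_one, tmul_smul, smul_tmul', Algebra.smul_def, mul_comm]
    | add z z' h h' =>
      obtain ⟨e, c, hc⟩ := h
      obtain ⟨e', c', hc'⟩ := h'
      refine ⟨e + e', c ^ q ^ e' + c' ^ q ^ e, ?_⟩
      rw [add_pow_expChar_pow, pow_add, pow_mul, mul_comm (q ^ e) (q ^ e'), pow_mul, hc, hc', map_add, map_pow, map_pow]
  have hπt : π t = 0 := by
    obtain ⟨e, s, hs⟩ := hpow (π (v * u))
    have hs0 : s ≠ 0 := fun h0 => hvu (hev _ (by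
      rw [← hπ2]
      rw [h0, map_zero] at hs
      exact eq_zero_of_pow_eq_zero (by rw [← map_pow, hs, map_zero])))
    have hu : IsUnit (π (v * u)) := by
      have h1 : IsUnit (π (v * u) ^ q ^ e) := hs ▸ (isUnit_iff_ne_zero.2 hs0).map _
      exact (isUnit_pow_iff (pow_ne_zero _ (expChar_pos k q).ne')).1 h1
    have h2 := hπ0 _ hvut
    rw [map_mul] at h2
    exact (hu.mul_right_eq_zero).1 h2
  -- `y` is in `k`
  have heq : (1 : kb) ⊗ₜ[k] residue O y = c0 ⊗ₜ[k] (1 : K) := by
    rw [map_sub, sub_eq_zero, π.commutes, Algebra.TensorProduct.algebraMap_apply] at hπt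
    simpa [π, K, ResidueField.algebraMap_eq] using hπt
  by_cases hmem : residue O y ∈ Submodule.span k {(1 : K)}
  · obtain ⟨c, hc⟩ := Submodule.mem_span_singleton.1 hmem
    refine ⟨c, Ideal.Quotient.eq.1 ?_⟩
    rw [← Algebra.algebraMap_eq_smul_one] at hc
    exact hc.symm
  · exfalso
    obtain ⟨lam, hlam0, hlam⟩ := Submodule.exists_dual_map_eq_bot_of_notMem hmem inferInstance
    have h1 : lam 1 = 0 := by
      have : lam 1 ∈ (Submodule.span k {(1 : K)}).map lam := Submodule.mem_map_of_mem (Submodule.mem_span_singleton_self _)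
      rwa [hlam, Submodule.mem_bot] at this
    have h2 := congrArg (LinearMap.liftBaseChange kb ((Algebra.linearMap k kb).comp lam)) heq
    simp [h1] at h2
    exact hlam0 h2

/-- A change of variables with invertible linear part. -/
theorem exists_subst_linear {Y : Fin N → MvPowerSeries (Fin N) kb} (h0 : ∀ i, MvPowerSeries.constantCoeff (Y i) = 0)
    (hdet : IsUnit (Matrix.of fun i j => lin (Y i) j).det) :
    ∃ φ : MvPowerSeries (Fin N) kb ≃ₐ[kb] MvPowerSeries (Fin N) kb, (∀ i, φ (MvPowerSeries.X i) = Y i) ∧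
      (∀ r w, w ∈ vars (Fin N) kb ^ r → φ w ∈ vars (Fin N) kb ^ r) ∧
      ∀ r w, w ∈ vars (Fin N) kb ^ r → φ.symm w ∈ vars (Fin N) kb ^ r := by
  classical
  have ha := MvPowerSeries.hasSubst_of_constantCoeff_zero h0
  let φ : MvPowerSeries (Fin N) kb →ₐ[kb] MvPowerSeries (Fin N) kb := MvPowerSeries.substAlgHom ha
  have hφ : ∀ i, φ (MvPowerSeries.X i) = Y i := fun i => MvPowerSeries.substAlgHom_X ha i
  have hφ0 : ∀ i, MvPowerSeries.constantCoeff (φ (MvPowerSeries.X i)) = 0 := fun i => by rw [hφ]; exact h0 i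
  have hb : Function.Bijective φ := by
    refine bijective_of_isUnit_det hφ0 ?_
    simp only [hφ]
    exact hdet
  let e := AlgEquiv.ofBijective φ hb
  have he : ∀ i, MvPowerSeries.constantCoeff (e.symm (MvPowerSeries.X i)) = 0 := fun i => by
    rw [← constantCoeff_map hφ0]
    show MvPowerSeries.constantCoeff (e (e.symm (MvPowerSeries.X i))) = 0
    rw [e.apply_symm_apply, MvPowerSeries.constantCoeff_X]
  exact ⟨e, hφ, fun r w h => map_vars_pow hφ0 h, fun r w h => map_vars_pow (φ := e.symm.toAlgHom) he h⟩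

/-- Quadratic parts under a change of variables. -/
theorem quadEval_quadPart_subst {Y : Fin N → MvPowerSeries (Fin N) kb}
    (h0 : ∀ i, MvPowerSeries.constantCoeff (Y i) = 0) {f' : MvPowerSeries (Fin N) kb} (hf' : VanCyc.NoLowTerms f')
    (φ : MvPowerSeries (Fin N) kb ≃ₐ[kb] MvPowerSeries (Fin N) kb) (hφ : ∀ i, φ (MvPowerSeries.X i) = Y i)
    (hφV : ∀ r w, w ∈ vars (Fin N) kb ^ r → φ w ∈ vars (Fin N) kb ^ r) (v : Fin N → kb) :
    VanCyc.quadEval (VanCyc.quadPart (φ f')) v =
      VanCyc.quadEval (VanCyc.quadPart f') ((Matrix.of fun i j => lin (Y i) j) *ᵥ v) := by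
  classical
  set L : Matrix (Fin N) (Fin N) kb := Matrix.of fun i j => lin (Y i) j
  set U := Lᵀ * upper (VanCyc.quadPart f') * L
  let a'' : Fin N → Fin N → kb := fun i j => if h : i ≤ j then up U ⟨(i, j), h⟩ else 0
  have hU : ∀ (S : Type u) [CommRing S] (ρ : kb →+* S) (x : Fin N → S),
      VanCyc.quadEval (fun i j => ρ (VanCyc.quadPart f' i j)) ((L.map ρ) *ᵥ x) =
        VanCyc.quadEval (fun i j => ρ (a'' i j)) x := fun S _ ρ x => by
    have e1 : upper (fun i j => ρ (VanCyc.quadPart f' i j)) = (upper (VanCyc.quadPart f')).map ρ := by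
      ext i j; simp [upper, apply_ite ρ]
    rw [quadEval_eq, e1, mulVec_mulVec, ← vecMul_transpose, ← dotProduct_mulVec, mulVec_mulVec,
      ← Matrix.transpose_map, ← Matrix.map_mul, ← Matrix.map_mul, ← Matrix.mul_assoc, dotProduct_mulVec_self]
    simp only [VanCyc.quadEval]
    rw [← Fintype.sum_prod_type' (f := fun i j => if i ≤ j then ρ (a'' i j) * x i * x j else 0), ← Finset.sum_filter]
    refine Eq.trans ?_ (Finset.sum_subtype (p := fun p : Fin N × Fin N => p.1 ≤ p.2) (F := Subtype.fintype _) _ (by simp) _).symm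
    refine Finset.sum_congr rfl fun p _ => ?_
    simp only [a'', dif_pos p.2, up_map]
    ring
  let Cc : kb →+* MvPowerSeries (Fin N) kb := MvPowerSeries.C
  have hcoe : ∀ a : Fin N → Fin N → kb, (VanCyc.quadPoly a : MvPowerSeries (Fin N) kb) =
      VanCyc.quadEval (fun i j => Cc (a i j)) MvPowerSeries.X := fun a => by
    simp only [VanCyc.quadPoly, VanCyc.quadEval, ← MvPolynomial.coeToMvPowerSeries.ringHom_apply, map_sum]
    refine Finset.sum_congr rfl fun i _ => Finset.sum_congr rfl fun j _ => ?_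
    split_ifs <;> simp [Cc]
  have h1 : φ f' - (VanCyc.quadPoly a'' : MvPowerSeries (Fin N) kb) ∈ vars (Fin N) kb ^ 3 := by
    have h2 : φ (f' - (VanCyc.quadPoly (VanCyc.quadPart f') : MvPowerSeries (Fin N) kb)) ∈ vars (Fin N) kb ^ 3 :=
      hφV 3 _ (sub_quadPoly_mem hf')
    have h3 : φ (VanCyc.quadPoly (VanCyc.quadPart f') : MvPowerSeries (Fin N) kb) =
        VanCyc.quadEval (fun i j => Cc (VanCyc.quadPart f' i j)) Y := by
      rw [hcoe]
      show φ.toRingEquiv.toRingHom _ = _
      rw [map_quadEval]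
      congr 1
      · funext i j; exact φ.commutes _
      · funext i; exact hφ i
    have hYm : ∀ i, Y i ∈ vars (Fin N) kb := fun i => mem_vars_iff.2 (h0 i)
    have hLm : ∀ i, ((L.map Cc) *ᵥ MvPowerSeries.X) i ∈ vars (Fin N) kb := fun i =>
      Ideal.sum_mem _ (t := Finset.univ) fun j _ => Ideal.mul_mem_left _ _ (mem_vars_iff.2 (MvPowerSeries.constantCoeff_X j))
    have h4 := quadEval_sub_mem (vars (Fin N) kb) (fun i j => Cc (VanCyc.quadPart f' i j)) hYm hLm fun i => by
      refine mem_sq_of_lin (by rw [map_sub, h0, mem_vars_iff.1 (hLm i), sub_zero]) ?_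
      funext j
      simp [lin, Matrix.mulVec, dotProduct, L, Cc, MvPowerSeries.coeff_C_mul, MvPowerSeries.coeff_index_single_X,
        Finset.sum_ite_eq]
    rw [hU, ← hcoe] at h4
    rw [map_sub, h3] at h2
    simpa using add_mem h2 h4
  have h5 : ∀ i j, i ≤ j → VanCyc.quadPart (φ f') i j = a'' i j := fun i j hij => by
    have := coeff_eq_zero_of_mem_pow h1 (d := Finsupp.single i 1 + Finsupp.single j 1) (by simp)
    rw [map_sub, MvPolynomial.coeff_coe, coeff_quadPoly _ _ _ hij, ← quadPart_apply _ hij, sub_eq_zero] at this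
    exact this
  have := hU kb (RingHom.id kb) v
  rw [show (L.map (RingHom.id kb)) = L from Matrix.ext fun i j => rfl] at this
  refine Eq.trans ?_ this.symm
  simp only [VanCyc.quadEval, RingHom.id_apply]
  refine Finset.sum_congr rfl fun i _ => Finset.sum_congr rfl fun j _ => ?_
  split_ifs with h
  · rw [h5 i j h]
  · rfl

/-- Coordinates over the base at a rational point. -/
theorem exists_coordinates [Algebra.IsAlgebraic k kb] [IsNoetherianRing (kb ⊗[k] O)] [IsNoetherianRing O]
    (hk : ∀ x : O, ∃ c : k, x - algebraMap k O c ∈ maximalIdeal O)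
    (M : Ideal (kb ⊗[k] O)) [M.IsMaximal] (hf : VanCyc.NoLowTerms f)
    (e : AdicCompletion (maximalIdeal (Localization.AtPrime M)) (Localization.AtPrime M) ≃ₐ[kb] (MvPowerSeries (Fin N) kb ⧸ Ideal.span {f})) :
    ∃ (b : Fin N → O) (f' : MvPowerSeries (Fin N) kb) (L : Matrix (Fin N) (Fin N) kb)
      (Θ : O →+* MvPowerSeries (Fin N) kb ⧸ Ideal.span {f'}),
      maximalIdeal O = Ideal.span (Set.range b) ∧ IsUnit L.det ∧ VanCyc.NoLowTerms f' ∧
      (∀ v, VanCyc.quadEval (VanCyc.quadPart f) v = VanCyc.quadEval (VanCyc.quadPart f') (L *ᵥ v)) ∧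
      (∀ c, Θ (algebraMap k O c) = Ideal.Quotient.mk _ (MvPowerSeries.C (algebraMap k kb c))) ∧
      (∀ i, Θ (b i) = Ideal.Quotient.mk _ (MvPowerSeries.X i)) ∧
      ∀ (r : ℕ) (lam : O →ₗ[k] kb), (∀ x ∈ maximalIdeal O ^ r, lam x = 0) →
        ∃ lamb : (MvPowerSeries (Fin N) kb ⧸ Ideal.span {f'}) →+ kb,
          (∀ c t, lamb (Ideal.Quotient.mk _ (MvPowerSeries.C c) * t) = c * lamb t) ∧
          (∀ t ∈ ((vars (Fin N) kb).map (Ideal.Quotient.mk (Ideal.span {f'}))) ^ r, lamb t = 0) ∧
          ∀ x, lamb (Θ x) = lam x := by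
  classical
  haveI : IsNoetherianRing (Localization.AtPrime M) := IsLocalization.isNoetherianRing M.primeCompl _ inferInstance
  haveI : IsLocalRing (MvPowerSeries (Fin N) kb ⧸ Ideal.span {f}) := e.toRingEquiv.isLocalRing
  obtain ⟨θ, hcomap, hsurj⟩ := exists_theta_at M e
  have hfV := mem_sq_of_noLow hf
  have hmT := maximalIdeal_quot_eq (Ideal.pow_le_self two_ne_zero hfV)
  have hM0 : ∀ z : kb ⊗[k] O, ∃ c : kb, z - algebraMap kb _ c ∈ baseIdeal k kb O := fun z => by
    induction z using TensorProduct.induction_on with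
    | zero => exact ⟨0, by simp⟩
    | tmul a x =>
      obtain ⟨c, hc⟩ := hk x
      refine ⟨a * algebraMap k kb c, ?_⟩
      have e1 : a ⊗ₜ[k] x - algebraMap kb (kb ⊗[k] O) (a * algebraMap k kb c) =
          algebraMap kb (kb ⊗[k] O) a * ((1 : kb) ⊗ₜ[k] (x - algebraMap k O c)) := by
        rw [map_mul, ← IsScalarTower.algebraMap_apply k kb, tmul_sub, mul_sub, Algebra.TensorProduct.algebraMap_apply,
          Algebra.TensorProduct.tmul_mul_tmul, one_mul, mul_one, Algebra.algebraMap_self, RingHom.id_apply,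
          ← Algebra.TensorProduct.algebraMap_apply']
      rw [e1]
      exact Ideal.mul_mem_left _ _ (Ideal.mem_map_of_mem _ hc)
    | add z z' h h' =>
      obtain ⟨c, hc⟩ := h; obtain ⟨c', hc'⟩ := h'
      exact ⟨c + c', by rw [map_add, add_sub_add_comm]; exact add_mem hc hc'⟩
  have hMeq : M = baseIdeal k kb O := by
    refine le_antisymm (fun z hz => ?_) (baseIdeal_le M)
    obtain ⟨c, hc⟩ := hM0 z
    have hc0 : c = 0 := by
      by_contra hne
      have := sub_mem hz (baseIdeal_le M hc)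
      rw [sub_sub_cancel] at this
      exact ‹M.IsMaximal›.ne_top (M.eq_top_of_isUnit_mem this ((isUnit_iff_ne_zero.2 hne).map _))
    simpa [hc0] using hc
  have hMiff : ∀ z, z ∈ baseIdeal k kb O ↔ θ z ∈ maximalIdeal (MvPowerSeries (Fin N) kb ⧸ Ideal.span {f}) := fun z => by
    conv_lhs => rw [← hMeq, ← pow_one M, ← hcomap, Ideal.mem_comap, pow_one]
  have hle : ∀ x ∈ maximalIdeal O, θ (1 ⊗ₜ x) ∈ maximalIdeal (MvPowerSeries (Fin N) kb ⧸ Ideal.span {f}) := fun x hx =>
    (hMiff _).1 (Ideal.mem_map_of_mem _ hx)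
  have hker0 : ∀ F, Ideal.Quotient.mk (Ideal.span {f}) F = 0 → MvPowerSeries.constantCoeff F = 0 ∧ lin F = 0 :=
    fun F hF => by
      have h : F ∈ vars (Fin N) kb ^ 2 :=
        (Ideal.span_singleton_le_iff_mem _).2 hfV (Ideal.Quotient.eq_zero_iff_mem.1 hF)
      exact ⟨mem_vars_iff.1 (Ideal.pow_le_self two_ne_zero h), lin_eq_zero_of_mem h⟩
  set st : Set (Fin N → kb) := {c | ∃ x ∈ maximalIdeal O, ∃ G,
    Ideal.Quotient.mk (Ideal.span {f}) G = θ (1 ⊗ₜ x) ∧ MvPowerSeries.constantCoeff G = 0 ∧ lin G = c} with hst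
  have hXmem : ∀ i, Ideal.Quotient.mk (Ideal.span {f}) (MvPowerSeries.X i) ∈ maximalIdeal (MvPowerSeries (Fin N) kb ⧸ Ideal.span {f}) := fun i =>
    hmT.symm.le (Ideal.mem_map_of_mem _ (Ideal.subset_span ⟨i, rfl⟩))
  have hspan : ⊤ ≤ Submodule.span kb st := by
    rw [← (Pi.basisFun kb (Fin N)).span_eq, Submodule.span_le]
    rintro _ ⟨i, rfl⟩
    obtain ⟨z, hz⟩ := hsurj 2 (Ideal.Quotient.mk (Ideal.span {f}) (MvPowerSeries.X i))
    have hzm : z ∈ baseIdeal k kb O := (hMiff z).2 (by
      simpa only [sub_add_cancel] using add_mem (Ideal.pow_le_self two_ne_zero hz) (hXmem i))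
    obtain ⟨F, hF1, hF2, hF3⟩ := exists_lin_of_mem_span hf θ hle hzm
    rw [hmT, ← Ideal.map_pow] at hz
    obtain ⟨D, hD, hDz⟩ := (Ideal.mem_map_iff_of_surjective _ Ideal.Quotient.mk_surjective).1 hz
    have h0 := (hker0 (F - MvPowerSeries.X i - D) (by rw [map_sub, map_sub, hF1, hDz, sub_self])).2
    rw [SetLike.mem_coe]
    convert hF3 using 1
    funext j
    have h' := congrFun h0 j
    have hD' := congrFun (lin_eq_zero_of_mem hD) j
    simp only [lin, map_sub, Pi.zero_apply] at h' hD'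
    rw [hD', sub_zero, sub_eq_zero] at h'
    simp only [lin, h', Pi.basisFun_apply, MvPowerSeries.coeff_index_single_X, Pi.single_apply]
  let B0 := Module.Basis.ofSpan hspan
  let B := B0.reindex (B0.indexEquiv (Pi.basisFun kb (Fin N)))
  have hBmem : ∀ i, B i ∈ st := fun i => by
    simp only [B, Module.Basis.reindex_apply]
    exact Module.Basis.ofSpan_subset hspan ⟨_, rfl⟩
  choose b hbm Y hY hY0 hYlin using hBmem
  have hdet : IsUnit (Matrix.of fun i j => lin (Y i) j).det := by
    rw [← Matrix.isUnit_iff_isUnit_det, ← Matrix.linearIndependent_rows_iff_isUnit]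
    have : (Matrix.of fun i j => lin (Y i) j).row = B := funext fun i => hYlin i
    rw [this]
    exact B.linearIndependent
  obtain ⟨φ, hφX, hφV, hφV'⟩ := exists_subst_linear hY0 hdet
  let f' := φ.symm f
  have hf'V : f' ∈ vars (Fin N) kb ^ 2 := hφV' 2 f hfV
  have hf' : VanCyc.NoLowTerms f' :=
    ⟨mem_vars_iff.1 (Ideal.pow_le_self two_ne_zero hf'V), fun i => congrFun (lin_eq_zero_of_mem hf'V) i⟩
  have hquad : ∀ v, VanCyc.quadEval (VanCyc.quadPart f) v =
      VanCyc.quadEval (VanCyc.quadPart f') ((Matrix.of fun i j => lin (Y i) j) *ᵥ v) := fun v => by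
    rw [← quadEval_quadPart_subst hY0 hf' φ hφX hφV v, φ.apply_symm_apply]
  let φb : (MvPowerSeries (Fin N) kb ⧸ Ideal.span {f'}) ≃ₐ[kb] (MvPowerSeries (Fin N) kb ⧸ Ideal.span {f}) :=
    Ideal.quotientEquivAlg (Ideal.span {f'}) (Ideal.span {f}) φ (by
      rw [Ideal.map_span, Set.image_singleton]
      simp [f'])
  let Θ : O →+* MvPowerSeries (Fin N) kb ⧸ Ideal.span {f'} :=
    φb.symm.toRingEquiv.toRingHom.comp (θ.toRingHom.comp (Algebra.TensorProduct.includeRight (A := kb)).toRingHom)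
  have hΘapp : ∀ x, φb (Θ x) = θ (1 ⊗ₜ x) := fun x => φb.apply_symm_apply _
  refine ⟨b, f', _, Θ, ?_, hdet, hf', hquad, fun c => ?_, fun i => ?_, ?_⟩
  · refine le_antisymm (Submodule.le_of_le_smul_of_le_jacobson_bot (I := maximalIdeal O) (IsNoetherian.noetherian _)
      (maximalIdeal_le_jacobson _) fun x hx => ?_) (Ideal.span_le.2 (by rintro _ ⟨i, rfl⟩; exact hbm i))
    rw [smul_eq_mul, ← pow_two]
    by_contra hne
    let W : Submodule k O := (Ideal.span (Set.range b) ⊔ maximalIdeal O ^ 2).restrictScalars k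
    obtain ⟨lam, hlam0, hlam⟩ := Submodule.exists_dual_map_eq_bot_of_notMem (p := W) hne inferInstance
    have hlamW : ∀ w ∈ W, lam w = 0 := fun w hw => by
      have := Submodule.mem_map_of_mem (f := lam) hw
      rwa [hlam, Submodule.mem_bot] at this
    let lk : O →ₗ[k] kb := (Algebra.linearMap k kb).comp lam
    obtain ⟨Fx, hFx, hFx0, hFxl⟩ := exists_lin_of_mem_span hf θ hle (z := (1 : kb) ⊗ₜ[k] x) (Ideal.mem_map_of_mem (Algebra.TensorProduct.includeRight : O →ₐ[k] kb ⊗[k] O) hx)
    set cf := B.repr (lin Fx)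
    let z := (1 : kb) ⊗ₜ[k] x - ∑ i, cf i ⊗ₜ[k] b i
    have hz : z ∈ baseIdeal k kb O ^ 2 := by
      rw [← hMeq, ← hcomap, Ideal.mem_comap, map_sub, map_sum, hmT, ← Ideal.map_pow]
      have e2 : ∀ i, θ (cf i ⊗ₜ b i) = Ideal.Quotient.mk (Ideal.span {f}) (MvPowerSeries.C (cf i) * Y i) := fun i => by
        have : cf i ⊗ₜ[k] b i = algebraMap kb _ (cf i) * ((1 : kb) ⊗ₜ[k] b i) := by
          simp [Algebra.TensorProduct.algebraMap_apply]
        rw [this, map_mul, map_mul, θ.commutes, hY]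
        rfl
      simp only [e2, ← hFx, ← map_sum, ← map_sub]
      refine Ideal.mem_map_of_mem _ (mem_sq_of_lin ?_ ?_)
      · simp [hFx0, hY0]
      · funext j
        have h1 := congrFun (B.sum_repr (lin Fx)) j
        have h2 : ∀ i, B i j = lin (Y i) j := fun i => congrFun (hYlin i).symm j
        simp only [Finset.sum_apply, Pi.smul_apply, smul_eq_mul, h2] at h1
        simp only [lin, map_sub, map_sum, MvPowerSeries.coeff_C_mul, Pi.zero_apply] at h1 ⊢
        rw [h1, sub_self]
    have h3 := liftBaseChange_eq_zero lk 2 (fun w hw => by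
      show algebraMap k kb (lam w) = 0
      rw [hlamW w (Ideal.mem_sup_right hw), map_zero]) hz
    simp only [z, map_sub, map_sum, LinearMap.liftBaseChange_tmul, lk, LinearMap.comp_apply, Algebra.linearMap_apply,
      hlamW _ (Ideal.mem_sup_left (Ideal.subset_span ⟨_, rfl⟩)), map_zero, smul_zero, Finset.sum_const_zero,
      sub_zero, one_smul] at h3
    exact hlam0 ((map_eq_zero _).1 h3)
  · apply φb.injective
    rw [hΘapp, show Ideal.Quotient.mk (Ideal.span {f'}) (MvPowerSeries.C (algebraMap k kb c)) =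
      algebraMap kb _ (algebraMap k kb c) from rfl, AlgEquiv.commutes, ← θ.commutes,
      ← IsScalarTower.algebraMap_apply k kb]
    congr 1
    exact (Algebra.TensorProduct.includeRight (A := kb)).commutes c
  · apply φb.injective
    rw [hΘapp, ← hY]
    exact congrArg (Ideal.Quotient.mk (Ideal.span {f})) (hφX i).symm
  intro r lam hlam
  let lam' := LinearMap.liftBaseChange kb lam
  have hwd : ∀ z z', θ z - θ z' ∈ maximalIdeal (MvPowerSeries (Fin N) kb ⧸ Ideal.span {f}) ^ r → lam' z = lam' z' := fun z z' h => by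
    rw [← sub_eq_zero, ← map_sub]
    refine liftBaseChange_eq_zero lam r hlam ?_
    rw [← hMeq, ← hcomap, Ideal.mem_comap, map_sub]
    exact h
  choose pz hpz using hsurj r
  have hval : ∀ t z, θ z - t ∈ maximalIdeal (MvPowerSeries (Fin N) kb ⧸ Ideal.span {f}) ^ r → lam' (pz t) = lam' z := fun t z h => hwd _ _ (by
    simpa only [sub_sub_sub_cancel_right] using sub_mem (hpz t) h)
  refine ⟨AddMonoidHom.mk' (fun t => lam' (pz (φb t))) fun s t => ?_, fun c t => ?_, fun t ht => ?_, fun x => ?_⟩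
  · rw [hval _ (pz (φb s) + pz (φb t)), map_add]
    rw [map_add, map_add, add_sub_add_comm]
    exact add_mem (hpz _) (hpz _)
  · show lam' (pz _) = c * lam' _
    rw [hval _ (algebraMap kb (kb ⊗[k] O) c * pz (φb t)), ← Algebra.smul_def, map_smul, smul_eq_mul]
    rw [map_mul, map_mul, show Ideal.Quotient.mk (Ideal.span {f'}) (MvPowerSeries.C c) = algebraMap kb _ c from rfl,
      AlgEquiv.commutes, θ.commutes, ← mul_sub]
    exact Ideal.mul_mem_left _ _ (hpz _)
  · show lam' (pz _) = 0
    rw [hval _ 0, map_zero]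
    rw [map_zero, zero_sub, neg_mem_iff]
    have hmap : ((vars (Fin N) kb).map (Ideal.Quotient.mk (Ideal.span {f'}))).map φb ≤ maximalIdeal (MvPowerSeries (Fin N) kb ⧸ Ideal.span {f}) := by
      rw [hmT, ← Ideal.map_coe φb, Ideal.map_map]
      refine Ideal.map_le_iff_le_comap.2 fun w hw => ?_
      rw [Ideal.mem_comap, RingHom.comp_apply]
      change Ideal.Quotient.mk (Ideal.span {f}) (φ w) ∈ _
      have := hφV 1 w (by rwa [pow_one])
      rw [pow_one] at this
      exact Ideal.mem_map_of_mem _ this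
    have := Ideal.mem_map_of_mem φb ht
    rw [Ideal.map_pow] at this
    exact Ideal.pow_right_mono hmap r this
  · show lam' (pz _) = _
    rw [hval _ (1 ⊗ₜ x) (by rw [hΘapp, sub_self]; exact zero_mem _)]
    show LinearMap.liftBaseChange kb lam _ = _
    rw [LinearMap.liftBaseChange_tmul, one_smul]

end lin

end Groth.Agent.H9Quad
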