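import Groth.Agent.H9Quad.Solve
import Mathlib

/-!
The exact Morse lemma for non-degenerate quadratic forms over a henselian local ring.
-/

universe u

open IsLocalRing Matrix

namespace Groth.Agent.H9Quad

variable {R : Type u} [CommRing R] {N : ℕ}

open MvPolynomial in
theorem exists_mulVec_eq [HenselianLocalRing R] {a : Fin N → Fin N → R} (ha : VanCyc.QuadNondeg a)
    (r : Matrix (Fin N) (Fin N) R) (hr : ∀ i j, r i j ∈ maximalIdeal R) (x : Fin N → R) :
    ∃ g : Matrix (Fin N) (Fin N) R, (∀ i j, (g - 1) i j ∈ maximalIdeal R) ∧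
      VanCyc.quadEval a (g *ᵥ x) = VanCyc.quadEval a x + x ⬝ᵥ r *ᵥ x := by
  classical
  set A := upper a
  have hM : IsUnit (A + Aᵀ).det := by rw [← polarMatrix_eq]; exact ha
  set W := (A + Aᵀ)⁻¹
  set B := Wᵀ * A * W
  set K := Fintype.card (Fin N × Fin N)
  let ix : Fin K ≃ Fin N × Fin N := (Fintype.equivFin _).symm
  let E : Matrix (Fin N) (Fin N) (MvPolynomial (Fin K) R) := Matrix.of fun i j => X (ix.symm (i, j))
  let Φ : Matrix (Fin N) (Fin N) (MvPolynomial (Fin K) R) :=
    E + Eᵀ * B.map (C : R →+* MvPolynomial (Fin K) R) * E - r.map (C : R →+* MvPolynomial (Fin K) R)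
  let P : Fin K → MvPolynomial (Fin K) R := fun q => Φ (ix q).1 (ix q).2
  have hE : ∀ t : Fin K → R, E.map (eval t) = Matrix.of fun i j => t (ix.symm (i, j)) := fun t => by
    ext i j; simp [E]
  have hC : ∀ (t : Fin K → R) (U : Matrix (Fin N) (Fin N) R),
      (U.map (C : R →+* MvPolynomial (Fin K) R)).map (eval t) = U := fun t U => by ext i j; simp
  have hΦ : ∀ t : Fin K → R, Φ.map (eval t) = E.map (eval t) + (E.map (eval t))ᵀ * B * E.map (eval t) - r :=
    fun t => by
      simp only [Φ, Matrix.map_sub _ (map_sub (eval t)), Matrix.map_add _ (map_add (eval t)), Matrix.map_mul,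
        Matrix.transpose_map, hC]
  have hE0 : E.map (eval (fun _ => (0 : R))) = 0 := by ext i j; simp [E]
  have h₀ : ∀ q, eval (fun _ => (0 : R)) (P q) ∈ maximalIdeal R := fun q => by
    have h1 := congrFun (congrFun (hΦ fun _ => 0) (ix q).1) (ix q).2
    simp only [Matrix.map_apply] at h1
    show eval _ (Φ _ _) ∈ _
    rw [h1, hE0, transpose_zero, Matrix.zero_mul, Matrix.zero_mul]
    simp [neg_mem_iff, hr]
  have hder : ∀ q l, eval (fun _ => (0 : R)) (pderiv l (P q)) = if q = l then 1 else 0 := by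
    intro q l
    let e : MvPolynomial (Fin K) R → R := fun f => eval (fun _ => (0 : R)) f
    let D : MvPolynomial (Fin K) R → R := fun f => eval (fun _ => (0 : R)) (pderiv l f)
    have hmul : ∀ M' N' : Matrix (Fin N) (Fin N) (MvPolynomial (Fin K) R),
        (M' * N').map D = M'.map D * N'.map e + M'.map e * N'.map D := fun M' N' => by
      ext i j
      simp only [D, e, Matrix.map_apply, Matrix.mul_apply, Matrix.add_apply, map_sum, pderiv_mul, map_add, map_mul,
        Finset.sum_add_distrib]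
    have hEe : E.map e = 0 := hE0
    have hCD : ∀ U : Matrix (Fin N) (Fin N) R, (U.map (C : R →+* MvPolynomial (Fin K) R)).map D = 0 := fun U => by
      ext i j; simp [D]
    have key : (Eᵀ * B.map (C : R →+* MvPolynomial (Fin K) R) * E).map D = 0 := by
      have hemul : (Eᵀ * B.map (C : R →+* MvPolynomial (Fin K) R)).map e = 0 := by
        rw [show e = ⇑(eval (fun _ => (0 : R))) from rfl, Matrix.map_mul, Matrix.transpose_map, hE0, transpose_zero,
          Matrix.zero_mul]
      rw [hmul, hemul, hEe, Matrix.mul_zero, Matrix.zero_mul, add_zero]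
    have h2 : eval (fun _ => (0 : R)) (pderiv l ((Eᵀ * B.map (C : R →+* MvPolynomial (Fin K) R) * E :
        Matrix (Fin N) (Fin N) (MvPolynomial (Fin K) R)) (ix q).1 (ix q).2)) = 0 :=
      congrFun (congrFun key (ix q).1) (ix q).2
    simp only [P, Φ, Matrix.sub_apply, Matrix.add_apply, map_sub, map_add, h2, add_zero]
    simp [E, Pi.single_apply, apply_ite (eval (fun _ => (0 : R)))]
  have hJ : IsUnit (Ideal.Quotient.mk (maximalIdeal R)
      (Matrix.of fun q l => eval (fun _ => (0 : R)) (pderiv l (P q))).det) := by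
    have : (Matrix.of fun q l => eval (fun _ => (0 : R)) (pderiv l (P q))) = 1 := by
      ext q l; simp only [Matrix.of_apply, hder, Matrix.one_apply]
    rw [this, Matrix.det_one, map_one]
    exact isUnit_one
  obtain ⟨t, ht, htm⟩ := H9Hens.exists_zero_of_jacobian P _ h₀ hJ
  set T : Matrix (Fin N) (Fin N) R := Matrix.of fun i j => t (ix.symm (i, j))
  have hT : T + Tᵀ * B * T = r := by
    have h1 : Φ.map (eval t) = 0 := Matrix.ext fun i j => by
      have := ht (ix.symm (i, j))
      simpa [P] using this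
    rw [hΦ, hE] at h1
    exact sub_eq_zero.1 h1
  refine ⟨1 + W * T, fun i j => ?_, ?_⟩
  · rw [add_sub_cancel_left, Matrix.mul_apply]
    exact Ideal.sum_mem _ fun l _ => Ideal.mul_mem_left _ _ (by simpa [T] using htm (ix.symm (l, j)))
  · rw [quadEval_eq, quadEval_eq, add_mulVec, one_mulVec, mulVec_add, dotProduct_add, add_dotProduct,
      add_dotProduct, add_assoc]
    congr 1
    rw [← hT, add_mulVec, dotProduct_add]
    have e1 : ((W * T) *ᵥ x) ⬝ᵥ A *ᵥ x + x ⬝ᵥ A *ᵥ ((W * T) *ᵥ x) = x ⬝ᵥ T *ᵥ x := by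
      have : ((W * T) *ᵥ x) ⬝ᵥ A *ᵥ x = x ⬝ᵥ Aᵀ *ᵥ ((W * T) *ᵥ x) := by
        rw [dotProduct_mulVec x Aᵀ, vecMul_transpose, dotProduct_comm]
      rw [this, ← dotProduct_add, ← add_mulVec, mulVec_mulVec, add_comm, ← Matrix.mul_assoc,
        Matrix.mul_nonsing_inv _ hM, Matrix.one_mul]
    have e2 : ((W * T) *ᵥ x) ⬝ᵥ A *ᵥ ((W * T) *ᵥ x) = x ⬝ᵥ (Tᵀ * B * T) *ᵥ x := by
      have : Tᵀ * B * T = (W * T)ᵀ * A * (W * T) := by
        rw [transpose_mul]; simp only [B, Matrix.mul_assoc]
      rw [this, ← mulVec_mulVec x ((W * T)ᵀ * A) (W * T), ← mulVec_mulVec _ (W * T)ᵀ A,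
        dotProduct_mulVec x (W * T)ᵀ, vecMul_transpose]
    rw [← e2, ← e1]
    ring

end Groth.Agent.H9Quad
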