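import Groth.Agent.H9Quad.Fibre
import Groth.Agent.H9Quad.Morse

/-!
Normal form of a function with non-degenerate critical point in the henselized polynomial ring.
-/

universe u

open IsLocalRing Matrix

namespace Groth.Agent.H9Quad

theorem derivation_mem_pow {A R : Type u} [CommRing A] [CommRing R] [Algebra A R] (D : Derivation A R R)
    (I : Ideal R) (n : ℕ) {x : R} (hx : x ∈ I ^ (n + 1)) : D x ∈ I ^ n := by
  induction n generalizing x with
  | zero => simp
  | succ n ih =>
    rw [pow_succ] at hx
    induction hx using Submodule.mul_induction_on' with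
    | mem_mul_mem a ha b hb =>
      rw [Derivation.leibniz, smul_eq_mul, smul_eq_mul]
      refine add_mem (Ideal.mul_mem_right _ _ ha) ?_
      rw [pow_succ', ]
      exact Ideal.mul_mem_mul hb (ih ha)
    | add a _ b _ ha hb => rw [map_add]; exact add_mem ha hb

theorem derivation_mem_map {A R : Type u} [CommRing A] [CommRing R] [Algebra A R] (D : Derivation A R R)
    (I : Ideal A) {x : R} (hx : x ∈ I.map (algebraMap A R)) : D x ∈ I.map (algebraMap A R) := by
  induction hx using Submodule.span_induction with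
  | mem z hz =>
    obtain ⟨a, -, rfl⟩ := hz
    simp
  | zero => simp
  | add y z _ _ hy hz => rw [map_add]; exact add_mem hy hz
  | smul c z hz' hz =>
    rw [smul_eq_mul, Derivation.leibniz, smul_eq_mul, smul_eq_mul]
    exact add_mem (Ideal.mul_mem_left _ _ hz) (Ideal.mul_mem_right _ _ hz')

theorem derivation_quadEval {A R : Type u} [CommRing A] [CommRing R] [Algebra A R] (D : Derivation A R R) {N : ℕ}
    (a : Fin N → Fin N → A) (v : Fin N → R) :
    D (VanCyc.quadEval (fun i j => algebraMap A R (a i j)) v) =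
      (fun l => D (v l)) ⬝ᵥ (VanCyc.polarMatrix fun i j => algebraMap A R (a i j)) *ᵥ v := by
  rw [polarMatrix_eq, add_mulVec, dotProduct_add, dotProduct_mulVec (fun l => D (v l)) _ᵀ, vecMul_transpose,
    dotProduct_comm (_ *ᵥ fun l => D (v l)) v, quadEval_eq]
  simp only [dotProduct, Matrix.mulVec, Finset.mul_sum, map_sum, ← Finset.sum_add_distrib]
  refine Finset.sum_congr rfl fun i _ => Finset.sum_congr rfl fun j _ => ?_
  simp only [upper, Matrix.of_apply]
  split_ifs <;> simp only [Derivation.leibniz, Derivation.map_algebraMap, smul_eq_mul, map_zero] <;> ring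

namespace IsPolyHens

variable {A : Type u} [CommRing A] [HenselianLocalRing A] {N : ℕ} {R : Type u} [CommRing R] [IsLocalRing R]
  [Algebra A R] {X : Fin N → R} (h : IsPolyHens A R X)
include h

theorem sq_le : maximalIdeal R ^ 2 ≤ (maximalIdeal A).map (algebraMap A R) ⊔ maximalIdeal R * Ideal.span (Set.range X) := by
  rw [pow_two]
  conv_lhs => arg 2; rw [h.maximal_eq]
  rw [Ideal.mul_sup]
  exact sup_le_sup (Ideal.mul_le.2 fun _ _ _ hy => Ideal.mul_mem_left _ _ hy) le_rfl

/-- Elements congruent to an invertible combination of the variables generate the maximal ideal. -/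
theorem le_span_of_congr (M : Matrix (Fin N) (Fin N) R) (hM : IsUnit M.det) (G : Fin N → R)
    (hG : ∀ i, G i - (M *ᵥ X) i ∈ maximalIdeal R ^ 2 ⊔ (maximalIdeal A).map (algebraMap A R)) :
    maximalIdeal R ≤ (maximalIdeal A).map (algebraMap A R) ⊔ Ideal.span (Set.range G) := by
  rw [h.maximal_eq]
  refine sup_le le_sup_left (Submodule.le_of_le_smul_of_le_jacobson_bot (I := maximalIdeal R)
    (Submodule.fg_span (Set.finite_range X)) (maximalIdeal_le_jacobson _) (Ideal.span_le.2 ?_))
  rintro _ ⟨i, rfl⟩
  set E : Fin N → R := fun j => G j - (M *ᵥ X) j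
  have hX : X i = (M⁻¹ *ᵥ G) i - (M⁻¹ *ᵥ E) i := by
    have : E = G - M *ᵥ X := rfl
    rw [this, mulVec_sub, mulVec_mulVec, Matrix.nonsing_inv_mul _ hM, one_mulVec, Pi.sub_apply, sub_sub_cancel]
  show X i ∈ ((maximalIdeal A).map (algebraMap A R) ⊔ Ideal.span (Set.range G)) ⊔
    maximalIdeal R • Ideal.span (Set.range X)
  rw [hX, smul_eq_mul]
  refine sub_mem (Ideal.mem_sup_left (Ideal.mem_sup_right ?_)) ?_
  · simp only [Matrix.mulVec, dotProduct]
    exact Ideal.sum_mem _ fun j _ => Ideal.mul_mem_left _ _ (Ideal.subset_span ⟨j, rfl⟩)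
  simp only [Matrix.mulVec, dotProduct]
  refine Ideal.sum_mem _ fun j _ => Ideal.mul_mem_left _ _ ?_
  have h1 : maximalIdeal R ^ 2 ⊔ (maximalIdeal A).map (algebraMap A R) ≤
      ((maximalIdeal A).map (algebraMap A R) ⊔ Ideal.span (Set.range G)) ⊔ maximalIdeal R * Ideal.span (Set.range X) :=
    sup_le (h.sq_le.trans (sup_le_sup le_sup_left le_rfl)) (le_sup_left.trans le_sup_left)
  exact h1 (hG j)

/-- A function with a non-degenerate quadratic leading part is, after a change of variables, a quadratic form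
with coefficients in the base plus a constant. -/
theorem exists_normal_form {a : Fin N → Fin N → A} (ha : VanCyc.QuadNondeg a) {F : R} (hF : F ∈ maximalIdeal R)
    (hFa : F - VanCyc.quadEval (fun i j => algebraMap A R (a i j)) X ∈
      maximalIdeal R ^ 3 ⊔ (maximalIdeal A).map (algebraMap A R)) :
    ∃ (a' : Fin N → Fin N → A) (b : A) (σ : R ≃ₐ[A] R), VanCyc.QuadNondeg a' ∧ b ∈ maximalIdeal A ∧
      σ (VanCyc.quadEval (fun i j => algebraMap A R (a' i j)) X - algebraMap A R b) = F := by
  classical
  haveI := h.henselian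
  haveI := h.local_hom
  haveI : IsLocalHom (algebraMap A A) := ⟨fun _ hx => hx⟩
  choose D hD using h.exists_pderiv
  let G : Fin N → R := fun i => D i F
  let M : Matrix (Fin N) (Fin N) R := VanCyc.polarMatrix fun i j => algebraMap A R (a i j)
  have hMmap : M = (VanCyc.polarMatrix a).map (algebraMap A R) := by
    ext i j
    simp only [M, VanCyc.polarMatrix, Matrix.map_apply]
    split_ifs <;> simp [map_ofNat]
  have hM : IsUnit M.det := by
    rw [hMmap, ← RingHom.mapMatrix_apply, ← RingHom.map_det]
    exact ha.map _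
  have hG : ∀ i, G i - (M *ᵥ X) i ∈ maximalIdeal R ^ 2 ⊔ (maximalIdeal A).map (algebraMap A R) := fun i => by
    obtain ⟨u, hu, v, hv, huv⟩ := Submodule.mem_sup.1 hFa
    have e : G i - (M *ᵥ X) i = D i u + D i v := by
      rw [← map_add, huv, map_sub, derivation_quadEval]
      have : (fun l => D i (X l)) = Pi.single i 1 := funext fun l => hD i l
      rw [this, single_one_dotProduct]
    rw [e]
    exact Submodule.add_mem_sup (derivation_mem_pow _ _ 2 hu) (derivation_mem_map _ _ hv)
  have hIm : (maximalIdeal A).map (algebraMap A R) ≤ maximalIdeal R := (sup_le_iff.1 h.maximal_eq.symm.le).1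
  have hGm : ∀ i, G i ∈ maximalIdeal R := fun i => by
    have h1 : (M *ᵥ X) i ∈ maximalIdeal R := Ideal.sum_mem _ (t := Finset.univ) fun j _ => Ideal.mul_mem_left _ _ (h.X_mem j)
    simpa using add_mem (sup_le (Ideal.pow_le_self two_ne_zero) hIm (hG i)) h1
  obtain ⟨ω, hω, -⟩ := h.univ R G hGm
  have hωb := h.bijective_of_generators ω (fun i => (hω i).symm ▸ hGm i) (by
    have : (fun i => ω (X i)) = G := funext hω
    rw [this]
    exact h.le_span_of_congr M hM G hG)
  obtain ⟨s0, hs0, -⟩ := h.exists_section (fun _ => (0 : A)) fun _ => zero_mem _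
  let ωe := AlgEquiv.ofBijective ω hωb
  let s : R →ₐ[A] A := s0.comp ωe.symm.toAlgHom
  have hsG : ∀ i, s (G i) = 0 := fun i => by
    rw [AlgHom.comp_apply]
    have : ωe.symm (G i) = X i := by rw [AlgEquiv.symm_apply_eq]; exact (hω i).symm
    show s0 (ωe.symm (G i)) = 0
    rw [this, hs0]
  let t : Fin N → A := fun i => s (X i)
  have ht : ∀ i, t i ∈ maximalIdeal A := fun i => by
    refine h.map_mem s0 (fun j => by rw [hs0]; exact zero_mem _) ?_
    rw [mem_maximalIdeal, mem_nonunits_iff]
    intro hu
    have := hu.map ωe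
    change IsUnit (ωe (ωe.symm (X i))) at this
    rw [ωe.apply_symm_apply] at this
    exact (mem_maximalIdeal _).1 (h.X_mem i) this
  obtain ⟨s', hs', hker⟩ := h.exists_section t ht
  have hss : s' = s := h.hom_ext (fun i => by rw [hs']; exact ht i) fun i => hs' i
  rw [hss] at hker
  let T : Fin N → R := fun i => X i - algebraMap A R (t i)
  have hsT : ∀ i, s (T i) = 0 := fun i => by simp [T, t]
  have hkerT : ∀ x, s x = 0 → ∃ c : Fin N → R, ∑ i, c i * T i = x := fun x hx =>
    Ideal.mem_span_range_iff_exists_fun.1 (hker ▸ (show x ∈ RingHom.ker s from hx))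
  obtain ⟨l, hl⟩ := hkerT (F - algebraMap A R (s F)) (by simp)
  have hDT : ∀ i j, D i (T j) = Pi.single (M := fun _ => R) i 1 j := fun i j => by simp [T, hD]
  have hsl : ∀ i, s (l i) = 0 := fun i => by
    have h1 : D i F = D i (∑ j, l j * T j) := by rw [hl, map_sub, Derivation.map_algebraMap, sub_zero]
    have h2 := hsG i
    simp only [G, h1, map_sum, Derivation.leibniz, smul_eq_mul, map_add, map_mul, hsT, hDT, zero_mul, add_zero,
      Pi.single_apply, apply_ite s, map_one, map_zero, mul_ite, mul_one, mul_zero, Finset.sum_ite_eq',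
      Finset.mem_univ, if_true] at h2
    exact h2
  choose r hr using fun i => hkerT (l i) (hsl i)
  let r0 : Matrix (Fin N) (Fin N) R := Matrix.of r
  have hFT : F = algebraMap A R (s F) + T ⬝ᵥ r0 *ᵥ T := by
    rw [← sub_eq_iff_eq_add', ← hl]
    simp only [dotProduct, Matrix.mulVec, r0, Matrix.of_apply]
    exact Finset.sum_congr rfl fun i _ => by rw [hr, mul_comm]
  let rs : Matrix (Fin N) (Fin N) A := r0.map s
  let a' : Fin N → Fin N → A := fun i j => if hij : i ≤ j then up rs ⟨(i, j), hij⟩ else 0
  have hpolar : VanCyc.polarMatrix a' = rs + rsᵀ := by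
    ext i j
    simp only [VanCyc.polarMatrix, Matrix.add_apply, Matrix.transpose_apply, a', up]
    rcases lt_trichotomy i j with hij | rfl | hij
    · rw [if_neg hij.ne, if_pos hij, dif_pos hij.le, if_neg hij.ne]
    · simp [two_mul]
    · rw [if_neg hij.ne', if_neg hij.not_gt, dif_pos hij.le, if_neg hij.ne, add_comm]
  have hsDD : ∀ i j, s (D j (G i)) = rs i j + rs j i := fun i j => by
    have h1 : G i = ∑ p, ∑ q, (D i (r p q) * (T p * T q) +
        r p q * (Pi.single (M := fun _ => R) i 1 p * T q + T p * Pi.single (M := fun _ => R) i 1 q)) := by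
      show D i F = _
      rw [hFT, map_add, Derivation.map_algebraMap, zero_add]
      simp only [dotProduct, Matrix.mulVec, r0, Matrix.of_apply, Finset.mul_sum, map_sum, Derivation.leibniz,
        smul_eq_mul, hDT]
      exact Finset.sum_congr rfl fun p _ => Finset.sum_congr rfl fun q _ => by ring
    rw [h1]
    simp only [map_sum, map_add, map_mul, Derivation.leibniz, smul_eq_mul, hsT, hDT, mul_zero, zero_mul, add_zero,
      zero_add, Pi.single_apply, apply_ite (D j), apply_ite s, map_one, map_zero, Derivation.map_one_eq_zero, mul_ite,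
      ite_mul, mul_one, one_mul, ite_self]
    simp [Finset.sum_add_distrib, mul_add, mul_ite, rs, r0]
  have ha' : VanCyc.QuadNondeg a' := by
    show IsUnit _
    rw [hpolar]
    refine isUnit_of_map_unit (residue A) _ ?_
    rw [RingHom.map_det]
    have : (residue A).mapMatrix (rs + rsᵀ) = (residue A).mapMatrix (VanCyc.polarMatrix a) := by
      ext i j
      simp only [RingHom.mapMatrix_apply, Matrix.map_apply, Matrix.add_apply, Matrix.transpose_apply]
      rw [← hsDD i j, ← sub_eq_zero, ← map_sub, residue_eq_zero_iff]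
      have e : s (D j (G i)) - VanCyc.polarMatrix a i j = s (D j (G i - (M *ᵥ X) i)) := by
        rw [map_sub, map_sub]
        congr 1
        have : D j ((M *ᵥ X) i) = M i j := by
          simp [Matrix.mulVec, dotProduct, hMmap, hD, Pi.single_apply]
        rw [this, hMmap, Matrix.map_apply, AlgHom.commutes]
        rfl
      rw [e]
      refine h.map_mem s ht ?_
      obtain ⟨u, hu, v, hv, huv⟩ := Submodule.mem_sup.1 (hG i)
      rw [← huv, map_add]
      have h1 := derivation_mem_pow (D j) (maximalIdeal R) 1 hu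
      rw [pow_one] at h1
      exact add_mem h1 (hIm (derivation_mem_map _ _ hv))
    rw [this, ← RingHom.map_det]
    exact ha.map _
  let aR : Fin N → Fin N → R := fun i j => algebraMap A R (a' i j)
  have haR : VanCyc.QuadNondeg aR := by
    have : VanCyc.polarMatrix aR = (VanCyc.polarMatrix a').map (algebraMap A R) := by
      ext i j
      simp only [aR, VanCyc.polarMatrix, Matrix.map_apply]
      split_ifs <;> simp [map_ofNat]
    show IsUnit _
    rw [this, ← RingHom.mapMatrix_apply, ← RingHom.map_det]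
    exact ha'.map _
  have hsmall : ∀ i j, (r0 - rs.map (algebraMap A R)) i j ∈ maximalIdeal R := fun i j => by
    have : (r0 - rs.map (algebraMap A R)) i j ∈ RingHom.ker s := by
      simp [rs]
    rw [hker] at this
    exact (Ideal.span_le.2 (by rintro _ ⟨l, rfl⟩; exact sub_mem (h.X_mem l) (h.algebraMap_mem (ht l)))) this
  obtain ⟨g, hg, hgT⟩ := exists_mulVec_eq haR (r0 - rs.map (algebraMap A R)) hsmall T
  have hrsT : VanCyc.quadEval aR T = T ⬝ᵥ (rs.map (algebraMap A R)) *ᵥ T := by
    rw [quadEval_eq, dotProduct_mulVec_self, dotProduct_mulVec_self]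
    refine Finset.sum_congr rfl fun p _ => ?_
    rw [← up_map]
    congr 1
    have e : upper aR p.1.1 p.1.2 = algebraMap A R (up rs p) := by
      simp [upper, aR, a', p.2]
    rw [up_map] at e ⊢
    by_cases h1 : p.1.1 = p.1.2
    · conv_lhs => rw [up, if_pos h1]
      exact e
    · have h2 : ¬ p.1.2 ≤ p.1.1 := fun hle => h1 (le_antisymm p.2 hle)
      have h0 : upper aR p.1.2 p.1.1 = 0 := by simp [upper, h2]
      conv_lhs => rw [up, if_neg h1, h0, add_zero]
      exact e
  let Y := g *ᵥ T
  have hFY : F = algebraMap A R (s F) + VanCyc.quadEval aR Y := by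
    rw [hgT, hrsT, sub_mulVec, dotProduct_sub, add_sub_cancel]
    exact hFT
  have hTm : ∀ i, T i ∈ maximalIdeal R := fun i => sub_mem (h.X_mem i) (h.algebraMap_mem (ht i))
  have hYT : ∀ i, Y i - (1 *ᵥ X) i ∈ maximalIdeal R ^ 2 ⊔ (maximalIdeal A).map (algebraMap A R) := fun i => by
    have e : Y i - (1 *ᵥ X) i = ((g - 1) *ᵥ T) i + -algebraMap A R (t i) := by
      rw [sub_mulVec, Pi.sub_apply, one_mulVec, one_mulVec]
      show Y i - X i = Y i - (X i - algebraMap A R (t i)) + -algebraMap A R (t i)
      ring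
    rw [e]
    refine Submodule.add_mem_sup ?_ (neg_mem (Ideal.mem_map_of_mem _ (ht i)))
    rw [pow_two]
    exact Ideal.sum_mem _ (t := Finset.univ) fun j _ => Ideal.mul_mem_mul (hg i j) (hTm j)
  have hYm : ∀ i, Y i ∈ maximalIdeal R := fun i => Ideal.sum_mem _ (t := Finset.univ) fun j _ => Ideal.mul_mem_left _ _ (hTm j)
  obtain ⟨σ, hσ, -⟩ := h.univ R Y hYm
  have hσb := h.bijective_of_generators σ (fun i => (hσ i).symm ▸ hYm i) (by
    rw [show (fun i => σ (X i)) = Y from funext hσ]
    exact h.le_span_of_congr 1 (by simp) Y hYT)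
  refine ⟨a', -s F, AlgEquiv.ofBijective σ hσb, ha', neg_mem (h.map_mem s ht hF), ?_⟩
  show σ _ = F
  rw [map_sub, AlgHom.commutes, map_neg, sub_neg_eq_add]
  conv_rhs => rw [hFY, add_comm]
  congr 1
  show σ.toRingHom _ = _
  rw [map_quadEval]
  simp [hσ, aR]

end IsPolyHens

end Groth.Agent.H9Quad
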