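import Groth.Agent.H9Quad.GeometricPoint
import Groth.Agent.H9Quad.NormalForm
import Groth.Agent.S0510

/-!
A geometric quadratic point of the closed fibre of a finitely presented flat algebra as a map of its
henselization to a hypersurface in power series.
-/

universe u

open IsLocalRing TensorProduct Matrix

namespace Groth.Agent.H9Quad

/-- An isomorphism of the completion of a local algebra with a hypersurface in power series. -/
abbrev CompletionIso (kb : Type u) [Field kb] (O : Type u) [CommRing O] [IsLocalRing O] [Algebra kb O] {N : ℕ}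
    (f : MvPowerSeries (Fin N) kb) : Type u :=
  AdicCompletion (maximalIdeal O) O ≃ₐ[kb] (MvPowerSeries (Fin N) kb ⧸ Ideal.span {f})

theorem dotProduct_polar {R : Type u} [CommRing R] {N : ℕ} (a : Fin N → Fin N → R) (v w : Fin N → R) :
    v ⬝ᵥ VanCyc.polarMatrix a *ᵥ w = VanCyc.quadEval a (v + w) - VanCyc.quadEval a v - VanCyc.quadEval a w := by
  rw [polarMatrix_eq, add_mulVec, dotProduct_add, dotProduct_mulVec v _ᵀ, vecMul_transpose,
    dotProduct_comm (_ *ᵥ v) w, quadEval_eq, quadEval_eq, quadEval_eq, mulVec_add, dotProduct_add, add_dotProduct,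
    add_dotProduct]
  ring

theorem polar_eq_of_quadEval {R : Type u} [CommRing R] {N : ℕ} {a a' : Fin N → Fin N → R}
    {L : Matrix (Fin N) (Fin N) R} (h : ∀ v, VanCyc.quadEval a v = VanCyc.quadEval a' (L *ᵥ v)) :
    VanCyc.polarMatrix a = Lᵀ * VanCyc.polarMatrix a' * L := by
  ext i j
  have h1 := dotProduct_polar a (Pi.single i 1) (Pi.single j 1)
  rw [single_one_dotProduct, mulVec_single_one] at h1
  refine h1.trans ?_
  rw [h, h, h, mulVec_add, ← dotProduct_polar]
  rw [Matrix.mul_assoc, Matrix.mul_apply_eq_vecMul, vecMul]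
  simp [dotProduct, Matrix.mulVec, Matrix.mul_apply, Matrix.transpose_apply, Pi.single_apply]

section

variable {A : Type u} [CommRing A] [HenselianLocalRing A] {B₀ : Type u} [CommRing B₀] [Algebra A B₀]
  (P : Ideal B₀) [P.IsMaximal]

local notation "Bl" => Localization.AtPrime P

omit [P.IsMaximal] in
theorem isLocalHom_loc [P.IsPrime] (hP : (maximalIdeal A).map (algebraMap A B₀) ≤ P) :
    IsLocalHom (algebraMap A (Localization.AtPrime P)) :=
  ((local_hom_TFAE _).out 0 2).mpr (Ideal.map_le_iff_le_comap.2 fun a ha => by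
    rw [Ideal.mem_comap, IsScalarTower.algebraMap_apply A B₀ (Localization.AtPrime P),
      IsLocalization.AtPrime.to_map_mem_maximal_iff _ P]
    exact hP (Ideal.mem_map_of_mem _ ha))

theorem exists_sub_mem (b : Localization.AtPrime P) :
    ∃ w : B₀, b - algebraMap B₀ _ w ∈ maximalIdeal (Localization.AtPrime P) := by
  obtain ⟨w, s, rfl⟩ := IsLocalization.exists_mk'_eq P.primeCompl b
  obtain ⟨v, hv⟩ := exists_mul_sub_one_mem P s.2 1
  refine ⟨w * v, ?_⟩
  have e : IsLocalization.mk' (Localization.AtPrime P) w s - algebraMap B₀ _ (w * v) =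
      -(IsLocalization.mk' (Localization.AtPrime P) w s * algebraMap B₀ _ (v * s - 1)) := by
    rw [map_sub, map_one, mul_sub, mul_one, neg_sub, sub_right_inj, map_mul, map_mul,
      ← IsLocalization.mk'_spec (Localization.AtPrime P) w s]
    ring
  rw [e, neg_mem_iff]
  refine Ideal.mul_mem_left _ _ ?_
  rw [IsLocalization.AtPrime.to_map_mem_maximal_iff _ P]
  simpa using hv

open H02CA.PS in
theorem exists_point_map [Algebra.FinitePresentation A B₀] (hP : (maximalIdeal A).map (algebraMap A B₀) ≤ P)
    {N : ℕ} (kb : Type u) [Field kb] [Algebra (ResidueField A) kb] [Algebra.IsAlgebraic (ResidueField A) kb]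
    [Algebra (ResidueField A) (VanCyc.fibQuot A (Localization.AtPrime P))]
    (halg : algebraMap (ResidueField A) (VanCyc.fibQuot A (Localization.AtPrime P)) =
      VanCyc.fibHom A (Localization.AtPrime P))
    [IsLocalRing (VanCyc.fibQuot A (Localization.AtPrime P))]
    (hk : ∀ x : VanCyc.fibQuot A (Localization.AtPrime P), ∃ c : ResidueField A,
      x - algebraMap _ _ c ∈ maximalIdeal (VanCyc.fibQuot A (Localization.AtPrime P)))
    [IsNoetherianRing (VanCyc.fibQuot A (Localization.AtPrime P))]
    [IsNoetherianRing (kb ⊗[ResidueField A] VanCyc.fibQuot A (Localization.AtPrime P))]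
    (M : Ideal (kb ⊗[ResidueField A] VanCyc.fibQuot A (Localization.AtPrime P))) [M.IsMaximal]
    {f : MvPowerSeries (Fin N) kb} (hf : VanCyc.NoLowTerms f) (hf0 : VanCyc.quadPart f ≠ 0)
    (e : CompletionIso kb (Localization.AtPrime M) f)
    (H : Type u) [CommRing H] [IsLocalRing H] [Algebra (Localization.AtPrime P) H]
    [IsLocalHom (algebraMap (Localization.AtPrime P) H)] [hH : Hensel.IsHenselization (Localization.AtPrime P) H]
    [Algebra A H] [IsScalarTower A (Localization.AtPrime P) H] :
    ∃ (b : Fin N → Localization.AtPrime P) (f' : MvPowerSeries (Fin N) kb) (L : Matrix (Fin N) (Fin N) kb)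
      (Θ : H →+* MvPowerSeries (Fin N) kb ⧸ Ideal.span {f'}),
      (∀ i, b i ∈ maximalIdeal (Localization.AtPrime P)) ∧
      maximalIdeal H ≤ (maximalIdeal A).map (algebraMap A H) ⊔
        Ideal.span (Set.range fun i => algebraMap (Localization.AtPrime P) H (b i)) ∧
      Function.Surjective ((residue H).comp (algebraMap A H)) ∧ IsUnit L.det ∧
      (∀ v, VanCyc.quadEval (VanCyc.quadPart f) v = VanCyc.quadEval (VanCyc.quadPart f') (L *ᵥ v)) ∧
      IsQuadPtMap (algebraMap (ResidueField A) kb) (fun i => algebraMap (Localization.AtPrime P) H (b i)) f' Θ := by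
  classical
  let B := Localization.AtPrime P
  let O := VanCyc.fibQuot A B
  let k := ResidueField A
  haveI := isLocalHom_loc P hP
  haveI : HenselianLocalRing H := hH.henselian
  let mk : B →+* O := Ideal.Quotient.mk _
  have hmk : Function.Surjective mk := Ideal.Quotient.mk_surjective
  have hmkm : (maximalIdeal B).map mk = maximalIdeal O := IsLocalRing.map_maximalIdeal_of_surjective mk hmk
  have hmkker : ∀ x, mk x = 0 ↔ x ∈ (maximalIdeal A).map (algebraMap A B) := fun x => Ideal.Quotient.eq_zero_iff_mem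
  have hmkmem : ∀ x, mk x ∈ maximalIdeal O → x ∈ maximalIdeal B := fun x hx => by
    rw [mem_maximalIdeal, mem_nonunits_iff] at hx ⊢
    exact fun hu => hx (hu.map mk)
  have halg' : ∀ a, algebraMap k O (residue A a) = mk (algebraMap A B a) := fun a => by rw [halg]; rfl
  obtain ⟨bO, f', L, θ, hbO, hL, hf', hquad, hθk, hθb, hθfun⟩ := exists_coordinates hk M hf e
  choose b hb using fun i => hmk (bO i)
  have hbm : ∀ i, b i ∈ maximalIdeal B := fun i => hmkmem _ (hb i ▸ hbO.symm.le (Ideal.subset_span ⟨i, rfl⟩))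
  have hBgen : maximalIdeal B ≤ (maximalIdeal A).map (algebraMap A B) ⊔ Ideal.span (Set.range b) := fun x hx => by
    have h1 : mk x ∈ maximalIdeal O := hmkm ▸ Ideal.mem_map_of_mem mk hx
    rw [hbO, show Set.range bO = mk '' Set.range b by rw [← Set.range_comp]; exact congrArg Set.range (funext fun i => (hb i).symm),
      ← Ideal.map_span, ← Ideal.mem_comap, Ideal.comap_map_of_surjective mk hmk, ← RingHom.ker_eq_comap_bot,
      Ideal.mk_ker, sup_comm] at h1
    exact h1
  have hgenH : maximalIdeal H ≤ (maximalIdeal A).map (algebraMap A H) ⊔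
      Ideal.span (Set.range fun i => algebraMap B H (b i)) := by
    rw [← S0507.result B H]
    refine (Ideal.map_mono hBgen).trans ?_
    rw [Ideal.map_sup, Ideal.map_map, ← IsScalarTower.algebraMap_eq, Ideal.map_span, ← Set.range_comp]
    rfl
  have hresH : Function.Surjective ((residue H).comp (algebraMap A H)) := fun q => by
    obtain ⟨v, rfl⟩ := (S0508.result B H).2 q
    obtain ⟨x, rfl⟩ := residue_surjective v
    obtain ⟨c, hc⟩ := hk (mk x)
    obtain ⟨a, rfl⟩ := residue_surjective c
    refine ⟨a, ?_⟩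
    rw [ResidueField.map_residue, RingHom.comp_apply, IsScalarTower.algebraMap_apply A B H]
    refine (Ideal.Quotient.eq.2 ?_).symm
    rw [← map_sub]
    refine map_nonunit _ _ (hmkmem _ ?_)
    rw [map_sub, ← halg']
    exact hc
  -- the target is henselian
  let S := MvPowerSeries (Fin N) kb
  let V := vars (Fin N) kb
  have hVS : maximalIdeal S = V := maximalIdeal_eq_vars
  haveI hSh : HenselianLocalRing S := by
    haveI hc : IsAdicComplete V S := inferInstanceAs
      (IsAdicComplete (Ideal.span (Set.range (MvPowerSeries.X : Fin N → S))) S)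
    haveI : HenselianRing S (maximalIdeal S) := by rw [hVS]; infer_instance
    exact H9Hens.henselianLocalRing_of_henselianRing
  have hf'2 := mem_sq_of_noLow hf'
  haveI : Nontrivial (S ⧸ Ideal.span {f'}) := by
    rw [Ideal.Quotient.nontrivial_iff]
    exact (((Ideal.span_singleton_le_iff_mem _).2 (hVS.symm.le (Ideal.pow_le_self two_ne_zero hf'2))).trans_lt
      (maximalIdeal.isMaximal S).ne_top.lt_top).ne
  haveI : IsLocalRing (S ⧸ Ideal.span {f'}) := IsLocalRing.of_surjective' _ Ideal.Quotient.mk_surjective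
  haveI : HenselianLocalRing (S ⧸ Ideal.span {f'}) := H9Hens.henselianLocalRing_quotient _
  have hmT := maximalIdeal_quot_eq (Ideal.pow_le_self two_ne_zero hf'2)
  have hθm : ∀ x ∈ maximalIdeal O, θ x ∈ maximalIdeal (S ⧸ Ideal.span {f'}) := fun x hx => by
    have : (maximalIdeal O).map θ ≤ maximalIdeal (S ⧸ Ideal.span {f'}) := by
      rw [hbO, Ideal.map_span, Ideal.span_le]
      rintro _ ⟨_, ⟨i, rfl⟩, rfl⟩
      rw [SetLike.mem_coe, hθb, hmT]
      exact Ideal.mem_map_of_mem _ (Ideal.subset_span ⟨i, rfl⟩)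
    exact this (Ideal.mem_map_of_mem _ hx)
  have hloc : IsLocalHom (θ.comp mk) := ((local_hom_TFAE _).out 0 2).mpr (by
    rw [Ideal.map_le_iff_le_comap]
    intro x hx
    exact hθm _ (hmkm ▸ Ideal.mem_map_of_mem mk hx))
  obtain ⟨Θ, hΘ, -⟩ := hH.universal (S ⧸ Ideal.span {f'}) (θ.comp mk) hloc
  have hΘB : ∀ x, Θ (algebraMap B H x) = θ (mk x) := fun x => RingHom.congr_fun hΘ x
  refine ⟨b, f', L, Θ, hbm, hgenH, hresH, hL, hquad, hf', ?_, fun a => ?_, fun i => ?_, ?_⟩
  · intro h0
    apply hf0
    ext i j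
    have hall : ∀ v, VanCyc.quadEval (VanCyc.quadPart f) v = 0 := fun v => by
      rw [hquad, h0]; simp [VanCyc.quadEval]
    rcases lt_trichotomy i j with hij | rfl | hij
    · have h2 := dotProduct_polar (VanCyc.quadPart f) (Pi.single i 1) (Pi.single j 1)
      rw [hall, hall, hall, single_one_dotProduct, mulVec_single_one] at h2
      simpa [VanCyc.polarMatrix, hij.ne, hij] using h2
    · have h2 := hall (Pi.single i 1)
      rw [quadEval_eq, single_one_dotProduct, mulVec_single_one] at h2
      simpa [upper] using h2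
    · simp [VanCyc.quadPart, hij.ne', hij.not_gt]
  · rw [IsScalarTower.algebraMap_apply A B H, hΘB, ← halg', hθk]
  · rw [hΘB, hb, hθb]
  intro r lam hsemi hlam
  have hlam0 : ∀ a ∈ maximalIdeal A, ∀ x, lam (algebraMap A H a * x) = 0 := fun a ha x => by
    rw [hsemi, (residue_eq_zero_iff a).2 ha, zero_mul]
  have hwd : ∀ x ∈ (maximalIdeal A).map (algebraMap A B), lam (algebraMap B H x) = 0 := fun x hx => by
    have key : ∀ y : H, lam (algebraMap B H x * y) = 0 := by
      induction hx using Submodule.span_induction with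
      | mem z hz =>
        obtain ⟨a, ha, rfl⟩ := hz
        intro y
        rw [← IsScalarTower.algebraMap_apply, hlam0 a ha]
      | zero => simp
      | add z z' _ _ h h' => intro y; rw [map_add, add_mul, map_add, h, h', add_zero]
      | smul c z _ h => intro y; rw [smul_eq_mul, map_mul (algebraMap B H), mul_comm (algebraMap B H c), mul_assoc, h]
    simpa using key 1
  let lB : B →+ k := lam.comp (algebraMap B H).toAddMonoidHom
  let lO0 : O →+ k := QuotientAddGroup.lift _ lB fun x hx => hwd x hx
  have hlO0 : ∀ x, lO0 (mk x) = lam (algebraMap B H x) := fun x => rfl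
  let lO : O →ₗ[k] kb :=
    { toFun := fun o => algebraMap k kb (lO0 o)
      map_add' := fun o o' => by rw [map_add, map_add]
      map_smul' := fun c o => by
        obtain ⟨a, rfl⟩ := residue_surjective c
        obtain ⟨x, rfl⟩ := hmk o
        rw [Algebra.smul_def, halg', ← map_mul, hlO0, map_mul, ← IsScalarTower.algebraMap_apply, hsemi, map_mul,
          RingHom.id_apply, Algebra.smul_def, hlO0] }
  obtain ⟨lamb, hl1, hl2, hl3⟩ := hθfun r lO fun o ho => by
    have h1 : o ∈ (maximalIdeal B ^ r).map mk := by rwa [Ideal.map_pow, hmkm]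
    obtain ⟨x, hx, rfl⟩ := (Ideal.mem_map_iff_of_surjective mk hmk).1 h1
    show algebraMap k kb (lO0 (mk x)) = 0
    rw [hlO0, hlam, map_zero]
    have := Ideal.mem_map_of_mem (algebraMap B H) hx
    rwa [Ideal.map_pow, S0507.result B H] at this
  refine ⟨lamb, hl1, hl2, fun x => ?_⟩
  obtain ⟨q, hq⟩ := (S0510.result B H r).2 (Ideal.Quotient.mk _ x)
  obtain ⟨z, rfl⟩ := Ideal.Quotient.mk_surjective q
  rw [Ideal.quotientMap_mk, Ideal.Quotient.eq, Ideal.map_pow, S0507.result B H] at hq
  have h1 : lamb (Θ (algebraMap B H z - x)) = 0 := by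
    refine hl2 _ ?_
    rw [← hmT]
    have hΘm : (maximalIdeal H).map Θ ≤ maximalIdeal (S ⧸ Ideal.span {f'}) := by
      rw [← S0507.result B H, Ideal.map_map, hΘ]
      exact ((local_hom_TFAE _).out 0 2).mp hloc
    have := Ideal.mem_map_of_mem Θ hq
    rw [Ideal.map_pow] at this
    exact Ideal.pow_right_mono hΘm r this
  rw [map_sub, map_sub, sub_eq_zero, hΘB, hl3] at h1
  rw [← h1]
  show algebraMap k kb (lO0 (mk z)) = _
  rw [hlO0]
  have h2 := hlam _ hq
  rw [map_sub, sub_eq_zero] at h2
  rw [h2]

end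

end Groth.Agent.H9Quad
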