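import Mathlib
import Groth.Prelude.Def_QuadSing
import Groth.Agent.H9Quad.Surj
import Groth.Agent.S0511
import Groth.Agent.H9Hens.BranchNormal
import Groth.Agent.H9Hens.StrictTensor

/-!
The henselization of a polynomial ring over a henselian local ring at the origin: universal property,
automorphisms, sections, partial derivatives.
-/

universe u

open IsLocalRing MvPolynomial

namespace Groth.Agent.H9Quad

/-- `R` with the elements `X` is the henselization of `A[X]` at the origin of the closed fibre. -/
structure IsPolyHens (A : Type u) [CommRing A] [IsLocalRing A] {N : ℕ} (R : Type u) [CommRing R] [IsLocalRing R]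
    [Algebra A R] (X : Fin N → R) : Prop where
  henselian : HenselianLocalRing R
  local_hom : IsLocalHom (algebraMap A R)
  maximal_eq : maximalIdeal R = (maximalIdeal A).map (algebraMap A R) ⊔ Ideal.span (Set.range X)
  res_surj : Function.Surjective ((residue R).comp (algebraMap A R))
  univ : ∀ (T : Type u) [CommRing T] [HenselianLocalRing T] [Algebra A T] [IsLocalHom (algebraMap A T)]
    (y : Fin N → T), (∀ i, y i ∈ maximalIdeal T) → ∃! φ : R →ₐ[A] T, ∀ i, φ (X i) = y i
  eft : H8Props.HensEFT.IsHensEFT A R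
  flat : Module.Flat A R

theorem originIdeal_eq (A : Type u) [CommRing A] [IsLocalRing A] {N : ℕ} :
    (VanCyc.originIdeal A : Ideal (MvPolynomial (Fin N) A)) = (maximalIdeal A).comap constantCoeff := by
  refine le_antisymm (sup_le (Ideal.map_le_iff_le_comap.2 fun a ha => ?_) (Ideal.span_le.2 ?_)) fun p hp => ?_
  · simpa [Ideal.mem_comap] using ha
  · rintro _ ⟨i, rfl⟩
    simp
  · rw [Ideal.mem_comap] at hp
    rw [show p = C (constantCoeff p) + (p - C (constantCoeff p)) by ring]
    refine Submodule.add_mem_sup (Ideal.mem_map_of_mem _ hp) ?_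
    rw [← pow_one (Ideal.span _), ← MvPolynomial.idealOfVars, mem_pow_idealOfVars_iff']
    intro d hd
    have : d = 0 := (Finsupp.degree_eq_zero_iff d).mp (Nat.lt_one_iff.mp hd)
    subst this
    simp [constantCoeff_eq]

theorem exists_polyHens (A : Type u) [CommRing A] [HenselianLocalRing A] (N : ℕ) :
    ∃ (R : Type u) (_ : CommRing R) (_ : IsLocalRing R) (_ : Algebra A R) (X : Fin N → R), IsPolyHens A R X := by
  haveI hmax : (VanCyc.originIdeal A : Ideal (MvPolynomial (Fin N) A)).IsMaximal := by
    rw [originIdeal_eq]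
    exact Ideal.comap_isMaximal_of_surjective _ fun a => ⟨C a, by simp⟩
  let P : Ideal (MvPolynomial (Fin N) A) := VanCyc.originIdeal A
  let S := Localization.AtPrime P
  have hPmem : ∀ q, q ∈ P ↔ constantCoeff q ∈ maximalIdeal A := fun q =>
    (SetLike.ext_iff.1 (originIdeal_eq A) q).trans Ideal.mem_comap
  obtain ⟨R, _, _, _, _, hR⟩ := S0506.result S
  letI algAR : Algebra A R := ((algebraMap S R).comp (algebraMap A S)).toAlgebra
  haveI : IsScalarTower A S R := IsScalarTower.of_algebraMap_eq fun _ => rfl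
  let Xv : Fin N → R := fun i => algebraMap S R (algebraMap (MvPolynomial (Fin N) A) S (X i))
  have hPm : ∀ a ∈ maximalIdeal A, algebraMap A (MvPolynomial (Fin N) A) a ∈ P := fun a ha =>
    Ideal.mem_sup_left (Ideal.mem_map_of_mem _ ha)
  have hloc : IsLocalHom (algebraMap A R) := ((local_hom_TFAE _).out 0 2).mpr (Ideal.map_le_iff_le_comap.2 fun a ha => by
    rw [Ideal.mem_comap, IsScalarTower.algebraMap_apply A S R, ← S0507.result S R]
    refine Ideal.mem_map_of_mem _ ?_
    rw [IsScalarTower.algebraMap_apply A (MvPolynomial (Fin N) A) S, IsLocalization.AtPrime.to_map_mem_maximal_iff S P]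
    exact hPm a ha)
  have hmax : maximalIdeal R = (maximalIdeal A).map (algebraMap A R) ⊔ Ideal.span (Set.range Xv) := by
    rw [← S0507.result S R, ← Localization.AtPrime.map_eq_maximalIdeal, Ideal.map_map]
    show (VanCyc.originIdeal A).map _ = _
    rw [VanCyc.originIdeal, Ideal.map_sup, Ideal.map_map, Ideal.map_span, ← Set.range_comp]
    rfl
  haveI : HenselianLocalRing R := hR.henselian
  refine ⟨R, inferInstance, inferInstance, inferInstance, Xv, inferInstance, hloc, hmax, ?_, ?_, ?_, ?_⟩
  · intro w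
    obtain ⟨v, rfl⟩ := (S0508.result S R).2 w
    obtain ⟨s, rfl⟩ := residue_surjective v
    obtain ⟨p, t, rfl⟩ := IsLocalization.exists_mk'_eq P.primeCompl s
    have hc : ∀ q : MvPolynomial (Fin N) A, residue R (algebraMap S R (algebraMap _ S q)) =
        residue R (algebraMap A R (constantCoeff q)) := fun q => by
      rw [← sub_eq_zero, ← map_sub, residue_eq_zero_iff, IsScalarTower.algebraMap_apply A S R,
        IsScalarTower.algebraMap_apply A (MvPolynomial (Fin N) A) S, ← map_sub, ← map_sub, ← S0507.result S R]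
      refine Ideal.mem_map_of_mem _ ?_
      rw [IsLocalization.AtPrime.to_map_mem_maximal_iff S P]
      show q - C (constantCoeff q) ∈ VanCyc.originIdeal A
      rw [originIdeal_eq, Ideal.mem_comap, map_sub, constantCoeff_C, sub_self]
      exact zero_mem _
    have ht : IsUnit (constantCoeff (t : MvPolynomial (Fin N) A)) := by
      by_contra h
      exact t.2 ((hPmem _).2 ((mem_maximalIdeal _).2 h))
    refine ⟨constantCoeff p * ↑ht.unit⁻¹, ?_⟩
    rw [ResidueField.map_residue]
    have h1 := congrArg (fun x => residue R (algebraMap S R x)) (IsLocalization.mk'_spec S p t)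
    simp only [map_mul, hc] at h1
    rw [RingHom.comp_apply, map_mul, map_mul, ← h1, mul_assoc]
    have h2 : residue R (algebraMap A R (constantCoeff (t : MvPolynomial (Fin N) A))) *
        residue R (algebraMap A R ↑ht.unit⁻¹) = 1 := by
      rw [← map_mul, ← map_mul, ht.mul_val_inv, map_one, map_one]
    rw [h2, mul_one]
  · intro T _ _ _ _ y hy
    let g : MvPolynomial (Fin N) A →ₐ[A] T := aeval y
    have hgP : ∀ p ∈ P, g p ∈ maximalIdeal T := by
      show P ≤ (maximalIdeal T).comap g
      refine sup_le (Ideal.map_le_iff_le_comap.2 fun a ha => ?_) (Ideal.span_le.2 ?_)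
      · rw [Ideal.mem_comap, Ideal.mem_comap]
        simp only [g, aeval_C]
        exact map_nonunit _ _ ha
      · rintro _ ⟨i, rfl⟩
        simpa [g] using hy i
    have hu : ∀ s : P.primeCompl, IsUnit (g.toRingHom s) := fun s => by
      by_contra h
      have h0 : IsUnit (constantCoeff (s : MvPolynomial (Fin N) A)) := by
        by_contra h
        exact s.2 ((hPmem _).2 ((mem_maximalIdeal _).2 h))
      have h1 : (s : MvPolynomial (Fin N) A) - C (constantCoeff (s : MvPolynomial (Fin N) A)) ∈ P := by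
        rw [hPmem, map_sub, constantCoeff_C, sub_self]
        exact zero_mem _
      have h2 := sub_mem ((mem_maximalIdeal _).2 h : g s ∈ maximalIdeal T) (hgP _ h1)
      rw [map_sub, sub_sub_cancel] at h2
      exact (mem_maximalIdeal _).1 h2 (by simpa [g] using h0.map (algebraMap A T))
    let L : S →+* T := IsLocalization.lift (M := P.primeCompl) (g := g.toRingHom) hu
    have hL : IsLocalHom L := ⟨fun z hz => by
      obtain ⟨p, s, rfl⟩ := IsLocalization.exists_mk'_eq P.primeCompl z
      rw [IsLocalization.AtPrime.isUnit_mk'_iff]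
      intro hp
      have h2 : L (algebraMap _ S p) ∈ maximalIdeal T := by
        rw [IsLocalization.lift_eq]; exact hgP p hp
      rw [← IsLocalization.mk'_spec S p s, map_mul] at h2
      exact (mem_maximalIdeal _).1 h2 (hz.mul ((IsLocalization.map_units _ s).map L))⟩
    obtain ⟨φ, hφ, huniq⟩ := hR.universal T L hL
    let φA : R →ₐ[A] T := { φ with
      commutes' := fun a => by
        show φ (algebraMap A R a) = _
        rw [IsScalarTower.algebraMap_apply A S R]
        refine (RingHom.congr_fun hφ _).trans ?_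
        rw [IsScalarTower.algebraMap_apply A (MvPolynomial (Fin N) A) S, IsLocalization.lift_eq]
        exact g.commutes a }
    refine ⟨φA, fun i => ?_, fun φ' hφ' => ?_⟩
    · show φ (algebraMap S R _) = _
      refine (RingHom.congr_fun hφ _).trans ?_
      rw [IsLocalization.lift_eq]
      exact aeval_X y i
    · have h1 : φ'.toRingHom = φ := huniq _ (IsLocalization.ringHom_ext P.primeCompl (by
        rw [IsLocalization.lift_comp]
        have : φ'.comp ((IsScalarTower.toAlgHom A S R).comp (IsScalarTower.toAlgHom A (MvPolynomial (Fin N) A) S)) = g :=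
          MvPolynomial.algHom_ext fun i => (hφ' i).trans (aeval_X y i).symm
        rw [← this]
        rfl))
      exact AlgHom.ext fun x => RingHom.congr_fun h1 x
  · exact ⟨MvPolynomial (Fin N) A, inferInstance, inferInstance, inferInstance, P, inferInstance, inferInstance,
      inferInstance, inferInstance, hR⟩
  · haveI := S0509.result S R
    exact Module.Flat.trans A S R

namespace IsPolyHens

variable {A : Type u} [CommRing A] [HenselianLocalRing A] {N : ℕ} {R : Type u} [CommRing R] [IsLocalRing R]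
  [Algebra A R] {X : Fin N → R} (h : IsPolyHens A R X)
include h

theorem X_mem (i : Fin N) : X i ∈ maximalIdeal R :=
  h.maximal_eq.symm.le (Ideal.mem_sup_right (Ideal.subset_span ⟨i, rfl⟩))

theorem algebraMap_mem {a : A} (ha : a ∈ maximalIdeal A) : algebraMap A R a ∈ maximalIdeal R :=
  h.maximal_eq.symm.le (Ideal.mem_sup_left (Ideal.mem_map_of_mem _ ha))

theorem hom_ext {T : Type u} [CommRing T] [HenselianLocalRing T] [Algebra A T] [IsLocalHom (algebraMap A T)]
    {φ ψ : R →ₐ[A] T} (hm : ∀ i, φ (X i) ∈ maximalIdeal T) (he : ∀ i, φ (X i) = ψ (X i)) : φ = ψ :=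
  (h.univ T (fun i => φ (X i)) hm).unique (fun _ => rfl) fun i => (he i).symm

theorem isLocalHom_of_mem {T : Type u} [CommRing T] [IsLocalRing T] [Algebra A T] [IsLocalHom (algebraMap A T)]
    (φ : R →ₐ[A] T) (hm : ∀ i, φ (X i) ∈ maximalIdeal T) : IsLocalHom φ.toRingHom :=
  ((local_hom_TFAE _).out 0 2).mpr (by
    rw [h.maximal_eq, Ideal.map_sup, sup_le_iff, Ideal.map_map, Ideal.map_span, Ideal.span_le]
    refine ⟨?_, ?_⟩
    · rw [show φ.toRingHom.comp (algebraMap A R) = algebraMap A T from φ.comp_algebraMap]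
      exact IsLocalRing.map_maximalIdeal_le _
    · rintro _ ⟨_, ⟨i, rfl⟩, rfl⟩
      exact hm i)

theorem map_mem {T : Type u} [CommRing T] [IsLocalRing T] [Algebra A T] [IsLocalHom (algebraMap A T)]
    (φ : R →ₐ[A] T) (hm : ∀ i, φ (X i) ∈ maximalIdeal T) {x : R} (hx : x ∈ maximalIdeal R) :
    φ x ∈ maximalIdeal T := by
  haveI := h.isLocalHom_of_mem φ hm
  exact map_nonunit φ.toRingHom x hx

theorem isNoetherianRing_fibre : IsNoetherianRing (R ⧸ (maximalIdeal A).map (algebraMap A R)) := by
  let k := ResidueField A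
  haveI := h.henselian
  obtain ⟨S, _, _, _, Xk, hS⟩ := exists_polyHens k N
  haveI := hS.henselian
  haveI := hS.local_hom
  letI : Algebra A S := ((algebraMap k S).comp (residue A)).toAlgebra
  haveI : IsScalarTower A k S := IsScalarTower.of_algebraMap_eq fun _ => rfl
  haveI : IsLocalHom (algebraMap A S) := ⟨fun a ha =>
    isUnit_of_map_unit (residue A) a (isUnit_of_map_unit (algebraMap k S) _ ha)⟩
  haveI : IsNoetherianRing S := by
    obtain ⟨B, _, _, _, p, _, _, _, _, hB⟩ := hS.eft
    haveI : IsNoetherianRing B := Algebra.FiniteType.isNoetherianRing k B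
    exact (S0511.result (Localization.AtPrime p) S).1 inferInstance
  obtain ⟨π, hπ, -⟩ := h.univ S Xk hS.X_mem
  let I := (maximalIdeal A).map (algebraMap A R)
  haveI : Nontrivial (R ⧸ I) := by
    rw [Ideal.Quotient.nontrivial_iff]
    exact ((sup_le_iff.1 h.maximal_eq.symm.le).1.trans_lt (maximalIdeal.isMaximal R).ne_top.lt_top).ne
  haveI : IsLocalRing (R ⧸ I) := IsLocalRing.of_surjective' _ Ideal.Quotient.mk_surjective
  haveI : HenselianLocalRing (R ⧸ I) := H9Hens.henselianLocalRing_quotient I
  letI : Algebra k (R ⧸ I) := (Ideal.Quotient.lift (maximalIdeal A) ((Ideal.Quotient.mk I).comp (algebraMap A R))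
    fun a ha => Ideal.Quotient.eq_zero_iff_mem.2 (Ideal.mem_map_of_mem _ ha)).toAlgebra
  haveI : IsScalarTower A k (R ⧸ I) := IsScalarTower.of_algebraMap_eq fun _ => rfl
  haveI : IsLocalHom (algebraMap k (R ⧸ I)) := ⟨fun a ha =>
    isUnit_iff_ne_zero.2 fun h0 => by subst h0; simp at ha⟩
  haveI : IsLocalHom (algebraMap A (R ⧸ I)) := ⟨fun a ha =>
    isUnit_of_map_unit (residue A) a (isUnit_of_map_unit (algebraMap k (R ⧸ I)) _ ha)⟩
  have hXm : ∀ i, Ideal.Quotient.mk I (X i) ∈ maximalIdeal (R ⧸ I) := fun i => by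
    rw [← IsLocalRing.map_maximalIdeal_of_surjective (Ideal.Quotient.mk I) Ideal.Quotient.mk_surjective]
    exact Ideal.mem_map_of_mem _ (h.X_mem i)
  obtain ⟨χ, hχ, -⟩ := hS.univ (R ⧸ I) (fun i => Ideal.Quotient.mk I (X i)) hXm
  have hc : (χ.restrictScalars A).comp π = Ideal.Quotient.mkₐ A I :=
    h.hom_ext (fun i => by rw [AlgHom.comp_apply, hπ, AlgHom.restrictScalars_apply, hχ]; exact hXm i)
      fun i => by rw [AlgHom.comp_apply, hπ, AlgHom.restrictScalars_apply, hχ]; rfl
  refine isNoetherianRing_of_surjective S (R ⧸ I) χ.toRingHom fun w => ?_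
  obtain ⟨w, rfl⟩ := Ideal.Quotient.mk_surjective w
  exact ⟨π w, AlgHom.congr_fun hc w⟩

theorem bijective_of_generators (σ : R →ₐ[A] R) (hσ : ∀ i, σ (X i) ∈ maximalIdeal R)
    (hgen : maximalIdeal R ≤ (maximalIdeal A).map (algebraMap A R) ⊔ Ideal.span (Set.range fun i => σ (X i))) :
    Function.Bijective σ := by
  haveI := h.henselian
  haveI := h.local_hom
  have hcomap : (maximalIdeal R).comap (algebraMap A R) = maximalIdeal A :=
    ((local_hom_TFAE _).out 0 4).mp h.local_hom
  have surj : ∀ (τ : R →ₐ[A] R), (∀ i, τ (X i) ∈ maximalIdeal R) →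
      maximalIdeal R ≤ (maximalIdeal A).map (algebraMap A R) ⊔ Ideal.span (Set.range fun i => τ (X i)) →
      Function.Surjective τ := by
    intro τ hτ hg
    haveI := h.isLocalHom_of_mem τ hτ
    exact surjective_of_generators h.eft h.res_surj (fun i => τ (X i)) hτ (by rw [hcomap]; exact hg) τ X fun _ => rfl
  have hs := surj σ hσ hgen
  choose Y hY using fun i => hs (X i)
  have hYm : ∀ i, Y i ∈ maximalIdeal R := fun i => by
    by_contra hne
    have hu : IsUnit (Y i) := by rwa [mem_maximalIdeal, mem_nonunits_iff, not_not] at hne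
    exact (mem_maximalIdeal _).1 (h.X_mem i) (hY i ▸ hu.map σ)
  obtain ⟨τ, hτ, -⟩ := h.univ R Y hYm
  have hid : σ.comp τ = AlgHom.id A R := h.hom_ext
    (fun i => by rw [AlgHom.comp_apply, hτ, hY]; exact h.X_mem i) fun i => by rw [AlgHom.comp_apply, hτ, hY]; rfl
  let I := (maximalIdeal A).map (algebraMap A R)
  have hIσ : I.map σ = I := by
    rw [← Ideal.map_coe σ, Ideal.map_map, AlgHom.comp_algebraMap]
  haveI := h.isNoetherianRing_fibre
  let σb : R ⧸ I →+* R ⧸ I := Ideal.quotientMap I σ.toRingHom (Ideal.map_le_iff_le_comap.1 hIσ.le)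
  have hσb : Function.Surjective σb := fun w => by
    obtain ⟨w, rfl⟩ := Ideal.Quotient.mk_surjective w
    obtain ⟨v, rfl⟩ := hs w
    exact ⟨Ideal.Quotient.mk I v, rfl⟩
  have hinjb : Function.Injective σb := by
    rw [injective_iff_map_eq_zero]
    intro w hw
    let f : ℕ →o Ideal (R ⧸ I) := ⟨fun m => RingHom.ker (σb ^ m), monotone_nat_of_le_succ fun m x hx => by
      rw [RingHom.mem_ker, RingHom.coe_pow, Function.iterate_succ_apply']
      rw [RingHom.mem_ker, RingHom.coe_pow] at hx
      rw [hx, map_zero]⟩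
    obtain ⟨m, hm⟩ := monotone_stabilizes_iff_noetherian.2 inferInstance f
    obtain ⟨v, rfl⟩ : ∃ v, (σb ^ m) v = w := by rw [RingHom.coe_pow]; exact hσb.iterate m w
    have hv : v ∈ f (m + 1) := by
      show v ∈ RingHom.ker (σb ^ (m + 1))
      rw [RingHom.mem_ker, RingHom.coe_pow, Function.iterate_succ_apply']
      rwa [RingHom.coe_pow] at hw
    rw [← hm (m + 1) m.le_succ] at hv
    exact RingHom.mem_ker.1 hv
  have hτsurj : Function.Surjective τ := by
    refine surj τ (fun i => by rw [hτ]; exact hYm i) fun x hx => ?_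
    have hσx : σ x ∈ (I ⊔ Ideal.span (Set.range fun i => τ (X i))).map σ := by
      rw [Ideal.map_sup, hIσ, Ideal.map_span, ← Set.range_comp]
      have : (σ ∘ fun i => τ (X i)) = X := funext fun i => AlgHom.congr_fun hid (X i)
      rw [this, ← h.maximal_eq]
      exact h.map_mem σ hσ hx
    obtain ⟨v, hv, hvx⟩ := (Ideal.mem_map_iff_of_surjective σ hs).1 hσx
    have : x - v ∈ I := by
      rw [← Ideal.Quotient.eq_zero_iff_mem]
      apply hinjb
      rw [map_zero]
      show Ideal.Quotient.mk I (σ (x - v)) = 0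
      rw [map_sub, hvx, sub_self, map_zero]
    simpa using add_mem (Ideal.mem_sup_left this) hv
  have hli : Function.LeftInverse σ τ := fun x => AlgHom.congr_fun hid x
  refine ⟨fun a b hab => ?_, hs⟩
  obtain ⟨a, rfl⟩ := hτsurj a
  obtain ⟨b, rfl⟩ := hτsurj b
  rw [hli a, hli b] at hab
  rw [hab]

/-- The section with values `t`, and its kernel. -/
theorem exists_section (t : Fin N → A) (ht : ∀ i, t i ∈ maximalIdeal A) :
    ∃ s : R →ₐ[A] A, (∀ i, s (X i) = t i) ∧
      RingHom.ker s = Ideal.span (Set.range fun i => X i - algebraMap A R (t i)) := by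
  haveI := h.henselian
  haveI := h.local_hom
  haveI : IsLocalHom (algebraMap A A) := ⟨fun a ha => ha⟩
  obtain ⟨s, hs, -⟩ := h.univ A t ht
  refine ⟨s, hs, le_antisymm (fun x hx => ?_) (Ideal.span_le.2 ?_)⟩
  · let J := Ideal.span (Set.range fun i => X i - algebraMap A R (t i))
    have hJ : J ≤ maximalIdeal R := Ideal.span_le.2 (by
      rintro _ ⟨i, rfl⟩
      exact sub_mem (h.X_mem i) (h.algebraMap_mem (ht i)))
    haveI : Nontrivial (R ⧸ J) := by
      rw [Ideal.Quotient.nontrivial_iff]
      exact (hJ.trans_lt (maximalIdeal.isMaximal R).ne_top.lt_top).ne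
    haveI : IsLocalRing (R ⧸ J) := IsLocalRing.of_surjective' _ Ideal.Quotient.mk_surjective
    haveI : HenselianLocalRing (R ⧸ J) := H9Hens.henselianLocalRing_quotient J
    haveI : IsLocalHom (algebraMap A (R ⧸ J)) := ((local_hom_TFAE _).out 0 2).mpr (by
      rw [← IsLocalRing.map_maximalIdeal_of_surjective (Ideal.Quotient.mk J) Ideal.Quotient.mk_surjective]
      refine Ideal.map_le_iff_le_comap.2 fun a ha => ?_
      rw [Ideal.mem_comap, ← Ideal.Quotient.mk_algebraMap]
      exact Ideal.mem_map_of_mem _ (h.algebraMap_mem ha))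
    have he : Ideal.Quotient.mkₐ A J = (Algebra.ofId A (R ⧸ J)).comp s := h.hom_ext
      (fun i => by
        rw [← IsLocalRing.map_maximalIdeal_of_surjective (Ideal.Quotient.mk J) Ideal.Quotient.mk_surjective]
        exact Ideal.mem_map_of_mem _ (h.X_mem i))
      fun i => by
        show Ideal.Quotient.mk J (X i) = algebraMap A (R ⧸ J) (s (X i))
        rw [hs, ← Ideal.Quotient.mk_algebraMap, Ideal.Quotient.eq]
        exact Ideal.subset_span ⟨i, rfl⟩
    have := AlgHom.congr_fun he x
    rw [AlgHom.comp_apply, show s x = 0 from hx, map_zero] at this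
    exact Ideal.Quotient.eq_zero_iff_mem.1 this
  · rintro _ ⟨i, rfl⟩
    simp [hs]

/-- Partial derivatives. -/
theorem exists_pderiv (i : Fin N) : ∃ D : Derivation A R R, ∀ j, D (X j) = Pi.single (M := fun _ => R) i 1 j := by
  haveI := h.henselian
  haveI := h.local_hom
  haveI : IsLocalRing (DualNumber R) := IsLocalRing.of_isUnit_or_isUnit_one_sub_self fun x => by
    rw [TrivSqZeroExt.isUnit_iff_isUnit_fst, TrivSqZeroExt.isUnit_iff_isUnit_fst]
    simpa only [TrivSqZeroExt.fst_sub, TrivSqZeroExt.fst_one] using IsLocalRing.isUnit_or_isUnit_one_sub_self x.fst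
  haveI : Module.Finite R (DualNumber R) := inferInstanceAs (Module.Finite R (R × R))
  haveI : IsLocalHom (algebraMap R (DualNumber R)) := ⟨fun a ha => by
    have := TrivSqZeroExt.isUnit_iff_isUnit_fst.1 ha
    rw [TrivSqZeroExt.algebraMap_eq_inl, TrivSqZeroExt.fst_inl] at this
    exact this⟩
  haveI : Algebra.IsIntegral R (DualNumber R) := Algebra.IsIntegral.of_finite R (DualNumber R)
  haveI : HenselianLocalRing (DualNumber R) := (H9Hens.henselian_of_isIntegral (R := R)).1
  haveI : IsLocalHom (algebraMap A (DualNumber R)) := ⟨fun a ha => by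
    have := TrivSqZeroExt.isUnit_iff_isUnit_fst.1 ha
    rw [TrivSqZeroExt.algebraMap_eq_inl', TrivSqZeroExt.fst_inl] at this
    exact isUnit_of_map_unit (algebraMap A R) a this⟩
  let y : Fin N → (DualNumber R) := fun j => TrivSqZeroExt.inl (X j) + TrivSqZeroExt.inr (Pi.single (M := fun _ => R) i 1 j)
  obtain ⟨Φ, hΦ, -⟩ := h.univ (DualNumber R) y fun j => by
    rw [mem_maximalIdeal, mem_nonunits_iff, TrivSqZeroExt.isUnit_iff_isUnit_fst]
    simpa [y] using h.X_mem j
  have hfst : ∀ x, (Φ x).fst = x := fun x => by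
    have he : (TrivSqZeroExt.fstHom A R R).comp Φ = AlgHom.id A R := h.hom_ext
      (fun j => by simpa [hΦ, y] using h.X_mem j) fun j => by simp [hΦ, y]
    simpa using AlgHom.congr_fun he x
  refine ⟨Derivation.mk' ((TrivSqZeroExt.sndHom R R).restrictScalars A ∘ₗ Φ.toLinearMap) fun a b => ?_, fun j => ?_⟩
  · simp only [LinearMap.coe_comp, Function.comp_apply, AlgHom.toLinearMap_apply, LinearMap.coe_restrictScalars,
      TrivSqZeroExt.sndHom_apply, map_mul, DualNumber.snd_mul, hfst, smul_eq_mul]
    ring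
  · simp [hΦ, y]

end IsPolyHens

end Groth.Agent.H9Quad
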