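import Groth.Agent.H9Quad.NormalForm
import Groth.Agent.H9Quad.Finite

/-!
Normal form of a function with one degenerate direction in the henselized polynomial ring.
-/

universe u

open IsLocalRing Matrix

namespace Groth.Agent.H9Quad

namespace IsPolyHens

variable {A : Type u} [CommRing A] [HenselianLocalRing A] {N : ℕ} {R : Type u} [CommRing R] [IsLocalRing R]
  [Algebra A R] {X : Fin N → R} (h : IsPolyHens A R X)
include h

/-- A derivation vanishing on the images of the variables vanishes on the image. -/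
theorem derivation_comp_eq_zero (φ : R →ₐ[A] R) (hφ : ∀ i, φ (X i) ∈ maximalIdeal R) (D : Derivation A R R)
    (hD : ∀ i, D (φ (X i)) = 0) (w : R) : D (φ w) = 0 := by
  haveI := h.henselian
  haveI := h.local_hom
  haveI : IsLocalRing (DualNumber R) := IsLocalRing.of_isUnit_or_isUnit_one_sub_self fun x => by
    rw [TrivSqZeroExt.isUnit_iff_isUnit_fst, TrivSqZeroExt.isUnit_iff_isUnit_fst]
    simpa only [TrivSqZeroExt.fst_sub, TrivSqZeroExt.fst_one] using IsLocalRing.isUnit_or_isUnit_one_sub_self x.fst
  haveI : Module.Finite R (DualNumber R) := inferInstanceAs (Module.Finite R (R × R))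
  haveI : IsLocalHom (algebraMap R (DualNumber R)) := ⟨fun a ha => by
    have := TrivSqZeroExt.isUnit_iff_isUnit_fst.1 ha
    rw [TrivSqZeroExt.algebraMap_eq_inl, TrivSqZeroExt.fst_inl] at this
    exact this⟩
  haveI : Algebra.IsIntegral R (DualNumber R) := Algebra.IsIntegral.of_finite R _
  haveI : HenselianLocalRing (DualNumber R) := (H9Hens.henselian_of_isIntegral (R := R)).1
  haveI : IsLocalHom (algebraMap A (DualNumber R)) := ⟨fun a ha => by
    have := TrivSqZeroExt.isUnit_iff_isUnit_fst.1 ha
    rw [TrivSqZeroExt.algebraMap_eq_inl', TrivSqZeroExt.fst_inl] at this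
    exact isUnit_of_map_unit (algebraMap A R) a this⟩
  let Φ1 : R →ₐ[A] DualNumber R :=
    { toFun := fun x => TrivSqZeroExt.inl (φ x) + TrivSqZeroExt.inr (D (φ x))
      map_one' := by ext <;> simp
      map_mul' := fun x y => by
        ext
        · simp
        · simp [Derivation.leibniz]; ring
      map_zero' := by ext <;> simp
      map_add' := fun x y => by ext <;> simp
      commutes' := fun a => by ext <;> simp [TrivSqZeroExt.algebraMap_eq_inl'] }
  let Φ2 : R →ₐ[A] DualNumber R :=
    { toFun := fun x => TrivSqZeroExt.inl (φ x)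
      map_one' := by ext <;> simp
      map_mul' := fun x y => by ext <;> simp
      map_zero' := by ext <;> simp
      map_add' := fun x y => by ext <;> simp
      commutes' := fun a => by ext <;> simp [TrivSqZeroExt.algebraMap_eq_inl'] }
  have he : Φ1 = Φ2 := h.hom_ext
    (fun i => by
      rw [mem_maximalIdeal, mem_nonunits_iff, TrivSqZeroExt.isUnit_iff_isUnit_fst]
      simpa [Φ1] using hφ i)
    (fun i => by
      ext
      · simp [Φ1, Φ2]
      · simp [Φ1, Φ2, hD])
  simpa [Φ1, Φ2] using congrArg TrivSqZeroExt.snd (AlgHom.congr_fun he w)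

/-- The projection of an endomorphism to a quotient is determined by the variables. -/
theorem sub_mem_of_congr (φ : R →ₐ[A] R) (J : Ideal R) (hJ : J ≤ maximalIdeal R) (hX : ∀ i, X i - φ (X i) ∈ J)
    (w : R) : w - φ w ∈ J := by
  haveI := h.henselian
  haveI := h.local_hom
  haveI : Nontrivial (R ⧸ J) := by
    rw [Ideal.Quotient.nontrivial_iff]
    exact (hJ.trans_lt (maximalIdeal.isMaximal R).ne_top.lt_top).ne
  haveI : IsLocalRing (R ⧸ J) := IsLocalRing.of_surjective' _ Ideal.Quotient.mk_surjective
  haveI : HenselianLocalRing (R ⧸ J) := H9Hens.henselianLocalRing_quotient J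
  haveI : IsLocalHom (algebraMap A (R ⧸ J)) := ((local_hom_TFAE _).out 0 2).mpr (by
    rw [← IsLocalRing.map_maximalIdeal_of_surjective (Ideal.Quotient.mk J) Ideal.Quotient.mk_surjective]
    refine Ideal.map_le_iff_le_comap.2 fun a ha => ?_
    rw [Ideal.mem_comap, ← Ideal.Quotient.mk_algebraMap]
    exact Ideal.mem_map_of_mem _ (h.algebraMap_mem ha))
  have he : Ideal.Quotient.mkₐ A J = (Ideal.Quotient.mkₐ A J).comp φ := h.hom_ext
    (fun i => by
      rw [← IsLocalRing.map_maximalIdeal_of_surjective (Ideal.Quotient.mk J) Ideal.Quotient.mk_surjective]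
      exact Ideal.mem_map_of_mem _ (h.X_mem i))
    fun i => Ideal.Quotient.eq.2 (hX i)
  exact Ideal.Quotient.eq.1 (AlgHom.congr_fun he w)

end IsPolyHens

variable {A : Type u} [CommRing A] [HenselianLocalRing A] {m : ℕ} {R : Type u} [CommRing R] [IsLocalRing R]
  [Algebra A R] {X : Fin (m + 1) → R}

/-- The Morse lemma for the side variables: `F = φ₀(X₀) + Q'(Y)`. -/
theorem exists_side_form (h : IsPolyHens A R X) (u : A) {a : Fin m → Fin m → A} (ha : VanCyc.QuadNondeg a) {F : R}
    (hFa : F - (algebraMap A R u * X 0 ^ 2 + VanCyc.quadEval (fun i j => algebraMap A R (a i j)) fun i => X i.succ) ∈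
      maximalIdeal R ^ 3 ⊔ (maximalIdeal A).map (algebraMap A R)) :
    ∃ (e0 : R →ₐ[A] R) (φ0 : R) (a' : Fin m → Fin m → A) (Y : Fin m → R),
      e0 (X 0) = X 0 ∧ (∀ i : Fin m, e0 (X i.succ) = 0) ∧ e0 φ0 = φ0 ∧ VanCyc.QuadNondeg a' ∧
      φ0 - algebraMap A R u * X 0 ^ 2 ∈ maximalIdeal R ^ 3 ⊔ (maximalIdeal A).map (algebraMap A R) ∧
      (∀ i, Y i - X i.succ ∈ maximalIdeal R ^ 2 ⊔ (maximalIdeal A).map (algebraMap A R)) ∧
      F = φ0 + VanCyc.quadEval (fun i j => algebraMap A R (a' i j)) Y := by
  classical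
  haveI := h.henselian
  haveI := h.local_hom
  haveI : IsLocalHom (algebraMap A A) := ⟨fun _ hx => hx⟩
  let I := (maximalIdeal A).map (algebraMap A R)
  have hIm : I ≤ maximalIdeal R := (sup_le_iff.1 h.maximal_eq.symm.le).1
  have h2m : maximalIdeal R ^ 2 ⊔ I ≤ maximalIdeal R := sup_le (Ideal.pow_le_self two_ne_zero) hIm
  choose Dall hDall using h.exists_pderiv
  let D : Fin m → Derivation A R R := fun i => Dall i.succ
  let S : Fin m → R := fun i => X i.succ
  have hDS : ∀ i j, D i (S j) = Pi.single (M := fun _ => R) i 1 j := fun i j => by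
    rw [hDall, Pi.single_apply, Pi.single_apply]; simp
  have hD0 : ∀ i, D i (X 0) = 0 := fun i => by
    rw [hDall, Pi.single_apply, if_neg (Fin.succ_ne_zero i).symm]
  let G : Fin m → R := fun i => D i F
  let M : Matrix (Fin m) (Fin m) R := VanCyc.polarMatrix fun i j => algebraMap A R (a i j)
  have hMmap : M = (VanCyc.polarMatrix a).map (algebraMap A R) := by
    ext i j
    simp only [M, VanCyc.polarMatrix, Matrix.map_apply]
    split_ifs <;> simp [map_ofNat]
  have hM : IsUnit M.det := by
    rw [hMmap, ← RingHom.mapMatrix_apply, ← RingHom.map_det]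
    exact ha.map _
  have hG : ∀ i, G i - (M *ᵥ S) i ∈ maximalIdeal R ^ 2 ⊔ I := fun i => by
    obtain ⟨p, hp, v, hv, hpv⟩ := Submodule.mem_sup.1 hFa
    have e : G i - (M *ᵥ S) i = D i p + D i v := by
      rw [← map_add, hpv, map_sub, map_add, derivation_quadEval]
      have : (fun l => D i (S l)) = Pi.single i 1 := funext fun l => hDS i l
      rw [this, single_one_dotProduct, pow_two, Derivation.leibniz, Derivation.leibniz, Derivation.map_algebraMap, hD0]
      simp [G, M, S]
    rw [e]
    exact Submodule.add_mem_sup (derivation_mem_pow _ _ 2 hp) (derivation_mem_map _ _ hv)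
  have hSm : ∀ i, S i ∈ maximalIdeal R := fun i => h.X_mem _
  have hMS : ∀ i, (M *ᵥ S) i ∈ maximalIdeal R := fun i =>
    Ideal.sum_mem _ (t := Finset.univ) fun j _ => Ideal.mul_mem_left _ _ (hSm j)
  have hGm : ∀ i, G i ∈ maximalIdeal R := fun i => by simpa using add_mem (h2m (hG i)) (hMS i)
  let G1 : Fin (m + 1) → R := Fin.cons (X 0) G
  let M1 : Matrix (Fin (m + 1)) (Fin (m + 1)) R :=
    Matrix.of (Fin.cons (Pi.single (M := fun _ => R) 0 1) fun i => Fin.cons 0 (M i))
  have hM1 : IsUnit M1.det := by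
    have : M1.det = M.det := by
      rw [Matrix.det_succ_row_zero, Finset.sum_eq_single 0]
      · have : M1.submatrix Fin.succ (Fin.succAbove 0) = M := by
          ext i j; simp [M1]
        rw [this]
        simp [M1]
      · intro j _ hj; simp [M1, hj]
      · simp
    rw [this]; exact hM
  have hG1 : ∀ i, G1 i - (M1 *ᵥ X) i ∈ maximalIdeal R ^ 2 ⊔ I := fun i => by
    refine Fin.cases ?_ (fun j => ?_) i
    · simp [G1, M1, Matrix.mulVec, dotProduct, Pi.single_apply]
    · have : (M1 *ᵥ X) j.succ = (M *ᵥ S) j := by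
        simp [M1, Matrix.mulVec, dotProduct, Fin.sum_univ_succ, S]
      rw [this]
      exact hG j
  obtain ⟨ω, hω, -⟩ := h.univ R G1 (Fin.cases (h.X_mem 0) hGm)
  have hωb := h.bijective_of_generators ω (fun i => (hω i).symm ▸ Fin.cases (h.X_mem 0) hGm i) (by
    rw [show (fun i => ω (X i)) = G1 from funext hω]
    exact h.le_span_of_congr M1 hM1 G1 hG1)
  obtain ⟨e0, he0, -⟩ := h.univ R (Fin.cons (X 0) fun _ => 0) (Fin.cases (h.X_mem 0) fun _ => zero_mem _)
  have he00 : e0 (X 0) = X 0 := he0 0
  have he0S : ∀ i : Fin m, e0 (S i) = 0 := fun i => he0 i.succ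
  have he0m : ∀ i, e0 (X i) ∈ maximalIdeal R := fun i => by
    rw [he0]; exact Fin.cases (h.X_mem 0) (fun _ => zero_mem _) i
  let ωe := AlgEquiv.ofBijective ω hωb
  let s : R →ₐ[A] R := e0.comp ωe.symm.toAlgHom
  have hs0 : s (X 0) = X 0 := by
    show e0 (ωe.symm (X 0)) = _
    rw [show ωe.symm (X 0) = X 0 by rw [AlgEquiv.symm_apply_eq]; exact (hω 0).symm, he00]
  have hsG : ∀ i, s (G i) = 0 := fun i => by
    show e0 (ωe.symm (G i)) = 0
    rw [show ωe.symm (G i) = S i by rw [AlgEquiv.symm_apply_eq]; exact (hω i.succ).symm, he0S]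
  have hsm : ∀ i, s (X i) ∈ maximalIdeal R := fun i => by
    refine h.map_mem e0 he0m ?_
    rw [mem_maximalIdeal, mem_nonunits_iff]
    intro hu
    have := hu.map ωe
    change IsUnit (ωe (ωe.symm (X i))) at this
    rw [ωe.apply_symm_apply] at this
    exact (mem_maximalIdeal _).1 (h.X_mem i) this
  have hse : ∀ w, s (e0 w) = e0 w := fun w => by
    have : s.comp e0 = e0 := h.hom_ext
      (fun i => by
        refine Fin.cases ?_ (fun j => ?_) i
        · rw [AlgHom.comp_apply, he00, hs0]; exact h.X_mem 0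
        · rw [AlgHom.comp_apply, show e0 (X j.succ) = 0 from he0S j, map_zero]; exact zero_mem _)
      fun i => by
        refine Fin.cases ?_ (fun j => ?_) i
        · rw [AlgHom.comp_apply, he00, hs0]
        · rw [AlgHom.comp_apply, show e0 (X j.succ) = 0 from he0S j, map_zero]
    exact AlgHom.congr_fun this w
  have he0e : ∀ w, e0 (e0 w) = e0 w := fun w => by
    have : e0.comp e0 = e0 := h.hom_ext
      (fun i => h.map_mem e0 he0m (he0m i))
      fun i => by
        refine Fin.cases ?_ (fun j => ?_) i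
        · rw [AlgHom.comp_apply, he00, he00]
        · rw [AlgHom.comp_apply, show e0 (X j.succ) = 0 from he0S j, map_zero]
    exact AlgHom.congr_fun this w
  have he0s : ∀ w, e0 (s w) = s w := fun w => he0e _
  have hDe : ∀ i w, D i (e0 w) = 0 := fun i w => h.derivation_comp_eq_zero e0 he0m (D i) (fun l => by
    refine Fin.cases ?_ (fun j => ?_) l
    · rw [he00]; exact hD0 i
    · rw [show e0 (X j.succ) = 0 from he0S j, map_zero]) w
  let t : Fin m → R := fun i => s (S i)
  let T : Fin m → R := fun i => S i - t i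
  have hTm : ∀ i, T i ∈ maximalIdeal R := fun i => sub_mem (hSm i) (hsm _)
  have hDT : ∀ i j, D i (T j) = Pi.single (M := fun _ => R) i 1 j := fun i j => by
    simp only [T, map_sub, hDS, t]
    rw [show s (S j) = e0 (ωe.symm (S j)) from rfl, hDe, sub_zero]
  have hst : ∀ i, s (t i) = t i := fun i => hse _
  have hsT : ∀ i, s (T i) = 0 := fun i => by
    show s (S i - t i) = 0
    rw [map_sub, hst, sub_self]
  have hkerT : ∀ x, s x = 0 → ∃ c : Fin m → R, ∑ i, c i * T i = x := fun x hx => by
    refine Ideal.mem_span_range_iff_exists_fun.1 ?_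
    have := h.sub_mem_of_congr s (Ideal.span (Set.range T)) (Ideal.span_le.2 (by rintro _ ⟨i, rfl⟩; exact hTm i))
      (fun i => by
        refine Fin.cases ?_ (fun j => ?_) i
        · rw [hs0, sub_self]; exact zero_mem _
        · exact Ideal.subset_span ⟨j, rfl⟩) x
    rwa [hx, sub_zero] at this
  have hsI : ∀ z ∈ maximalIdeal R ^ 2 ⊔ I, s z ∈ maximalIdeal R ^ 2 ⊔ I := fun z hz => by
    obtain ⟨p, hp, v, hv, rfl⟩ := Submodule.mem_sup.1 hz
    rw [map_add]
    refine Submodule.add_mem_sup ?_ ?_
    · have h1 : (maximalIdeal R).map s ≤ maximalIdeal R := Ideal.map_le_iff_le_comap.2 fun w hw => h.map_mem s hsm hw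
      have := Ideal.mem_map_of_mem s hp
      rw [Ideal.map_pow] at this
      exact Ideal.pow_right_mono h1 2 this
    · have := Ideal.mem_map_of_mem s hv
      rwa [← Ideal.map_coe s, Ideal.map_map, AlgHom.comp_algebraMap] at this
  have htI : ∀ i, t i ∈ maximalIdeal R ^ 2 ⊔ I := fun i => by
    have e : t i = -(M⁻¹ *ᵥ fun j => s (G j - (M *ᵥ S) j)) i := by
      have h1 : (fun j => s (G j - (M *ᵥ S) j)) = -(M *ᵥ t) := funext fun j => by
        rw [map_sub, hsG, zero_sub, Pi.neg_apply, neg_inj]
        simp [Matrix.mulVec, dotProduct, hMmap, t, map_sum]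
      rw [h1, mulVec_neg, mulVec_mulVec, Matrix.nonsing_inv_mul _ hM, one_mulVec, Pi.neg_apply, neg_neg]
    rw [e, neg_mem_iff]
    exact Ideal.sum_mem _ (t := Finset.univ) fun j _ => Ideal.mul_mem_left _ _ (hsI _ (hG j))
  obtain ⟨l, hl⟩ := hkerT (F - s F) (by rw [map_sub, show s (s F) = s F from hse _, sub_self])
  have hsl : ∀ i, s (l i) = 0 := fun i => by
    have h1 : D i F = D i (∑ j, l j * T j) := by
      rw [hl, map_sub, show s F = e0 (ωe.symm F) from rfl, hDe, sub_zero]
    have h2 := hsG i
    simp only [G, h1, map_sum, Derivation.leibniz, smul_eq_mul, map_add, map_mul, hsT, hDT, zero_mul, add_zero,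
      Pi.single_apply, apply_ite s, map_one, map_zero, mul_ite, mul_one, mul_zero, Finset.sum_ite_eq',
      Finset.mem_univ, if_true] at h2
    exact h2
  choose r hr using fun i => hkerT (l i) (hsl i)
  let r0 : Matrix (Fin m) (Fin m) R := Matrix.of r
  have hFT : F = s F + T ⬝ᵥ r0 *ᵥ T := by
    rw [← sub_eq_iff_eq_add', ← hl]
    simp only [dotProduct, Matrix.mulVec, r0, Matrix.of_apply]
    exact Finset.sum_congr rfl fun i _ => by rw [hr, mul_comm]
  obtain ⟨ε, hε, hεker⟩ := h.exists_section (fun _ => (0 : A)) fun _ => zero_mem _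
  have hεm : ∀ {x}, x ∈ maximalIdeal R → ε x ∈ maximalIdeal A := fun hx =>
    h.map_mem ε (fun i => by rw [hε]; exact zero_mem _) hx
  let rs : Matrix (Fin m) (Fin m) A := r0.map ε
  let a' : Fin m → Fin m → A := fun i j => if hij : i ≤ j then up rs ⟨(i, j), hij⟩ else 0
  have hpolar : VanCyc.polarMatrix a' = rs + rsᵀ := by
    ext i j
    simp only [VanCyc.polarMatrix, Matrix.add_apply, Matrix.transpose_apply, a', up]
    rcases lt_trichotomy i j with hij | rfl | hij
    · rw [if_neg hij.ne, if_pos hij, dif_pos hij.le, if_neg hij.ne]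
    · simp [two_mul]
    · rw [if_neg hij.ne', if_neg hij.not_gt, dif_pos hij.le, if_neg hij.ne, add_comm]
  let ρ : R →+* ResidueField A := (residue A).comp ε.toRingHom
  have hρT : ∀ i, ρ (T i) = 0 := fun i => (residue_eq_zero_iff _).2 (hεm (hTm i))
  have hρDD : ∀ i j, ρ (D j (G i)) = residue A (rs i j + rs j i) := fun i j => by
    have h1 : G i = ∑ p, ∑ q, (D i (r p q) * (T p * T q) +
        r p q * (Pi.single (M := fun _ => R) i 1 p * T q + T p * Pi.single (M := fun _ => R) i 1 q)) := by
      show D i F = _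
      rw [hFT, map_add, show s F = e0 (ωe.symm F) from rfl, hDe, zero_add]
      simp only [dotProduct, Matrix.mulVec, r0, Matrix.of_apply, Finset.mul_sum, map_sum, Derivation.leibniz,
        smul_eq_mul, hDT]
      exact Finset.sum_congr rfl fun p _ => Finset.sum_congr rfl fun q _ => by ring
    rw [h1]
    simp only [map_sum, map_add, map_mul, Derivation.leibniz, smul_eq_mul, hρT, hDT, mul_zero, zero_mul, add_zero,
      zero_add, Pi.single_apply, apply_ite (D j), apply_ite ρ, map_one, map_zero, Derivation.map_one_eq_zero, mul_ite,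
      ite_mul, mul_one, one_mul, ite_self]
    simp [Finset.sum_add_distrib, mul_add, mul_ite, rs, r0, ρ]
  have ha' : VanCyc.QuadNondeg a' := by
    show IsUnit _
    rw [hpolar]
    refine isUnit_of_map_unit (residue A) _ ?_
    rw [RingHom.map_det]
    have : (residue A).mapMatrix (rs + rsᵀ) = (residue A).mapMatrix (VanCyc.polarMatrix a) := by
      ext i j
      simp only [RingHom.mapMatrix_apply, Matrix.map_apply, Matrix.add_apply, Matrix.transpose_apply]
      rw [← hρDD i j, ← sub_eq_zero]
      have e : ρ (D j (G i)) - residue A (VanCyc.polarMatrix a i j) = ρ (D j (G i - (M *ᵥ S) i)) := by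
        rw [map_sub, map_sub]
        congr 1
        have : D j ((M *ᵥ S) i) = M i j := by
          simp [Matrix.mulVec, dotProduct, hMmap, hDS, Pi.single_apply]
        rw [this, hMmap, Matrix.map_apply]
        show _ = residue A (ε (algebraMap A R _))
        rw [AlgHom.commutes]
        rfl
      rw [e]
      refine (residue_eq_zero_iff _).2 (hεm ?_)
      obtain ⟨p, hp, v, hv, hpv⟩ := Submodule.mem_sup.1 (hG i)
      rw [← hpv, map_add]
      have h1 := derivation_mem_pow (D j) (maximalIdeal R) 1 hp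
      rw [pow_one] at h1
      exact add_mem h1 (hIm (derivation_mem_map _ _ hv))
    rw [this, ← RingHom.map_det]
    exact ha.map _
  let aR : Fin m → Fin m → R := fun i j => algebraMap A R (a' i j)
  have haR : VanCyc.QuadNondeg aR := by
    have : VanCyc.polarMatrix aR = (VanCyc.polarMatrix a').map (algebraMap A R) := by
      ext i j
      simp only [aR, VanCyc.polarMatrix, Matrix.map_apply]
      split_ifs <;> simp [map_ofNat]
    show IsUnit _
    rw [this, ← RingHom.mapMatrix_apply, ← RingHom.map_det]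
    exact ha'.map _
  have hsmall : ∀ i j, (r0 - rs.map (algebraMap A R)) i j ∈ maximalIdeal R := fun i j => by
    have : (r0 - rs.map (algebraMap A R)) i j ∈ RingHom.ker ε := by simp [rs]
    rw [hεker] at this
    refine (Ideal.span_le.2 ?_) this
    rintro _ ⟨l, rfl⟩
    simpa using h.X_mem l
  obtain ⟨g, hg, hgT⟩ := exists_mulVec_eq haR (r0 - rs.map (algebraMap A R)) hsmall T
  have hrsT : VanCyc.quadEval aR T = T ⬝ᵥ (rs.map (algebraMap A R)) *ᵥ T := by
    rw [quadEval_eq, dotProduct_mulVec_self, dotProduct_mulVec_self]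
    refine Finset.sum_congr rfl fun p _ => ?_
    rw [← up_map]
    congr 1
    have e : upper aR p.1.1 p.1.2 = algebraMap A R (up rs p) := by
      simp [upper, aR, a', p.2]
    rw [up_map] at e ⊢
    by_cases h1 : p.1.1 = p.1.2
    · conv_lhs => rw [up, if_pos h1]
      exact e
    · have h2 : ¬ p.1.2 ≤ p.1.1 := fun hle => h1 (le_antisymm p.2 hle)
      have h0 : upper aR p.1.2 p.1.1 = 0 := by simp [upper, h2]
      conv_lhs => rw [up, if_neg h1, h0, add_zero]
      exact e
  let Y := g *ᵥ T
  refine ⟨e0, s F, a', Y, he00, he0S, he0s F, ha', ?_, fun i => ?_, ?_⟩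
  · have hst' : ∀ i, s (X i.succ) = t i := fun i => rfl
    have h1 : s (F - (algebraMap A R u * X 0 ^ 2 + VanCyc.quadEval (fun i j => algebraMap A R (a i j)) S)) =
        s F - algebraMap A R u * X 0 ^ 2 - VanCyc.quadEval (fun i j => algebraMap A R (a i j)) t := by
      rw [map_sub, map_add, map_mul, map_pow, AlgHom.commutes, hs0, sub_sub]
      congr 2
      show s.toRingHom _ = _
      rw [map_quadEval]
      simp [t]
    have h2 : s (F - (algebraMap A R u * X 0 ^ 2 + VanCyc.quadEval (fun i j => algebraMap A R (a i j)) S)) ∈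
        maximalIdeal R ^ 3 ⊔ I := by
      obtain ⟨p, hp, v, hv, hpv⟩ := Submodule.mem_sup.1 hFa
      rw [show (fun i => X i.succ) = S from rfl] at hpv
      rw [← hpv, map_add]
      refine Submodule.add_mem_sup ?_ ?_
      · have h1 : (maximalIdeal R).map s ≤ maximalIdeal R := Ideal.map_le_iff_le_comap.2 fun w hw => h.map_mem s hsm hw
        have := Ideal.mem_map_of_mem s hp
        rw [Ideal.map_pow] at this
        exact Ideal.pow_right_mono h1 3 this
      · have := Ideal.mem_map_of_mem s hv
        rwa [← Ideal.map_coe s, Ideal.map_map, AlgHom.comp_algebraMap] at this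
    have h3 : VanCyc.quadEval (fun i j => algebraMap A R (a i j)) t ∈ maximalIdeal R ^ 3 ⊔ I := by
      simp only [VanCyc.quadEval]
      refine Ideal.sum_mem _ fun i _ => Ideal.sum_mem _ fun j _ => ?_
      split_ifs
      · rw [mul_assoc]
        refine Ideal.mul_mem_left _ _ ?_
        have := Ideal.mul_mem_mul (htI i) (h2m (htI j))
        rw [Ideal.sup_mul, ← pow_succ] at this
        have hle : maximalIdeal R ^ 3 ⊔ I * maximalIdeal R ≤ maximalIdeal R ^ 3 ⊔ I :=
          sup_le le_sup_left ((Ideal.mul_le.2 fun a ha b _ => Ideal.mul_mem_right _ _ ha).trans le_sup_right)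
        exact hle this
      · exact zero_mem _
    rw [show s F - algebraMap A R u * X 0 ^ 2 =
      (s F - algebraMap A R u * X 0 ^ 2 - VanCyc.quadEval (fun i j => algebraMap A R (a i j)) t) +
        VanCyc.quadEval (fun i j => algebraMap A R (a i j)) t by ring, ← h1]
    exact add_mem h2 h3
  · have e : Y i - X i.succ = ((g - 1) *ᵥ T) i + -t i := by
      rw [sub_mulVec, Pi.sub_apply, one_mulVec]
      show Y i - S i = Y i - (S i - t i) + -t i
      ring
    rw [e]
    refine add_mem (Ideal.mem_sup_left ?_) (neg_mem (htI i))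
    rw [pow_two]
    exact Ideal.sum_mem _ (t := Finset.univ) fun j _ => Ideal.mul_mem_mul (hg i j) (hTm j)
  · rw [show VanCyc.quadEval (fun i j => algebraMap A R (a' i j)) Y = _ from hgT, hrsT, sub_mulVec, dotProduct_sub,
      add_sub_cancel]
    exact hFT

end Groth.Agent.H9Quad
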