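import Mathlib
import Groth.Prelude.Def_QuadSing
import Groth.Prelude.Def_Hensel
import Groth.Agent.H02CA.PowerSeries
import Groth.Agent.H8Props.HensEFT.Stage
import Groth.Agent.H9Hens.BranchCompletion

/-!
Tools for quadratic singularities: the completion of a local algebra as a quotient of a power series
ring, quadratic parts of power series, approximation by polynomials in generators of the maximal ideal.
-/

universe u

open IsLocalRing Finsupp

namespace Groth.Agent.H9Quad

/-- A henselization of a local algebra essentially of finite type is `IsHensEFT`. -/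
theorem isHensEFT_of_essFiniteType (k : Type u) [CommRing k] (O : Type u) [CommRing O] [IsLocalRing O]
    [Algebra k O] [Algebra.EssFiniteType k O] (Oh : Type u) [CommRing Oh] [IsLocalRing Oh] [Algebra O Oh]
    [IsLocalHom (algebraMap O Oh)] [hOh : Hensel.IsHenselization O Oh] [Algebra k Oh] [IsScalarTower k O Oh] :
    H8Props.HensEFT.IsHensEFT k Oh := by
  let B := Algebra.EssFiniteType.subalgebra k O
  let p : Ideal B := (maximalIdeal O).comap (algebraMap B O)
  have hM : p.primeCompl = Algebra.EssFiniteType.submonoid k O := by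
    ext x
    show ¬ (algebraMap B O x ∈ maximalIdeal O) ↔ IsUnit (algebraMap B O x)
    rw [mem_maximalIdeal, mem_nonunits_iff, not_not]
  haveI hloc : IsLocalization p.primeCompl O := hM ▸ Algebra.EssFiniteType.isLocalization k O
  let e : Localization.AtPrime p ≃ₐ[B] O := IsLocalization.algEquiv p.primeCompl _ _
  letI : Algebra (Localization.AtPrime p) Oh := ((algebraMap O Oh).comp e.toRingEquiv.toRingHom).toAlgebra
  haveI : IsScalarTower k (Localization.AtPrime p) Oh := IsScalarTower.of_algebraMap_eq fun a => by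
    show algebraMap k Oh a = algebraMap O Oh (e (algebraMap k (Localization.AtPrime p) a))
    rw [IsScalarTower.algebraMap_apply k B (Localization.AtPrime p), e.commutes,
      ← IsScalarTower.algebraMap_apply k B O, ← IsScalarTower.algebraMap_apply]
  have hl : IsLocalHom (algebraMap (Localization.AtPrime p) Oh) := ⟨fun x hx => by
    have h1 : IsUnit (e x) := isUnit_of_map_unit (algebraMap O Oh) _ hx
    simpa using h1.map e.symm⟩
  refine ⟨B, inferInstance, inferInstance, inferInstance, p, inferInstance, inferInstance, inferInstance, hl, ?_⟩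
  refine ⟨hOh.henselian, fun T _ _ f hf => ?_⟩
  have hf' : IsLocalHom (f.comp e.symm.toRingEquiv.toRingHom) := ⟨fun x hx => by
    have h1 : IsUnit (e.symm x) := isUnit_of_map_unit f _ hx
    simpa using h1.map e⟩
  obtain ⟨g, hg, hgu⟩ := hOh.universal T _ hf'
  refine ⟨g, RingHom.ext fun x => ?_, fun g' hg' => hgu g' (RingHom.ext fun x => ?_)⟩
  · show g (algebraMap O Oh (e x)) = f x
    refine (RingHom.congr_fun hg (e x)).trans ?_
    show f (e.symm (e x)) = f x
    rw [e.symm_apply_apply]
  · show g' (algebraMap O Oh x) = f (e.symm x)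
    rw [← hg']
    show _ = g' (algebraMap O Oh (e (e.symm x)))
    rw [e.apply_symm_apply]

/-- Polynomials in generators of the maximal ideal are dense when the residue field is the base. -/
theorem exists_aeval_sub_mem_pow {k C : Type u} [CommRing k] [CommRing C] [IsLocalRing C] [Algebra k C] {N : ℕ}
    (hres : Function.Surjective ((residue C).comp (algebraMap k C))) (c : Fin N → C)
    (hc : maximalIdeal C = Ideal.span (Set.range c)) (r : ℕ) :
    ∀ w : C, ∃ z : MvPolynomial (Fin N) k, w - MvPolynomial.aeval c z ∈ maximalIdeal C ^ r := by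
  have h0 : ∀ w : C, ∃ l : k, w - algebraMap k C l ∈ maximalIdeal C := fun w => by
    obtain ⟨l, hl⟩ := hres (residue C w)
    exact ⟨l, Ideal.Quotient.eq.1 hl.symm⟩
  have hci : ∀ i, c i ∈ maximalIdeal C := fun i => hc ▸ Ideal.subset_span ⟨i, rfl⟩
  have hpow : ∀ r, ∀ w ∈ maximalIdeal C ^ r,
      ∃ z : MvPolynomial (Fin N) k, w - MvPolynomial.aeval c z ∈ maximalIdeal C ^ (r + 1) := by
    intro r
    induction r with
    | zero =>
      intro w _
      obtain ⟨l, hl⟩ := h0 w
      exact ⟨MvPolynomial.C l, by simpa using hl⟩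
    | succ r ih =>
      intro w hw
      rw [pow_succ] at hw
      induction hw using Submodule.mul_induction_on' with
      | mem_mul_mem a ha b hb =>
        rw [hc, Ideal.mem_span_range_iff_exists_fun] at hb
        obtain ⟨v, rfl⟩ := hb
        obtain ⟨z, hz⟩ := ih a ha
        choose l hl using fun i => h0 (v i)
        refine ⟨z * ∑ i, MvPolynomial.C (l i) * MvPolynomial.X i, ?_⟩
        simp only [map_mul, map_sum, MvPolynomial.aeval_C, MvPolynomial.aeval_X]
        have e : a * (∑ i, v i * c i) - MvPolynomial.aeval c z * ∑ i, algebraMap k C (l i) * c i =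
            (a - MvPolynomial.aeval c z) * (∑ i, algebraMap k C (l i) * c i) +
              a * ∑ i, (v i - algebraMap k C (l i)) * c i := by
          simp only [sub_mul, Finset.sum_sub_distrib]; ring
        rw [e]
        refine add_mem ?_ ?_
        · rw [pow_succ]
          exact Ideal.mul_mem_mul hz (Ideal.sum_mem _ fun i _ => Ideal.mul_mem_left _ _ (hci i))
        · rw [show r + 1 + 1 = r + 2 from rfl, pow_add, pow_two]
          exact Ideal.mul_mem_mul ha (Ideal.sum_mem _ fun i _ => Ideal.mul_mem_mul (hl i) (hci i))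
      | add a _ b _ ha hb =>
        obtain ⟨z, hz⟩ := ha; obtain ⟨z', hz'⟩ := hb
        exact ⟨z + z', by simpa [map_add, add_sub_add_comm] using add_mem hz hz'⟩
  intro w
  induction r with
  | zero => exact ⟨0, by simp⟩
  | succ r ih =>
    obtain ⟨z, hz⟩ := ih
    obtain ⟨z', hz'⟩ := hpow r _ hz
    exact ⟨z + z', by rw [map_add, ← sub_sub]; exact hz'⟩

theorem map_quadEval {R S : Type u} [CommRing R] [CommRing S] {N : ℕ} (φ : R →+* S) (a : Fin N → Fin N → R)
    (v : Fin N → R) : φ (VanCyc.quadEval a v) = VanCyc.quadEval (fun i j => φ (a i j)) (fun i => φ (v i)) := by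
  simp only [VanCyc.quadEval, map_sum]
  refine Finset.sum_congr rfl fun i _ => Finset.sum_congr rfl fun j _ => ?_
  split_ifs <;> simp

theorem aeval_quadPoly {R S : Type u} [CommRing R] [CommRing S] [Algebra R S] {N : ℕ} (a : Fin N → Fin N → R)
    (v : Fin N → S) :
    MvPolynomial.aeval v (VanCyc.quadPoly a) = VanCyc.quadEval (fun i j => algebraMap R S (a i j)) v := by
  simp only [VanCyc.quadPoly, VanCyc.quadEval, map_sum]
  refine Finset.sum_congr rfl fun i _ => Finset.sum_congr rfl fun j _ => ?_
  split_ifs <;> simp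

/-- A relation in `(x)³` as a form with coefficients in `(x)`. -/
theorem exists_matrix_of_mem_cube {R : Type u} [CommRing R] {N : ℕ} (x : Fin N → R) {w : R}
    (hw : w ∈ Ideal.span (Set.range x) ^ 3) :
    ∃ r : Matrix (Fin N) (Fin N) R, (∀ i j, r i j ∈ Ideal.span (Set.range x)) ∧ w = x ⬝ᵥ r.mulVec x := by
  rw [pow_succ] at hw
  induction hw using Submodule.mul_induction_on' with
  | mem_mul_mem a ha b hb =>
    rw [pow_two] at ha
    induction ha using Submodule.mul_induction_on' with
    | mem_mul_mem a₁ ha₁ a₂ ha₂ =>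
      obtain ⟨u, rfl⟩ := Ideal.mem_span_range_iff_exists_fun.1 ha₁
      obtain ⟨v, rfl⟩ := Ideal.mem_span_range_iff_exists_fun.1 ha₂
      refine ⟨Matrix.of fun i j => b * (u i * v j), fun i j => Ideal.mul_mem_right _ _ hb, ?_⟩
      simp only [dotProduct, Matrix.mulVec, Matrix.of_apply, Finset.mul_sum, Finset.sum_mul]
      rw [Finset.sum_comm]
      exact Finset.sum_congr rfl fun i _ => Finset.sum_congr rfl fun j _ => by ring
    | add a₁ _ a₂ _ h₁ h₂ =>
      obtain ⟨r, hr, e⟩ := h₁; obtain ⟨r', hr', e'⟩ := h₂
      exact ⟨r + r', fun i j => add_mem (hr i j) (hr' i j), by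
        rw [add_mul, e, e', Matrix.add_mulVec, dotProduct_add]⟩
  | add a _ b _ ha hb =>
    obtain ⟨r, hr, e⟩ := ha; obtain ⟨r', hr', e'⟩ := hb
    exact ⟨r + r', fun i j => add_mem (hr i j) (hr' i j), by rw [e, e', Matrix.add_mulVec, dotProduct_add]⟩

section series

open H02CA.PS MvPowerSeries

variable {R : Type u} [CommRing R] {N : ℕ}

/-- Degree-two exponents. -/
theorem degree_eq_two {σ : Type*} [LinearOrder σ] {d : σ →₀ ℕ} (hd : degree d = 2) :
    ∃ i j, i ≤ j ∧ d = single i 1 + single j 1 := by
  classical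
  have hne : d ≠ 0 := fun h0 => by simp [h0] at hd
  obtain ⟨k, hk⟩ := support_nonempty_iff.mpr hne
  have hle : single k 1 ≤ d := Finsupp.single_le_iff.mpr (Nat.pos_of_ne_zero (mem_support_iff.mp hk))
  have h1 : degree (d - single k 1) = 1 := by
    have := congrArg degree (tsub_add_cancel_of_le hle)
    rw [map_add, degree_single] at this
    omega
  have hne' : d - single k 1 ≠ 0 := fun h0 => by simp [h0] at h1
  obtain ⟨l, hl⟩ := support_nonempty_iff.mpr hne'
  have hle' : single l 1 ≤ d - single k 1 := Finsupp.single_le_iff.mpr (Nat.pos_of_ne_zero (mem_support_iff.mp hl))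
  have h2 : d - single k 1 = single l 1 := by
    have := congrArg degree (tsub_add_cancel_of_le hle')
    rw [map_add, degree_single] at this
    have h0 : d - single k 1 - single l 1 = 0 := (degree_eq_zero_iff _).1 (by omega)
    rw [← tsub_add_cancel_of_le hle', h0, zero_add]
  have hd' : d = single l 1 + single k 1 := by rw [← h2, tsub_add_cancel_of_le hle]
  rcases le_total l k with h | h
  · exact ⟨l, k, h, hd'⟩
  · exact ⟨k, l, h, by rw [hd', add_comm]⟩

theorem coeff_quadPoly (a : Fin N → Fin N → R) (i j : Fin N) (hij : i ≤ j) :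
    MvPolynomial.coeff (single i 1 + single j 1) (VanCyc.quadPoly a) = a i j := by
  classical
  simp only [VanCyc.quadPoly, MvPolynomial.coeff_sum]
  rw [Finset.sum_eq_single i, Finset.sum_eq_single j]
  · rw [if_pos hij, mul_assoc, MvPolynomial.coeff_C_mul, MvPolynomial.X, MvPolynomial.X, MvPolynomial.monomial_mul,
      MvPolynomial.coeff_monomial, if_pos rfl]
    simp
  · intro l _ hl
    split_ifs with h
    · rw [mul_assoc, MvPolynomial.coeff_C_mul, MvPolynomial.X, MvPolynomial.X, MvPolynomial.monomial_mul,
        MvPolynomial.coeff_monomial, if_neg, mul_zero]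
      exact fun e => hl (Finsupp.single_left_injective one_ne_zero (add_left_cancel e))
    · simp
  · simp
  · intro l _ hl
    refine Finset.sum_eq_zero fun m _ => ?_
    split_ifs with h
    · rw [mul_assoc, MvPolynomial.coeff_C_mul, MvPolynomial.X, MvPolynomial.X, MvPolynomial.monomial_mul,
        MvPolynomial.coeff_monomial, if_neg, mul_zero]
      intro e
      rcases (Finsupp.single_add_single_eq_single_add_single one_ne_zero one_ne_zero).1 e with
        ⟨h1, -⟩ | ⟨-, h1, h2⟩ | ⟨h0, -, -⟩
      · exact hl h1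
      · subst h1; subst h2
        exact hl (le_antisymm h hij)
      · omega
    · simp
  · simp

theorem coeff_quadPoly_of_degree_ne (a : Fin N → Fin N → R) {d : Fin N →₀ ℕ} (hd : degree d ≠ 2) :
    MvPolynomial.coeff d (VanCyc.quadPoly a) = 0 := by
  classical
  simp only [VanCyc.quadPoly, MvPolynomial.coeff_sum]
  refine Finset.sum_eq_zero fun i _ => Finset.sum_eq_zero fun j _ => ?_
  split_ifs
  · rw [mul_assoc, MvPolynomial.coeff_C_mul, MvPolynomial.X, MvPolynomial.X, MvPolynomial.monomial_mul,
      MvPolynomial.coeff_monomial, if_neg, mul_zero]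
    rintro rfl
    exact hd (by simp)
  · simp

theorem quadPart_apply (f : MvPowerSeries (Fin N) R) {i j : Fin N} (hij : i ≤ j) :
    VanCyc.quadPart f i j = MvPowerSeries.coeff (single i 1 + single j 1) f := by
  rcases hij.lt_or_eq with h | rfl
  · rw [VanCyc.quadPart, if_neg h.ne, if_pos h]
  · rw [VanCyc.quadPart, if_pos rfl, ← Finsupp.single_add]

theorem sub_quadPoly_mem {f : MvPowerSeries (Fin N) R} (hf : VanCyc.NoLowTerms f) :
    f - (VanCyc.quadPoly (VanCyc.quadPart f) : MvPowerSeries (Fin N) R) ∈ vars (Fin N) R ^ 3 := by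
  refine mem_pow_of_coeff fun d hd => ?_
  rw [map_sub, MvPolynomial.coeff_coe]
  rcases Nat.lt_or_ge (degree d) 2 with h | h
  · rw [coeff_quadPoly_of_degree_ne _ h.ne, sub_zero]
    rcases degree_lt_two h with rfl | ⟨l, rfl⟩
    · rw [MvPowerSeries.coeff_zero_eq_constantCoeff_apply, hf.1]
    · exact hf.2 l
  · obtain ⟨i, j, hij, rfl⟩ := degree_eq_two (show degree d = 2 by omega)
    rw [coeff_quadPoly _ _ _ hij, quadPart_apply f hij, sub_self]

theorem not_mem_cube {k : Type u} [Field k] [NeZero N] {f : MvPowerSeries (Fin N) k}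
    (hf : VanCyc.OrdQuadSeries f) : f ∉ vars (Fin N) k ^ 3 := by
  intro h
  have h0 : VanCyc.quadPart f = 0 := by
    ext i j
    simp only [VanCyc.quadPart, Pi.zero_apply]
    split_ifs
    · exact coeff_eq_zero_of_mem_pow h (by simp)
    · exact coeff_eq_zero_of_mem_pow h (by simp)
    · rfl
  have h1 := hf.2 (Pi.single 0 1) (by simp [h0, VanCyc.quadEval]) (by
    have : VanCyc.polarMatrix (VanCyc.quadPart f) = 0 := by ext i j; simp [h0, VanCyc.polarMatrix]
    rw [this, Matrix.zero_mulVec])
  have := congrFun h1 0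
  simp at this

/-- A substitution with identity linear part preserves the filtration in both directions. -/
theorem exists_subst {k : Type u} [Field k] {Y : Fin N → MvPowerSeries (Fin N) k}
    (hY : ∀ i, Y i - X i ∈ vars (Fin N) k ^ 2) :
    ∃ φ : MvPowerSeries (Fin N) k →ₐ[k] MvPowerSeries (Fin N) k, Function.Bijective φ ∧ (∀ i, φ (X i) = Y i) ∧
      ∀ r, ∀ w, φ w ∈ vars (Fin N) k ^ r ↔ w ∈ vars (Fin N) k ^ r := by
  classical
  have h0 : ∀ i, constantCoeff (Y i) = 0 := fun i => by
    have h := mem_vars_iff.1 (Ideal.pow_le_self two_ne_zero (hY i))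
    simpa using h
  have ha := hasSubst_of_constantCoeff_zero h0
  let φ : MvPowerSeries (Fin N) k →ₐ[k] MvPowerSeries (Fin N) k := substAlgHom ha
  have hφ : ∀ i, φ (X i) = Y i := fun i => substAlgHom_X ha i
  have hφ0 : ∀ i, constantCoeff (φ (X i)) = 0 := fun i => by rw [hφ]; exact h0 i
  have hb : Function.Bijective φ := by
    refine bijective_of_isUnit_det hφ0 ?_
    convert isUnit_one
    convert Matrix.det_one (n := Fin N) (R := k)
    ext i j
    simp only [Matrix.of_apply, hφ]
    have := coeff_eq_zero_of_mem_pow (hY i) (d := single j 1) (by simp)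
    rw [map_sub, sub_eq_zero] at this
    rw [this, coeff_index_single_X, Matrix.one_apply]
    exact if_congr eq_comm rfl rfl
  let e := AlgEquiv.ofBijective φ hb
  have he : ∀ i, constantCoeff (e.symm (X i)) = 0 := fun i => by
    rw [← constantCoeff_map hφ0]
    show constantCoeff (e (e.symm (X i))) = 0
    rw [e.apply_symm_apply, constantCoeff_X]
  refine ⟨φ, hb, hφ, fun r w => ⟨fun h => ?_, fun h => map_vars_pow hφ0 h⟩⟩
  have := map_vars_pow (φ := e.symm.toAlgHom) he h
  rwa [show e.symm.toAlgHom (φ w) = w from e.symm_apply_apply w] at this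

end series

end Groth.Agent.H9Quad
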